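import Cfsg.Agent.Snd.Defs
import Mathlib.GroupTheory.Perm.Cycle.PossibleTypes
import Mathlib.GroupTheory.GroupAction.Period
import Mathlib.GroupTheory.SpecificGroups.Alternating

/-!
# S4905: the Babai–Seress argument

* `le_three_mul_support` (Bochert): let `u ≠ 1` in the range have minimal support `m`; if
  `m ≤ 3` it is a transposition or 3-cycle and Mathlib's Jordan theorems apply (`Tr ρ 2` gives
  primitivity). Else fix `α` with `u α ≠ α` and `β` fixed by `u` (if none, `m = n`). For `g` in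
  the coset `C = {g | g α = α, g (u α) = β}` put `v = g u g⁻¹`: `v α = β`, so `u v α ≠ v u α`
  and `⁅u, v⁆ ≠ 1`. With `Δ = supp u ∩ supp v`, `supp ⁅u, v⁆ ⊆ Δ ∪ u Δ ∪ v Δ` (up to inverses), so
  `m ≤ 3 #Δ`. Averaging over `C`: for `γ ∉ {α, u α}` the point `g γ` is equidistributed on
  `Ω ∖ {α, β}` (3-transitivity: left multiplication by the stabiliser of `α, β`), so some `g`
  has `#Δ ≤ 1 + (m-2)(m-1)/(n-2)`. Hence `(m-3)(n-2) ≤ 3(m-1)(m-2)`, so `n ≤ 3m + 8`.
* `alt_le_of_primes`: take `σ` with one cycle of each length `p ∈ s` (support of size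
  `≤ t`) and `g` agreeing with it on the support. For `p ∈ s` let `g_p = (ρ g) ^ m_p`, `m_p` the
  `p'`-part of the order: `g_p ≠ 1`, and if `g_p` moves `x` then `p` divides the length `l x ≤ n`
  of the cycle of `x`. So `∏ p ^ #supp g_p ≤ ∏ x, l x ≤ n ^ n`; with `n ≤ 3 #supp + 8` this gives
  `n ^ (4 (n - 8)) ≤ n ^ (3 n)`, false for `n > 32`.
-/

set_option autoImplicit false
set_option linter.unusedSectionVars false

namespace Cfsg.Snd

open Equiv Finset

variable {Ω : Type*} [Fintype Ω] [DecidableEq Ω] {G : Type*} [Group G] [Finite G] {ρ : G →* Perm Ω}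

namespace Babai

theorem conj_mem (h : Tr ρ 3) {u : Perm Ω} (hu : u ∈ ρ.range) (h3 : #u.support ≤ 3) {τ : Perm Ω}
    (hτ : IsConj u τ) : τ ∈ ρ.range := by
  obtain ⟨σ, rfl⟩ := isConj_iff.1 hτ
  obtain ⟨g, hg⟩ := h σ u.support h3
  have e : σ * u * σ⁻¹ = ρ g * u * (ρ g)⁻¹ := by
    have e1 : (σ⁻¹ * ρ g) * u = u * (σ⁻¹ * ρ g) := by
      ext x
      simp only [Perm.mul_apply]
      by_cases hx : x ∈ u.support
      · rw [hg x hx, hg _ (Perm.apply_mem_support.2 hx)]
        simp
      · have h1 : u x = x := Perm.notMem_support.1 hx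
        rw [h1]
        by_contra hne
        have h2 : σ⁻¹ (ρ g x) ∈ u.support := Perm.mem_support.2 fun e => hne e.symm
        have h4 := hg _ h2
        simp only [Perm.coe_inv, Equiv.apply_symm_apply] at h4
        have h5 := (ρ g).injective h4
        exact hx (h5 ▸ h2)
    calc σ * u * σ⁻¹ = σ * (u * (σ⁻¹ * ρ g)) * (ρ g)⁻¹ := by group
      _ = ρ g * u * (ρ g)⁻¹ := by rw [← e1]; group
  rw [e]
  exact mul_mem (mul_mem ⟨g, rfl⟩ hu) (inv_mem ⟨g, rfl⟩)

theorem alt_le_of_small (h : Tr ρ 3) {u : Perm Ω} (hu : u ∈ ρ.range) (h1 : u ≠ 1)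
    (h3 : #u.support ≤ 3) : alternatingGroup Ω ≤ ρ.range := by
  have h2 := Perm.two_le_card_support_of_ne_one h1
  rcases (by omega : #u.support = 2 ∨ #u.support = 3) with e | e
  · have : (⊤ : Subgroup (Perm Ω)) ≤ ρ.range := by
      rw [← Perm.closure_isSwap, Subgroup.closure_le]
      intro τ hτ
      refine conj_mem h hu h3 (Perm.isConj_iff_cycleType_eq.2 ?_)
      rw [Perm.isSwap_iff_cycleType.1 (Perm.card_support_eq_two.1 e),
        Perm.isSwap_iff_cycleType.1 hτ]
    exact le_top.trans this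
  · rw [← Perm.closure_three_cycles_eq_alternating, Subgroup.closure_le]
    intro τ hτ
    refine conj_mem h hu h3 (Perm.isConj_iff_cycleType_eq.2 ?_)
    have h4 : u.cycleType = {3} := card_support_eq_three_iff.1 e
    have h5 : τ.cycleType = {3} := hτ
    rw [h4, h5]

theorem card_support_comm (u v : Perm Ω) :
    #(u * v * u⁻¹ * v⁻¹).support ≤ 3 * #(u.support ∩ v.support) := by
  have hsub : (u * v * u⁻¹ * v⁻¹).support ⊆ (u.support ∩ v.support) ∪
      ((u.support ∩ v.support).image u ∪ (u.support ∩ v.support).image v) := by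
    intro x hx
    by_contra hn
    simp only [mem_union, not_or, mem_image, not_exists, not_and, mem_inter] at hn
    obtain ⟨hn1, hn2, hn3⟩ := hn
    have key : u⁻¹ (v⁻¹ x) = v⁻¹ (u⁻¹ x) := by
      have inv_fix : ∀ (w : Perm Ω) (y : Ω), y ∉ w.support → w⁻¹ y = y := fun w y hy => by
        rw [← Perm.support_inv] at hy
        exact Perm.notMem_support.1 hy
      have inv_mem : ∀ (w : Perm Ω) (y : Ω), y ∈ w.support → w⁻¹ y ∈ w.support := fun w y hy => by
        rw [← Perm.apply_mem_support]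
        simpa using hy
      by_cases hu : x ∈ u.support
      · have hv := hn1 hu
        rw [inv_fix v x hv, inv_fix v (u⁻¹ x)]
        intro hv'
        exact hn2 (u⁻¹ x) ⟨inv_mem u x hu, hv'⟩ (by simp)
      · rw [inv_fix u x hu]
        by_cases hv : x ∈ v.support
        · rw [inv_fix u (v⁻¹ x)]
          intro hu'
          exact hn3 (v⁻¹ x) ⟨hu', inv_mem v x hv⟩ (by simp)
        · rw [inv_fix v x hv, inv_fix u x hu]
    apply Perm.mem_support.1 hx
    simp only [Perm.mul_apply]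
    rw [key]
    simp
  refine (card_le_card hsub).trans ((card_union_le _ _).trans ?_)
  have h1 := card_union_le ((u.support ∩ v.support).image u) ((u.support ∩ v.support).image v)
  have h2 : #((u.support ∩ v.support).image u) ≤ _ := card_image_le
  have h3 : #((u.support ∩ v.support).image v) ≤ _ := card_image_le
  omega

/-- Equidistribution of the image of a third point. -/
theorem equi [Fintype G] (h : Tr ρ 3) {α α' β γ δ : Ω} (hγ : γ ≠ α) (hγ' : γ ≠ α')
    (hαβ : α ≠ β) (hδ : δ ≠ α) (hδ' : δ ≠ β) :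
    (Fintype.card Ω - 2) * #{g ∈ ({g : G | ρ g α = α ∧ ρ g α' = β} : Finset G) | ρ g γ = δ} =
      #({g : G | ρ g α = α ∧ ρ g α' = β} : Finset G) := by
  set C : Finset G := {g : G | ρ g α = α ∧ ρ g α' = β} with hC
  have hle : ∀ ε ε' : Ω, ε ≠ α → ε ≠ β → ε' ≠ α → ε' ≠ β →
      #{g ∈ C | ρ g γ = ε} ≤ #{g ∈ C | ρ g γ = ε'} := by
    intro ε ε' h1 h2 h3 h4
    obtain ⟨k, hk⟩ := h (swap ε ε') {α, β, ε} (card_le_three)
    have ka : ρ k α = α := by
      rw [hk α (by simp), swap_apply_of_ne_of_ne h1.symm h3.symm]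
    have kb : ρ k β = β := by
      rw [hk β (by simp), swap_apply_of_ne_of_ne h2.symm h4.symm]
    have ke : ρ k ε = ε' := by
      rw [hk ε (by simp), swap_apply_left]
    refine card_le_card_of_injOn (fun g => k * g) ?_ fun a _ b _ e => mul_left_cancel e
    intro g hg
    simp only [hC, coe_filter, mem_filter, mem_univ, true_and, Set.mem_setOf_eq, map_mul,
      Perm.mul_apply] at hg ⊢
    rw [hg.1.1, hg.1.2, hg.2]
    exact ⟨⟨ka, kb⟩, ke⟩
  have hsum : #C = ∑ ε ∈ (univ \ {α, β} : Finset Ω), #{g ∈ C | ρ g γ = ε} := by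
    refine card_eq_sum_card_fiberwise fun g hg => ?_
    simp only [hC, coe_filter, mem_univ, true_and, Set.mem_setOf_eq] at hg
    simp only [coe_sdiff, coe_univ, coe_insert, coe_singleton, Set.mem_diff, Set.mem_univ,
      Set.mem_insert_iff, Set.mem_singleton_iff, not_or, true_and]
    exact ⟨fun e => hγ ((ρ g).injective (e.trans hg.1.symm)),
      fun e => hγ' ((ρ g).injective (e.trans hg.2.symm))⟩
  rw [hsum, sum_congr rfl (g := fun _ => #{g ∈ C | ρ g γ = δ}), sum_const, smul_eq_mul,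
    card_univ_diff, card_pair hαβ]
  intro ε hε
  simp only [mem_sdiff, mem_univ, mem_insert, mem_singleton, not_or, true_and] at hε
  exact le_antisymm (hle _ _ hε.1 hε.2 hδ hδ') (hle _ _ hδ hδ' hε.1 hε.2)

theorem min_bound (h : Tr ρ 3) {u : Perm Ω} (hu : u ∈ ρ.range) (h4 : 4 ≤ #u.support)
    (hmin : ∀ w ∈ ρ.range, w ≠ 1 → #u.support ≤ #w.support) :
    Fintype.card Ω ≤ 3 * #u.support + 8 := by
  classical
  cases nonempty_fintype G
  by_cases hβ : ∀ β, β ∈ u.support
  · have : Fintype.card Ω ≤ #u.support := by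
      rw [← card_univ]
      exact card_le_card fun β _ => hβ β
    omega
  push Not at hβ
  obtain ⟨β, hβ⟩ := hβ
  obtain ⟨α, hα⟩ : u.support.Nonempty := card_pos.1 (by omega)
  have hα' : u α ∈ u.support := Perm.apply_mem_support.2 hα
  have hαα : u α ≠ α := Perm.mem_support.1 hα
  have hαβ : α ≠ β := fun e => hβ (e ▸ hα)
  set C : Finset G := {g : G | ρ g α = α ∧ ρ g (u α) = β} with hC
  have hCpos : 0 < #C := by
    obtain ⟨k, hk⟩ := h (swap (u α) β) {α, u α} (card_le_two.trans (by norm_num))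
    refine card_pos.2 ⟨k, ?_⟩
    simp only [hC, mem_filter, mem_univ, true_and]
    rw [hk α (by simp), hk (u α) (by simp), swap_apply_of_ne_of_ne hαα.symm hαβ, swap_apply_left]
    exact ⟨rfl, rfl⟩
  have h1 : ∀ g ∈ C, #u.support ≤ 3 * #{γ ∈ u.support | ρ g γ ∈ u.support} := by
    intro g hg
    simp only [hC, mem_filter, mem_univ, true_and] at hg
    obtain ⟨v, hv⟩ : ∃ v, v = ρ g * u * (ρ g)⁻¹ := ⟨_, rfl⟩
    have hvm : v ∈ ρ.range := hv ▸ mul_mem (mul_mem ⟨g, rfl⟩ hu) (inv_mem ⟨g, rfl⟩)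
    have hva : v α = β := by
      rw [hv]
      simp only [Perm.mul_apply]
      rw [show (ρ g)⁻¹ α = α from by rw [Perm.inv_eq_iff_eq, hg.1], hg.2]
    have hne : u * v * u⁻¹ * v⁻¹ ≠ 1 := by
      intro e
      have e1 : u * v = v * u := by
        rw [mul_inv_eq_one, mul_inv_eq_iff_eq_mul] at e
        exact e
      have e2 := congrArg (fun w : Perm Ω => w α) e1
      simp only [Perm.mul_apply] at e2
      rw [hva, Perm.notMem_support.1 hβ, ← hva] at e2
      exact hαα (v.injective e2).symm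
    refine (hmin _ (mul_mem (mul_mem (mul_mem hu hvm) (inv_mem hu)) (inv_mem hvm)) hne).trans
      ((card_support_comm u v).trans (Nat.mul_le_mul_left _ ?_))
    refine card_le_card_of_injOn (fun x => (ρ g)⁻¹ x) ?_ fun a _ b _ e => (ρ g)⁻¹.injective e
    intro x hx
    simp only [coe_inter, Set.mem_inter_iff, mem_coe, hv, Perm.support_conj, mem_map_equiv] at hx
    simp only [coe_filter, Set.mem_setOf_eq, Perm.coe_inv, Equiv.apply_symm_apply]
    exact ⟨hx.2, hx.1⟩
  obtain ⟨f, hf⟩ : ∃ f : Ω → ℕ, f = fun γ => #{g ∈ C | ρ g γ ∈ u.support} := ⟨_, rfl⟩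
  have h2 : ∑ g ∈ C, #{γ ∈ u.support | ρ g γ ∈ u.support} = ∑ γ ∈ u.support, f γ := by
    simp only [hf, card_filter]
    exact sum_comm
  have f1 : f α ≤ #C := by
    rw [hf]
    exact card_filter_le _ _
  have f2 : f (u α) = 0 := by
    rw [hf]
    simp only [card_eq_zero, filter_eq_empty_iff]
    intro g hg
    simp only [hC, mem_filter, mem_univ, true_and] at hg
    rw [hg.2]
    exact hβ
  have f3 : ∀ γ ∈ (u.support.erase α).erase (u α),
      (Fintype.card Ω - 2) * f γ = (#u.support - 1) * #C := by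
    intro γ hγ
    simp only [mem_erase] at hγ
    have e : f γ = ∑ δ ∈ u.support.erase α, #{g ∈ C | ρ g γ = δ} := by
      rw [hf]
      simp only
      rw [card_eq_sum_card_fiberwise (f := fun g => ρ g γ) (t := u.support.erase α)]
      · refine sum_congr rfl fun δ hδ => congrArg card ?_
        ext g
        simp only [mem_filter, and_congr_left_iff, and_iff_left_iff_imp]
        intro e _
        exact e ▸ (mem_erase.1 hδ).2
      · intro g hg
        simp only [hC, coe_filter, mem_filter, mem_univ, true_and, Set.mem_setOf_eq] at hg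
        simp only [coe_erase, Set.mem_diff, mem_coe, Set.mem_singleton_iff]
        exact ⟨hg.2, fun e => hγ.2.1 ((ρ g).injective (e.trans hg.1.1.symm))⟩
    rw [e, mul_sum, sum_congr rfl (g := fun _ => #C), sum_const, smul_eq_mul,
      card_erase_of_mem hα]
    intro δ hδ
    exact equi h hγ.2.1 hγ.1 hαβ (mem_erase.1 hδ).1 fun e => hβ (e ▸ (mem_erase.1 hδ).2)
  have h3 : ∑ γ ∈ u.support, f γ = f α + (f (u α) + ∑ γ ∈ (u.support.erase α).erase (u α), f γ) := by
    rw [add_sum_erase _ _ (mem_erase.2 ⟨hαα, hα'⟩), add_sum_erase _ _ hα]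
  have h5 : (Fintype.card Ω - 2) * ∑ γ ∈ (u.support.erase α).erase (u α), f γ =
      (#u.support - 1 - 1) * ((#u.support - 1) * #C) := by
    rw [mul_sum, sum_congr rfl f3, sum_const, smul_eq_mul,
      card_erase_of_mem (mem_erase.2 ⟨hαα, hα'⟩), card_erase_of_mem hα]
  have h6 : #C * #u.support ≤ 3 * ∑ γ ∈ u.support, f γ := by
    rw [← h2, mul_sum, ← smul_eq_mul, ← sum_const]
    exact sum_le_sum h1
  obtain ⟨m, hm⟩ : ∃ m, #u.support = m + 4 := ⟨#u.support - 4, by omega⟩
  by_contra hlt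
  obtain ⟨n, hn⟩ : ∃ n, Fintype.card Ω = n + 2 := ⟨Fintype.card Ω - 2, by omega⟩
  rw [h3, f2, hm] at h6
  rw [hm, hn, Nat.add_sub_cancel, show m + 4 - 1 = m + 3 from rfl,
    show m + 3 - 1 = m + 2 from rfl] at h5
  obtain ⟨S, hS⟩ : ∃ S, S = ∑ γ ∈ (u.support.erase α).erase (u α), f γ := ⟨_, rfl⟩
  rw [← hS] at h5 h6
  have h7 : #C * (m + 1) ≤ 3 * S := by nlinarith
  have h8 : #C * (n * (m + 1)) ≤ #C * (3 * ((m + 2) * (m + 3))) := by
    calc #C * (n * (m + 1)) = n * (#C * (m + 1)) := by ring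
      _ ≤ n * (3 * S) := Nat.mul_le_mul_left _ h7
      _ = 3 * (n * S) := by ring
      _ = _ := by rw [h5]; ring
  have h9 := Nat.le_of_mul_le_mul_left h8 hCpos
  have h10 : 3 * m + 19 ≤ n := by omega
  nlinarith

end Babai

theorem le_three_mul_support (h : Tr ρ 3) (hA : ¬ alternatingGroup Ω ≤ ρ.range) {g : G}
    (hg : ρ g ≠ 1) : Fintype.card Ω ≤ 3 * #(ρ g).support + 8 := by
  classical
  obtain ⟨u, hu, hmin⟩ := exists_min_image ({w : Perm Ω | w ∈ ρ.range ∧ w ≠ 1} : Finset (Perm Ω))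
    (fun w => #w.support) ⟨ρ g, by simpa using hg⟩
  simp only [mem_filter, mem_univ, true_and] at hu hmin
  have h4 : 4 ≤ #u.support := by
    by_contra hlt
    exact hA (Babai.alt_le_of_small h hu.1 hu.2 (by omega))
  have h1 := Babai.min_bound h hu.1 h4 fun w hw hw1 => hmin w ⟨hw, hw1⟩
  have h2 := hmin (ρ g) ⟨⟨g, rfl⟩, hg⟩
  omega

theorem alt_le_of_primes {t : ℕ} (h : Tr ρ t) (h3 : 3 ≤ t) (ht : t ≤ Fintype.card Ω)
    (hn : 32 < Fintype.card Ω) {s : Finset ℕ} (hs : ∀ p ∈ s, p.Prime) (h1 : ∑ p ∈ s, p ≤ t)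
    (h2 : Fintype.card Ω ^ 4 ≤ ∏ p ∈ s, p) : alternatingGroup Ω ≤ ρ.range := by
  classical
  by_contra hA
  have hT : Tr ρ 3 := fun σ F hF => h σ F (hF.trans h3)
  have hsum : s.val.sum = ∑ p ∈ s, p := by
    rw [Finset.sum, Multiset.map_id']
  obtain ⟨σ, hσ⟩ := (Perm.exists_with_cycleType_iff Ω (m := s.val)).2
    ⟨hsum ▸ h1.trans ht, fun p hp => (hs p hp).two_le⟩
  obtain ⟨g, hg⟩ := h σ σ.support (by rw [← Perm.sum_cycleType, hσ, hsum]; exact h1)
  have hpow : ∀ (k : ℕ), ∀ x ∈ σ.support, (ρ g ^ k) x = (σ ^ k) x := by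
    intro k x hx
    induction k with
    | zero => simp
    | succ k ih =>
      rw [pow_succ', pow_succ', Perm.mul_apply, Perm.mul_apply, ih,
        hg _ (Perm.pow_apply_mem_support.2 hx)]
  obtain ⟨N, hN⟩ : ∃ N, N = orderOf (ρ g) := ⟨_, rfl⟩
  have hN0 : N ≠ 0 := hN ▸ (orderOf_pos _).ne'
  have hσN : orderOf σ ∣ N := by
    rw [orderOf_dvd_iff_pow_eq_one]
    ext x
    by_cases hx : x ∈ σ.support
    · rw [← hpow N x hx, hN, pow_orderOf_eq_one]
    · exact Perm.pow_apply_eq_self_of_apply_eq_self (Perm.notMem_support.1 hx) N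
  have hb : ∀ p ∈ s, Fintype.card Ω ≤ 3 * #(ρ g ^ ordCompl[p] N).support + 8 := by
    intro p hp
    rw [← map_pow]
    refine le_three_mul_support hT hA fun e => ?_
    rw [map_pow, ← orderOf_dvd_iff_pow_eq_one, ← hN] at e
    exact Nat.not_dvd_ordCompl (hs p hp) hN0
      (((Perm.dvd_of_mem_cycleType (hσ ▸ hp)).trans hσN).trans e)
  have hl : ∀ x : Ω, ∏ p ∈ s with x ∈ (ρ g ^ ordCompl[p] N).support, p ≤ Fintype.card Ω := by
    intro x
    have hpos := MulAction.period_pos_of_orderOf_pos (orderOf_pos (ρ g)) x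
    have hle : MulAction.period (ρ g) x ≤ Fintype.card Ω := by
      rw [MulAction.period_eq_minimalPeriod]
      exact Function.minimalPeriod_le_card
    refine (Nat.le_of_dvd hpos (Finset.prod_primes_dvd _
      (fun p hp => (hs p (mem_filter.1 hp).1).prime) fun p hp => ?_)).trans hle
    obtain ⟨hp1, hp2⟩ := mem_filter.1 hp
    by_contra hnd
    apply Perm.mem_support.1 hp2
    have hd : MulAction.period (ρ g) x ∣ ordProj[p] N * ordCompl[p] N := by
      rw [Nat.ordProj_mul_ordCompl_eq_self, hN]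
      exact MulAction.period_dvd_orderOf _ _
    exact (MulAction.pow_smul_eq_iff_period_dvd (m := ρ g) (a := x)).2
      ((((hs p hp1).coprime_iff_not_dvd.2 hnd).symm.pow_right _).dvd_of_dvd_mul_left hd)
  have hprod : ∏ p ∈ s, p ^ #(ρ g ^ ordCompl[p] N).support ≤
      Fintype.card Ω ^ Fintype.card Ω := by
    calc ∏ p ∈ s, p ^ #(ρ g ^ ordCompl[p] N).support
        = ∏ p ∈ s, ∏ x : Ω, if x ∈ (ρ g ^ ordCompl[p] N).support then p else 1 := by
          refine prod_congr rfl fun p _ => ?_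
          rw [prod_ite_mem, univ_inter, prod_const]
      _ = ∏ x : Ω, ∏ p ∈ s with x ∈ (ρ g ^ ordCompl[p] N).support, p := by
          rw [prod_comm]
          exact prod_congr rfl fun x _ => (prod_filter _ _).symm
      _ ≤ ∏ _x : Ω, Fintype.card Ω := prod_le_prod' fun x _ => hl x
      _ = _ := by rw [prod_const, card_univ]
  have hfin : Fintype.card Ω ^ (4 * (Fintype.card Ω - 8)) ≤
      Fintype.card Ω ^ (Fintype.card Ω * 3) := by
    calc Fintype.card Ω ^ (4 * (Fintype.card Ω - 8))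
        = (Fintype.card Ω ^ 4) ^ (Fintype.card Ω - 8) := by rw [pow_mul]
      _ ≤ (∏ p ∈ s, p) ^ (Fintype.card Ω - 8) := Nat.pow_le_pow_left h2 _
      _ = ∏ p ∈ s, p ^ (Fintype.card Ω - 8) := (prod_pow _ _ _).symm
      _ ≤ ∏ p ∈ s, (p ^ #(ρ g ^ ordCompl[p] N).support) ^ 3 := by
          refine prod_le_prod' fun p hp => ?_
          rw [← pow_mul]
          refine Nat.pow_le_pow_right (hs p hp).pos ?_
          have := hb p hp
          omega
      _ = (∏ p ∈ s, p ^ #(ρ g ^ ordCompl[p] N).support) ^ 3 := prod_pow _ _ _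
      _ ≤ (Fintype.card Ω ^ Fintype.card Ω) ^ 3 := Nat.pow_le_pow_left hprod _
      _ = _ := by rw [← pow_mul]
  have := (Nat.pow_le_pow_iff_right (by omega : 1 < Fintype.card Ω)).1 hfin
  omega

end Cfsg.Snd
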