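import Cfsg.Agent.Snd.Tool

/-!
# S4905 for `n ≤ 5`

`n ≤ 2`: the order. `n = 3`: non-abelian of order 6. `n = 4`: `|G| = 24`, `|G : G'| = 2`; a normal
Sylow 3-subgroup would give a quotient of order 8; so there are four, the kernel `K` of the action
has order `≤ 2`, and `G/K` of order 12 would be `A₄` with three linear characters.

`n = 5`: normal subgroups have index 1, 2, 120 (`exists_sublist`). Let `χ` have degree 4. If
`ε χ = χ`, a constituent `φ₁` of `χ|A` has degree 2 and `det φ₁ = 1` (`A` is perfect: a linear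
character `≠ 1` of `A` lies under a character of degree 2), so involutions of `A` act as `± 1`; they
generate a normal subgroup of `G`, i.e. `A`, so `φ₁` is linear. (Or: `A` is simple, use
`Char/SimpleLin`.) So `ε χ ≠ χ` and `χ χ̄ = 1 + 15` with `15 = 4 + 5 + 6` (`typeI_of_mul_star`) or
`5 + 5 + 5`: then on `A`, `φ² = 1 + 3 ψ`, alternating square (degree 6) `1 + ψ`, `φ(g²) = ψ - 1` has
norm 2, but `fsInd (φ²) = 1 + 3 = 4` (`ψ` real of odd degree).
-/

set_option autoImplicit false
set_option linter.unusedSectionVars false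

namespace Cfsg.Snd

open Equiv Finset

variable {G : Type*} [Group G] [Finite G]

namespace Five

theorem equiv_of_index {n : ℕ} (hG : Nat.card G = n.factorial) (H : Subgroup G) (hH : H.index = n)
    (h : ∀ N : Subgroup G, N.Normal → n ∣ N.index → N.index = n.factorial) :
    Nonempty (G ≃* Perm (Fin n)) := by
  classical
  have h1 : H.normalCore = ⊥ := by
    have := h H.normalCore inferInstance (hH ▸ Subgroup.index_dvd_of_le H.normalCore_le)
    have h2 := H.normalCore.card_mul_index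
    rw [this, hG] at h2
    exact Subgroup.card_eq_one.1 (Nat.eq_of_mul_eq_mul_right n.factorial_pos (by rw [h2, one_mul]))
  rw [Subgroup.normalCore_eq_ker, MonoidHom.ker_eq_bot_iff] at h1
  have hc : Nat.card (G ⧸ H) = n := hH
  cases nonempty_fintype (G ⧸ H)
  have hb : Function.Bijective (MulAction.toPermHom G (G ⧸ H)) :=
    h1.bijective_of_nat_card_le (by rw [Nat.card_perm, hc, hG])
  exact ⟨(MulEquiv.ofBijective _ hb).trans (Finite.equivFinOfCardEq hc).permCongrHom⟩

theorem isCyclic_of_le_two {n : ℕ} (hn : n ≤ 2) (h : Nat.card G = n.factorial) : IsCyclic G := by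
  have : n.factorial = 1 ∨ n.factorial = 2 := by interval_cases n <;> simp
  rcases this with h' | h'
  · have := (Nat.card_eq_one_iff_unique.1 (h.trans h')).1
    exact isCyclic_of_subsingleton
  · exact isCyclic_of_prime_card (h.trans h')

theorem index_mem {l : List ℕ} (h : DegList G l) (N : Subgroup G) [N.Normal] :
    N.index ∈ (l.sublists.filter fun s => 1 ∈ s ∧ (s.map (· ^ 2)).sum ∣ (l.map (· ^ 2)).sum ∧
      ∀ d ∈ s, d ∣ (s.map (· ^ 2)).sum).map fun s => (s.map (· ^ 2)).sum := by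
  obtain ⟨s, h1, h2, h3, h4⟩ := h.exists_sublist N
  refine List.mem_map.2 ⟨s, List.mem_filter.2 ⟨List.mem_sublists.2 h1, ?_⟩, h3⟩
  rw [decide_eq_true_eq, h3, ← h.card_eq]
  exact ⟨h2, N.index_dvd_card, h4⟩

variable {ε : G →* ℤˣ}

theorem index_ker (hε : ε ≠ 1) : ε.ker.index = 2 := by
  have h1 : ε.range = ⊤ := by
    obtain ⟨g, hg⟩ : ∃ g, ε g ≠ 1 := by
      by_contra h
      push Not at h
      exact hε (MonoidHom.ext h)
    rw [eq_top_iff]
    intro x _
    rcases Int.units_eq_one_or x with rfl | rfl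
    · exact one_mem _
    · exact ⟨g, (Int.units_eq_one_or _).resolve_left hg⟩
  rw [Subgroup.index_ker, h1, Subgroup.card_top, Nat.card_eq_fintype_card, Fintype.card_units_int]

theorem sg_mul_comp (φ : G → ℂ) : (sg ε * φ) ∘ ε.ker.subtype = φ ∘ ε.ker.subtype := by
  funext x
  have : ε x = 1 := x.2
  simp [sg, this]

theorem eq_ker_of_le (hε : ε ≠ 1) (hG : Nat.card G = 120)
    (hN : ∀ N : Subgroup G, N.Normal → N.index = 1 ∨ N.index = 2 ∨ N.index = 120)
    {N : Subgroup G} (h1 : N.Normal) (h2 : N ≤ ε.ker) (h3 : N ≠ ⊥) : N = ε.ker := by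
  have h4 := Subgroup.index_dvd_of_le h2
  have h5 := N.card_mul_index
  have h6 := ε.ker.card_mul_index
  rw [index_ker hε] at h4 h6
  rcases hN N h1 with h | h | h
  · omega
  · exact Subgroup.eq_of_le_of_card_ge h2 (by rw [h] at h5; omega)
  · exact absurd (Subgroup.card_eq_one.1 (by rw [h] at h5; omega)) h3

theorem sg_mul_ne (hε : ε ≠ 1) (hG : Nat.card G = 120)
    (hN : ∀ N : Subgroup G, N.Normal → N.index = 1 ∨ N.index = 2 ∨ N.index = 120)
    (χ : IrrCharacter G) (h4 : charDegree χ.1 = 4) : sg ε * χ.1 ≠ χ.1 := by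
  intro h
  have hc := χ.isCharacter.comp ε.ker.subtype
  have hχ1 : χ.1 1 = 4 := by rw [χ.apply_one, h4]; norm_num
  have hip : ip (χ.1 ∘ ε.ker.subtype) (χ.1 ∘ ε.ker.subtype) = 2 := by
    rw [ip_ker hε, h, χ.ip_self]; norm_num
  have hip1 : ip (χ.1 ∘ ε.ker.subtype) (fun _ => 1) = 0 := by
    have h0 : ip χ.1 (fun _ => 1) = 0 :=
      IrrCharacter.ip_of_ne (χ := χ) (ψ := IrrCharacter.one G) fun e => by
        rw [e] at hχ1; norm_num at hχ1
    have h1 : ip χ.1 (sg ε * fun _ => 1) = 0 :=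
      IrrCharacter.ip_of_ne (χ := χ) (ψ := ⟨_, isIrr_sg_mul ε (IrrCharacter.one G)⟩) fun e => by
        rw [e] at hχ1; norm_num [sg] at hχ1
    have := ip_ker hε χ.1 (fun _ => 1)
    rwa [h0, h1, add_zero] at this
  obtain ⟨φ₁, hφ₁⟩ := hc.exists_constituent fun h0 => by
    have := congrFun h0 1
    simp [hχ1] at this
  have hc2 := hc.sub_irr φ₁ hφ₁
  obtain ⟨m, hm⟩ := hc.exists_ip_eq_nat φ₁.isCharacter
  obtain ⟨m', hm'⟩ := hc2.exists_ip_eq_nat hc2
  have hm2 : ip φ₁.1 (χ.1 ∘ ε.ker.subtype) = m := by rw [← conj_ip, hm, map_natCast]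
  have hirr : IsIrrCharacter ε.ker (χ.1 ∘ ε.ker.subtype - φ₁.1) := by
    rw [hc2.isIrr_iff, hm']
    rw [ip_sub_left, ip_sub_right, ip_sub_right, hip, hm, hm2, φ₁.ip_self] at hm'
    rw [hm, Nat.cast_ne_zero] at hφ₁
    have : m' + 2 * m = 3 := by
      have : (m' : ℂ) + 2 * m = 3 := by rw [← hm']; ring
      exact_mod_cast this
    obtain rfl : m' = 1 := by omega
    simp
  obtain ⟨φ₂, hφ₂⟩ : ∃ φ₂ : IrrCharacter ε.ker, χ.1 ∘ ε.ker.subtype = φ₁.1 + φ₂.1 :=
    ⟨⟨_, hirr⟩, by simp⟩
  have hsum : charDegree φ₁.1 + charDegree φ₂.1 = 4 := by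
    have := congrFun hφ₂ 1
    rw [Pi.add_apply, φ₁.apply_one, φ₂.apply_one, Function.comp, map_one, hχ1] at this
    exact_mod_cast this.symm
  -- `A` is perfect
  have hperf : commutator ε.ker = ⊤ := by
    have h1 : ⁅ε.ker, ε.ker⁆ = ε.ker := by
      refine eq_ker_of_le hε hG hN inferInstance (Subgroup.commutator_le_left _ _) fun h0 => ?_
      have : IsMulCommutative ε.ker := ⟨⟨fun a b => Subtype.ext (by
        have := Subgroup.commutator_mem_commutator a.2 b.2
        rw [h0, Subgroup.mem_bot, commutatorElement_eq_one_iff_mul_comm] at this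
        exact this)⟩⟩
      have h1 := charDegree_eq_of_apply_one (χ := φ₁.1) (n := 1)
        (by rw [φ₁.apply_one_eq_one_of_isMulCommutative]; simp)
      have h2 := charDegree_eq_of_apply_one (χ := φ₂.1) (n := 1)
        (by rw [φ₂.apply_one_eq_one_of_isMulCommutative]; simp)
      omega
    apply Subgroup.map_injective ε.ker.subtype_injective
    rw [Subgroup.map_subtype_commutator, h1, ← MonoidHom.range_eq_map, Subgroup.range_subtype]
  have hlin : ∀ θ : IrrCharacter ε.ker, θ.1 1 = 1 → θ = IrrCharacter.one _ := fun θ hθ => by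
    rw [← IrrCharacter.charKer_eq_top_iff, eq_top_iff, ← hperf]
    exact θ.commutator_le_charKer_iff.2 hθ
  have hne : ∀ φ φ' : IrrCharacter ε.ker, χ.1 ∘ ε.ker.subtype = φ.1 + φ'.1 →
      charDegree φ.1 ≠ 1 := fun φ φ' e h1 => by
    obtain rfl := hlin φ (by rw [φ.apply_one, h1]; simp)
    obtain ⟨k, hk⟩ := φ'.isCharacter.exists_ip_eq_nat IsCharacter.one
    rw [e, ip_add_left, hk] at hip1
    have h2 : ip (IrrCharacter.one ε.ker).1 (fun _ => 1) = 1 := ip_one_one
    rw [h2] at hip1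
    have : 1 + k = 0 := by exact_mod_cast hip1
    omega
  have hd : charDegree φ₁.1 = 2 := by
    have h1 := hne φ₁ φ₂ hφ₂
    have h2 := hne φ₂ φ₁ (hφ₂.trans (add_comm _ _))
    have h3 := φ₁.charDegree_pos
    have h4 := φ₂.charDegree_pos
    omega
  have hφ1 : φ₁.1 1 = 2 := by rw [φ₁.apply_one, hd]; simp
  have halt := hlin ⟨_, φ₁.isCharacter.altSq.isIrr_of_apply_one_eq_one (by
    simp only [mul_one, hφ1]; norm_num)⟩ (by simp only [mul_one, hφ1]; norm_num)
  have hinv : ∀ t : ε.ker, t * t = 1 → t ∈ charCenter φ₁.1 := fun t ht => by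
    have h1 : (φ₁.1 t ^ 2 - φ₁.1 (t * t)) / 2 = 1 := congrFun (congrArg Subtype.val halt) t
    rw [ht, hφ1] at h1
    have h2 : φ₁.1 t ^ 2 = 2 ^ 2 := by linear_combination 2 * h1
    rw [φ₁.mem_charCenter, hd]
    rcases sq_eq_sq_iff_eq_or_eq_neg.1 h2 with h3 | h3
    · change ‖φ₁.1 t‖ = _
      rw [h3]; simp
    · change ‖φ₁.1 t‖ = _
      rw [h3]; simp
  obtain ⟨t, ht⟩ := exists_prime_orderOf_dvd_card' (G := ε.ker) 2 (by
    have h6 := ε.ker.card_mul_index
    rw [index_ker hε] at h6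
    omega)
  have ht2 : (t : G) * t = 1 := by
    have := pow_orderOf_eq_one t
    rw [ht, sq] at this
    exact congrArg Subtype.val this
  have hcl : Subgroup.normalClosure {(t : G)} = ε.ker := by
    refine eq_ker_of_le hε hG hN inferInstance
      (Subgroup.normalClosure_le_normal (Set.singleton_subset_iff.2 t.2)) fun h0 => ?_
    have := Subgroup.subset_normalClosure (Set.mem_singleton (t : G))
    rw [h0, SetLike.mem_coe, Subgroup.mem_bot, OneMemClass.coe_eq_one] at this
    rw [this, orderOf_one] at ht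
    omega
  have hle : Subgroup.normalClosure {(t : G)} ≤ (charCenter φ₁.1).map ε.ker.subtype := by
    refine (Subgroup.closure_le _).2 fun x hx => ?_
    obtain ⟨a, ha, hx⟩ := Group.mem_conjugatesOfSet_iff.1 hx
    obtain rfl : a = t := ha
    obtain ⟨c, rfl⟩ := isConj_iff.1 hx
    refine ⟨⟨_, (inferInstance : ε.ker.Normal).conj_mem _ t.2 c⟩, hinv _ (Subtype.ext ?_), rfl⟩
    change c * t * c⁻¹ * (c * t * c⁻¹) = 1
    rw [show c * t * c⁻¹ * (c * t * c⁻¹) = c * (t * t) * c⁻¹ by group, ht2]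
    simp
  have htop : charCenter φ₁.1 = ⊤ := by
    rw [eq_top_iff]
    intro x _
    obtain ⟨y, hy, e⟩ := hle (hcl.ge x.2)
    obtain rfl : y = x := Subtype.ext e
    exact hy
  rw [IrrCharacter.charCenter_eq_top_iff] at htop
  change φ₁.1 1 = 1 at htop
  rw [hφ1] at htop
  norm_num at htop

theorem not_sq_eq {A : Type*} [Group A] [Finite A] (φ ψ : IrrCharacter A)
    (hφ : ∀ g, (φ.1 g).im = 0) (hψ : ∀ g, (ψ.1 g).im = 0) (h5 : charDegree ψ.1 = 5) :
    φ.1 * φ.1 ≠ (fun _ => 1) + ψ.1 + ψ.1 + ψ.1 := by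
  intro h
  have h1 := fsInd_mul_self hφ
  rw [h, fsInd_add, fsInd_add, fsInd_add, fsInd_one,
    IrrCharacter.fsInd_eq_one_of_odd hψ (by rw [h5]; decide)] at h1
  have hne : ψ ≠ IrrCharacter.one A := fun e => by
    have := ψ.apply_one
    rw [h5, e] at this
    norm_num at this
  have a1 : ip ψ.1 (fun _ => 1) = 0 := IrrCharacter.ip_of_ne hne
  have a2 : ip (fun _ => 1) ψ.1 = 0 := IrrCharacter.ip_of_ne hne.symm
  have h2 : ip (φ.1 * φ.1) (φ.1 * φ.1) = 10 := by
    simp only [h, ip_add_left, ip_add_right, a1, a2, ψ.ip_self, ip_one_one]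
    norm_num
  obtain ⟨n, hn⟩ := φ.isCharacter.symSq.exists_ip_eq_nat φ.isCharacter.altSq
  set S := fun g => (φ.1 g ^ 2 + φ.1 (g * g)) / 2 with hS
  set L := fun g => (φ.1 g ^ 2 - φ.1 (g * g)) / 2 with hL
  have hn' : ip L S = n := by rw [← conj_ip, hn, map_natCast]
  have e1 : φ.1 * φ.1 = S + L := by funext g; simp only [hS, hL, Pi.mul_apply, Pi.add_apply]; ring
  have e2 : (fun g => φ.1 (g * g)) = S - L := by
    funext g; simp only [hS, hL, Pi.sub_apply]; ring
  rw [e1, ip_add_left, ip_add_right, ip_add_right, hn, hn'] at h2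
  rw [e2, ip_sub_left, ip_sub_right, ip_sub_right, hn, hn'] at h1
  have : (4 * n : ℂ) = 6 := by linear_combination h2 + h1
  have : 4 * n = 6 := by exact_mod_cast this
  omega

end Five

open Five

theorem equiv_of_card_le_two {n : ℕ} (hn : n ≤ 2) (h : Nat.card G = n.factorial) :
    Nonempty (G ≃* Perm (Fin n)) := by
  have h2 : Nat.card (Perm (Fin n)) = n.factorial := by rw [Nat.card_perm]; simp
  have := isCyclic_of_le_two hn h
  have := isCyclic_of_le_two hn h2
  exact ⟨mulEquivOfCyclicCardEq (h.trans h2.symm)⟩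

theorem equiv_three (h : DegList G [1, 1, 2]) : Nonempty (G ≃* Perm (Fin 3)) := by
  have hG : Nat.card G = 6 := h.card_eq
  obtain ⟨H, hH⟩ := Sylow.exists_subgroup_card_pow_prime (G := G) 2 (n := 1) (by rw [hG]; decide)
  have := H.card_mul_index
  refine equiv_of_index hG H (by rw [hH, hG] at this; omega) fun N _ hN => ?_
  have h1 := index_mem h N
  revert hN
  generalize N.index = m at h1
  revert m
  decide

theorem equiv_four (h : DegList G [1, 1, 2, 3, 3]) : Nonempty (G ≃* Perm (Fin 4)) := by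
  have hG : Nat.card G = 24 := h.card_eq
  have hN : ∀ N : Subgroup G, N.Normal → 4 ∣ N.index → N.index = 24 := fun N _ hN => by
    have h1 := index_mem h N
    revert hN
    generalize N.index = m at h1
    revert m
    decide
  have : Fact (Nat.Prime 3) := ⟨Nat.prime_three⟩
  obtain ⟨P⟩ : Nonempty (Sylow 3 G) := inferInstance
  have hP : Nat.card P = 3 := by
    rw [P.card_eq_multiplicity, hG]
    have : Nat.factorization 24 3 = 1 := by
      rw [show 24 = 3 * 8 from rfl, Nat.factorization_mul (by decide) (by decide)]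
      simp [Nat.prime_three.factorization_self, Nat.factorization_eq_zero_of_not_dvd]
    rw [this, pow_one]
  have hi : (P : Subgroup G).index = 8 := by
    have := (P : Subgroup G).card_mul_index
    rw [hP, hG] at this
    omega
  have h1 := card_sylow_modEq_one 3 G
  have h2 := P.card_dvd_index
  rw [P.card_eq_index_normalizer] at h1 h2
  rw [hi] at h2
  have h3 := Nat.le_of_dvd (by decide) h2
  have h4 : (Subgroup.normalizer (P : Set G)).index ≠ 1 := fun h5 => by
    have := hN P (Subgroup.normalizer_eq_top_iff.1 (Subgroup.index_eq_one.1 h5)) (by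
      rw [hi]; decide)
    omega
  refine equiv_of_index hG (Subgroup.normalizer (P : Set G)) ?_ hN
  generalize (Subgroup.normalizer (P : Set G)).index = m at h1 h2 h3 h4
  interval_cases m <;> simp_all [Nat.ModEq]

theorem typeI_five (h : DegList G [1, 1, 4, 4, 5, 5, 6]) : TypeI G 5 := by
  have hG : Nat.card G = 120 := h.card_eq
  have hN : ∀ N : Subgroup G, N.Normal → N.index = 1 ∨ N.index = 2 ∨ N.index = 120 :=
    fun N _ => by
      have h1 := index_mem h N
      generalize N.index = m at h1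
      revert m
      decide
  obtain ⟨e, he⟩ := h
  have h3 : ∀ χ₁ χ₂ χ₃ : IrrCharacter G, charDegree χ₁.1 = charDegree χ₂.1 →
      charDegree χ₁.1 = charDegree χ₃.1 → χ₁ = χ₂ ∨ χ₁ = χ₃ ∨ χ₂ = χ₃ := by
    intro χ₁ χ₂ χ₃
    simp only [he, ← e.injective.eq_iff]
    generalize e χ₁ = i, e χ₂ = j, e χ₃ = k
    revert i j k
    decide
  have hdeg : ∀ χ : IrrCharacter G, charDegree χ.1 = 1 ∨ charDegree χ.1 = 4 ∨
      charDegree χ.1 = 5 ∨ charDegree χ.1 = 6 := by
    intro χ
    rw [he]
    generalize e χ = i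
    revert i
    decide
  obtain ⟨ε, hε, hlin⟩ := exists_eps (G := G)
    (fun χ₁ χ₂ χ₃ h1 h2 h4 => h3 χ₁ χ₂ χ₃ (h1.trans h2.symm) (h1.trans h4.symm))
    ⟨e.symm ⟨0, by decide⟩, e.symm ⟨1, by decide⟩, by simp [he], by simp [he], by simp⟩
  obtain ⟨χ, hχ⟩ : ∃ χ : IrrCharacter G, charDegree χ.1 = 4 := ⟨e.symm ⟨2, by decide⟩, by simp [he]⟩
  have hne := sg_mul_ne hε hG hN χ hχ
  have htwo : ∀ β τ : IrrCharacter G, sg ε * β.1 ≠ β.1 → charDegree τ.1 = charDegree β.1 →
      τ.1 = β.1 ∨ τ.1 = sg ε * β.1 := fun β τ h1 h2 => by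
    rcases h3 τ β ⟨_, isIrr_sg_mul ε β⟩ h2 (h2.trans (charDegree_sg_mul ε β.1).symm) with
      h4 | h4 | h4
    · exact Or.inl (congrArg Subtype.val h4)
    · exact Or.inr (congrArg Subtype.val h4)
    · exact absurd (congrArg Subtype.val h4).symm h1
  have hres : ∀ β τ : IrrCharacter G, sg ε * β.1 ≠ β.1 → charDegree τ.1 = charDegree β.1 →
      τ.1 ∘ ε.ker.subtype = β.1 ∘ ε.ker.subtype := fun β τ h1 h2 => by
    rcases htwo β τ h1 h2 with h4 | h4
    · rw [h4]
    · rw [h4, sg_mul_comp]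
  have hreal : ∀ β : IrrCharacter G, sg ε * β.1 ≠ β.1 →
      star (β.1 ∘ ε.ker.subtype) = β.1 ∘ ε.ker.subtype := fun β h1 =>
    hres β β.bar h1 (charDegree_eq_of_apply_one (by
      change (starRingEnd ℂ) (β.1 1) = _
      rw [β.apply_one, map_natCast]))
  have hc := χ.isCharacter.mul χ.isCharacter.star
  have hip : ∀ μ : G → ℂ, ip (χ.1 * star χ.1) μ = ip χ.1 (μ * χ.1) := fun μ => by
    rw [ip_mul_left, star_star]
  have hip1 : ip (χ.1 * star χ.1) (IrrCharacter.one G).1 = 1 := by
    rw [hip, ← χ.ip_self]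
    congr 1
    funext g
    simp
  have hc2 := hc.sub_irr (IrrCharacter.one G) (by rw [hip1]; exact one_ne_zero)
  obtain ⟨s, hs1, hs2, hs3⟩ := exists_multiset hc2
  have hd15 : charDegree (χ.1 * star χ.1 - (IrrCharacter.one G).1) = 15 :=
    charDegree_eq_of_apply_one (by
      simp only [Pi.sub_apply, Pi.mul_apply, Pi.star_apply, χ.apply_one, hχ]
      norm_num)
  have hs4 : ∀ τ ∈ s, charDegree τ.1 = 4 ∨ charDegree τ.1 = 5 ∨ charDegree τ.1 = 6 := by
    intro τ hτ
    refine (hdeg τ).resolve_left fun h1 => (hs3 τ).1 hτ ?_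
    rw [ip_sub_left]
    rcases hlin τ h1 with h2 | h2
    · obtain rfl : τ = IrrCharacter.one G := Subtype.ext h2
      rw [hip1, IrrCharacter.ip_self, sub_self]
    · have a1 : ip χ.1 (sg ε * χ.1) = 0 :=
        IrrCharacter.ip_of_ne (ψ := ⟨_, isIrr_sg_mul ε χ⟩) fun e' =>
          hne (congrArg Subtype.val e').symm
      have a2 : ip (IrrCharacter.one G).1 τ.1 = 0 := IrrCharacter.ip_of_ne fun e' => by
        refine hε (MonoidHom.ext fun g => ?_)
        have := congrFun h2 g
        rw [← e'] at this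
        simpa [sg] using this.symm
      rw [a2, h2, hip, a1, sub_self]
  have hcard : Multiset.card s = 3 := by
    have h1 := Multiset.card_nsmul_le_sum (s := s.map fun χ => charDegree χ.1) (a := 4)
      fun d hd => by
        obtain ⟨τ, hτ, rfl⟩ := Multiset.mem_map.1 hd
        have := hs4 τ hτ
        omega
    have h2 := Multiset.sum_le_card_nsmul (s.map fun χ => charDegree χ.1) 6 fun d hd => by
        obtain ⟨τ, hτ, rfl⟩ := Multiset.mem_map.1 hd
        have := hs4 τ hτ
        omega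
    rw [← hs2, hd15, Multiset.card_map, smul_eq_mul] at h1 h2
    omega
  obtain ⟨a, b, c, rfl⟩ := Multiset.card_eq_three.1 hcard
  have hsum : χ.1 * star χ.1 = 1 + a.1 + b.1 + c.1 := by
    rw [sub_eq_iff_eq_add] at hs1
    rw [hs1]
    funext g
    simp
    ring
  have hdsum : charDegree a.1 + charDegree b.1 + charDegree c.1 = 15 := by
    rw [← hd15, hs2]
    simp [add_assoc]
  have key : ∀ ξ β γ : IrrCharacter G, charDegree ξ.1 = 4 → charDegree β.1 = 5 →
      charDegree γ.1 = 6 → χ.1 * star χ.1 = 1 + ξ.1 + β.1 + γ.1 → TypeI G 5 :=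
    fun ξ β γ h1 h2 h4 h5 => typeI_of_mul_star (ε := ε) χ ξ β γ le_rfl h1 (by omega) (by omega)
      (htwo χ ξ hne (h1.trans hχ.symm)) h5
  have ha := hs4 a (by simp)
  have hb := hs4 b (by simp)
  have hc := hs4 c (by simp)
  rcases ha with ha | ha | ha <;> rcases hb with hb | hb | hb <;> rcases hc with hc | hc | hc <;>
    try omega
  · exact key a b c ha hb hc hsum
  · exact key a c b ha hc hb (by rw [hsum]; ring)
  · exact key b a c hb ha hc (by rw [hsum]; ring)
  · exfalso
    have hane : sg ε * a.1 ≠ a.1 := fun h1 => by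
      have := even_of_sg_mul hε a h1
      rw [ha] at this
      exact absurd this (by decide)
    refine not_sq_eq ⟨_, isIrr_comp_ker hε χ hne⟩ ⟨_, isIrr_comp_ker hε a hane⟩
      (im_eq_zero_iff_star_eq.2 (hreal χ hne)) (im_eq_zero_iff_star_eq.2 (hreal a hane))
      (charDegree_eq_of_apply_one (by
        simp only [Function.comp, map_one]
        rw [a.apply_one, ha])) ?_
    have := congrArg (· ∘ ε.ker.subtype) hsum
    simp only [Pi.mul_comp, Pi.add_comp] at this
    rw [hres a b hane (hb.trans ha.symm), hres a c hane (hc.trans ha.symm)] at this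
    change (χ.1 ∘ ε.ker.subtype) * star (χ.1 ∘ ε.ker.subtype) = _ at this
    rw [hreal χ hne] at this
    exact this
  · exact key c a b hc ha hb (by rw [hsum]; ring)
  · exact key b c a hb hc ha (by rw [hsum]; ring)
  · exact key c b a hc hb ha (by rw [hsum]; ring)

end Cfsg.Snd
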