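import Mathlib.NumberTheory.Bertrand

/-!
# A sharpened Bertrand postulate: for `k ≥ 4` there is a prime `p` with `k < p ≤ 2 k - 3`
-/

set_option autoImplicit false

namespace Cfsg.Snd

open Nat

theorem centralBinom_le_of_one_prime (n : ℕ) (n_large : 2 < n)
    (no_prime : ∀ p : ℕ, p.Prime → n + 1 < p → 2 * n < p) :
    centralBinom n ≤ (2 * n) ^ sqrt (2 * n) * 4 ^ (2 * n / 3) := by
  classical
  have n_pos : 0 < n := (Nat.zero_le _).trans_lt n_large
  have n2_pos : 1 ≤ 2 * n := mul_pos (zero_lt_two' ℕ) n_pos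
  let S := {p ∈ Finset.range (2 * n / 3 + 1) | Nat.Prime p}
  let f x := x ^ n.centralBinom.factorization x
  have hnS : n + 1 ∉ S := by
    intro h
    have := Finset.mem_range.1 (Finset.mem_filter.1 h).1
    omega
  have h1 : centralBinom n = f (n + 1) * ∏ x ∈ S, f x := by
    rw [← Finset.prod_insert hnS]
    refine (Eq.trans ?_ n.prod_pow_factorization_centralBinom).symm
    apply Finset.prod_subset
    · intro x hx
      rcases Finset.mem_insert.1 hx with rfl | hx
      · exact Finset.mem_range.2 (by omega)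
      · have := Finset.mem_range.1 (Finset.mem_filter.1 hx).1
        exact Finset.mem_range.2 (by omega)
    intro x hx h2x
    rw [Finset.mem_range, Nat.lt_succ_iff] at hx
    by_cases hp : x.Prime
    · have h3 : x ≠ n + 1 := fun h => h2x (h ▸ Finset.mem_insert_self _ _)
      have h4 : ¬ x < 2 * n / 3 + 1 := fun h =>
        h2x (Finset.mem_insert_of_mem (Finset.mem_filter.2 ⟨Finset.mem_range.2 h, hp⟩))
      have h5 : x ≤ n := by
        by_contra h
        have := no_prime x hp (by omega)
        omega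
      show x ^ _ = 1
      rw [factorization_centralBinom_of_two_mul_self_lt_three_mul n_large h5 (by omega),
        Nat.pow_zero]
    · show x ^ _ = 1
      rw [factorization_eq_zero_of_not_prime n.centralBinom hp, Nat.pow_zero]
  have hs : 1 ≤ sqrt (2 * n) := Nat.le_sqrt.2 (by omega)
  rw [h1, ← Finset.prod_filter_mul_prod_filter_not S (· ≤ sqrt (2 * n)), ← mul_assoc]
  apply mul_le_mul'
  · have e : (2 * n) ^ sqrt (2 * n) = (2 * n) * (2 * n) ^ (sqrt (2 * n) - 1) := by
      rw [← _root_.pow_succ']; congr 1; omega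
    rw [e]
    refine mul_le_mul' (pow_factorization_choose_le (mul_pos two_pos n_pos)) ?_
    refine (Finset.prod_le_prod' fun p _ => (?_ : f p ≤ 2 * n)).trans ?_
    · exact pow_factorization_choose_le (mul_pos two_pos n_pos)
    have : (Finset.Icc 2 (sqrt (2 * n))).card = sqrt (2 * n) - 1 := by rw [card_Icc]; omega
    rw [Finset.prod_const]
    refine pow_right_mono₀ n2_pos ((Finset.card_le_card fun x hx => ?_).trans this.le)
    obtain ⟨h1, h2⟩ := Finset.mem_filter.1 hx
    exact Finset.mem_Icc.mpr ⟨(Finset.mem_filter.1 h1).2.two_le, h2⟩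
  · refine le_trans ?_ (primorial_le_four_pow (2 * n / 3))
    refine (Finset.prod_le_prod' fun p hp => (?_ : f p ≤ p)).trans ?_
    · obtain ⟨h1, h2⟩ := Finset.mem_filter.1 hp
      refine (pow_right_mono₀ (Finset.mem_filter.1 h1).2.one_lt.le ?_).trans (pow_one p).le
      exact Nat.factorization_choose_le_one (sqrt_lt'.mp <| not_le.1 h2)
    refine Finset.prod_le_prod_of_subset_of_one_le' (Finset.filter_subset _ _) ?_
    exact fun p hp _ => (Finset.mem_filter.1 hp).2.one_lt.le

theorem exists_prime_bert_large (n : ℕ) (n_large : 512 ≤ n) :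
    ∃ p : ℕ, p.Prime ∧ n + 1 < p ∧ p ≤ 2 * n := by
  have no_prime : 4 ^ n < n * n.centralBinom :=
    Nat.four_pow_lt_mul_centralBinom n (le_trans (by norm_num1) n_large)
  contrapose! no_prime
  have : n.centralBinom ≤ (2 * n) ^ sqrt (2 * n) * 4 ^ (2 * n / 3) :=
    centralBinom_le_of_one_prime n (lt_of_lt_of_le (by norm_num1) n_large) no_prime
  grw [this, ← mul_assoc, bertrand_main_inequality n_large]

/-- For `k ≥ 4` there is a prime `p` with `k < p ≤ 2 k - 3`. -/
theorem exists_prime_bert (k : ℕ) (hk : 4 ≤ k) : ∃ p : ℕ, p.Prime ∧ k < p ∧ p + 3 ≤ 2 * k := by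
  rcases le_or_gt 513 k with h | h
  · obtain ⟨p, hp, h1, h2⟩ := exists_prime_bert_large (k - 1) (by omega)
    refine ⟨p, hp, by omega, ?_⟩
    have := hp.eq_two_or_odd
    omega
  by_cases h1 : 443 ≤ k
  · exact ⟨883, by norm_num, by omega, by omega⟩
  by_cases h2 : 223 ≤ k
  · exact ⟨443, by norm_num, by omega, by omega⟩
  by_cases h3 : 113 ≤ k
  · exact ⟨223, by norm_num, by omega, by omega⟩
  by_cases h4 : 58 ≤ k
  · exact ⟨113, by norm_num, by omega, by omega⟩
  by_cases h5 : 31 ≤ k
  · exact ⟨59, by norm_num, by omega, by omega⟩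
  by_cases h6 : 17 ≤ k
  · exact ⟨31, by norm_num, by omega, by omega⟩
  by_cases h7 : 11 ≤ k
  · exact ⟨19, by norm_num, by omega, by omega⟩
  by_cases h8 : 7 ≤ k
  · exact ⟨11, by norm_num, by omega, by omega⟩
  by_cases h9 : 5 ≤ k
  · exact ⟨7, by norm_num, by omega, by omega⟩
  exact ⟨5, by norm_num, by omega, by omega⟩

end Cfsg.Snd
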