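import Mathlib

/-! Jordan's theorem: a primitive permutation group containing a cycle of prime length `p`
fixing at least three points contains the alternating group. -/

namespace Cfsg.Agent.Snd

open Equiv Equiv.Perm MulAction

variable {α : Type*} [Fintype α] [DecidableEq α]

/-- A `p`-group of permutations supported on the support of a `p`-cycle it contains is generated
by that cycle. -/
theorem jord_mem_zpowers {p : ℕ} (hp : p.Prime) {g : Perm α} (hgc : g.IsCycle)
    (hgp : g.support.card = p) {Q : Subgroup (Perm α)} (hQ : IsPGroup p Q) (hg : g ∈ Q)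
    (hfix : ∀ u ∈ Q, ∀ f, g f = f → u f = f) {u : Perm α} (hu : u ∈ Q) :
    u ∈ Subgroup.zpowers g := by
  obtain ⟨s, hs, hcyc⟩ := hgc
  have hus : g (u s) ≠ u s := by
    intro h
    have h1 := hfix u hu _ h
    have h2 : u s = s := u.injective h1
    rw [h2] at h
    exact hs h
  obtain ⟨i, hi⟩ := hcyc hus
  set w : Perm α := (g ^ i)⁻¹ * u with hw
  have hwQ : w ∈ Q := Q.mul_mem (Q.inv_mem (Q.zpow_mem hg i)) hu
  have hws : w s = s := by
    rw [hw, Perm.mul_apply, ← hi]
    simp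
  have hsub : w.support ⊆ g.support.erase s := by
    intro x hx
    rw [mem_support] at hx
    rw [Finset.mem_erase, mem_support]
    refine ⟨fun h => hx (h ▸ hws), fun h => hx (hfix w hwQ x h)⟩
  have hcard : w.support.card ≤ p - 1 := by
    have := Finset.card_le_card hsub
    rwa [Finset.card_erase_of_mem (mem_support.mpr hs), hgp] at this
  have hdvd : orderOf w ∣ (p - 1).factorial := by
    rw [← lcm_cycleType, Multiset.lcm_dvd]
    intro b hb
    exact Nat.dvd_factorial (lt_of_lt_of_le (by norm_num) (two_le_of_mem_cycleType hb))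
      ((le_card_support_of_mem_cycleType hb).trans hcard)
  have hw1 : w = 1 := by
    obtain ⟨e, he⟩ := hQ ⟨w, hwQ⟩
    have he' : w ^ p ^ e = 1 := by
      simpa using congrArg Subtype.val he
    have h1 : orderOf w ∣ p ^ e := orderOf_dvd_of_pow_eq_one he'
    obtain ⟨j, -, hj⟩ := (Nat.dvd_prime_pow hp).mp h1
    rcases Nat.eq_zero_or_pos j with h0 | h0
    · rw [h0, pow_zero] at hj
      exact orderOf_eq_one_iff.mp hj
    · exfalso
      have h2 : p ∣ (p - 1).factorial :=
        ((dvd_pow_self p h0.ne').trans (hj ▸ dvd_rfl)).trans hdvd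
      have h3 := (hp.dvd_factorial).mp h2
      have := hp.two_le
      omega
  have : u = g ^ i := by
    rw [hw, inv_mul_eq_one] at hw1
    exact hw1.symm
  rw [this]
  exact Subgroup.zpow_mem_zpowers g i

/-- Frattini step: an element of `G` stabilising the fixed set of the `p`-cycle `g` can be
corrected by the pointwise stabiliser to normalise `⟨g⟩`. -/
theorem jord_frattini {G : Subgroup (Perm α)} {p : ℕ} (hp : p.Prime) {g : Perm α}
    (hgc : g.IsCycle) (hgp : g.support.card = p) (hg : g ∈ G) {x : Perm α} (hx : x ∈ G)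
    (hxF : ∀ f, g f = f → g (x f) = x f) (hxF' : ∀ f, g f = f → g (x⁻¹ f) = x⁻¹ f) :
    ∃ y ∈ G, (∀ f, g f = f → y f = x f) ∧ ∃ a : ℤ, y * g * y⁻¹ = g ^ a := by
  haveI : Fact p.Prime := ⟨hp⟩
  let H : Subgroup (Perm α) :=
    { carrier := {u | u ∈ G ∧ ∀ f, g f = f → u f = f}
      mul_mem' := by
        rintro a b ⟨ha, ha'⟩ ⟨hb, hb'⟩
        refine ⟨G.mul_mem ha hb, fun f hf => ?_⟩
        rw [Perm.mul_apply, hb' f hf, ha' f hf]
      one_mem' := ⟨G.one_mem, fun f _ => rfl⟩
      inv_mem' := by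
        rintro a ⟨ha, ha'⟩
        refine ⟨G.inv_mem ha, fun f hf => ?_⟩
        rw [Perm.inv_eq_iff_eq]
        exact (ha' f hf).symm }
  have hgH : g ∈ H := ⟨hg, fun f hf => hf⟩
  have hg'H : x * g * x⁻¹ ∈ H := by
    refine ⟨G.mul_mem (G.mul_mem hx hg) (G.inv_mem hx), fun f hf => ?_⟩
    rw [Perm.mul_apply, Perm.mul_apply, hxF' f hf]
    simp
  have hord : orderOf g = p := by rw [hgc.orderOf, hgp]
  have hpow : g ^ p = 1 := by rw [← hord]; exact pow_orderOf_eq_one g
  have hP : ∀ u : H, (u : Perm α) ^ p = 1 → IsPGroup p (Subgroup.zpowers u) := by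
    intro u hu
    have hu' : u ^ p = 1 := Subtype.ext (by simpa using hu)
    intro v
    obtain ⟨v, hv⟩ := v
    obtain ⟨k, rfl⟩ := Subgroup.mem_zpowers_iff.mp hv
    refine ⟨1, Subtype.ext ?_⟩
    show (u ^ k) ^ (p ^ 1) = 1
    rw [pow_one, ← zpow_natCast, ← zpow_mul, mul_comm, zpow_mul, zpow_natCast, hu', one_zpow]
  obtain ⟨P1, hP1⟩ := (hP ⟨g, hgH⟩ hpow).exists_le_sylow
  obtain ⟨P2, hP2⟩ := (hP ⟨x * g * x⁻¹, hg'H⟩ (by
    show (x * g * x⁻¹) ^ p = 1
    rw [conj_pow, hpow]; simp)).exists_le_sylow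
  obtain ⟨h, hh⟩ := MulAction.exists_smul_eq H P2 P1
  have hmem : h * ⟨x * g * x⁻¹, hg'H⟩ * h⁻¹ ∈ (P1 : Subgroup H) := by
    rw [← hh, Sylow.coe_subgroup_smul]
    have h0 : (⟨x * g * x⁻¹, hg'H⟩ : H) ∈ (P2 : Subgroup H) := hP2 (Subgroup.mem_zpowers _)
    exact Subgroup.smul_mem_pointwise_smul _ (MulAut.conj h) _ h0
  have hQ : IsPGroup p ((P1 : Subgroup H).map H.subtype) := P1.isPGroup'.map _
  have key := jord_mem_zpowers hp hgc hgp hQ
    (Subgroup.mem_map.mpr ⟨⟨g, hgH⟩, hP1 (Subgroup.mem_zpowers _), rfl⟩)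
    (by
      rintro u ⟨v, -, rfl⟩ f hf
      exact v.2.2 f hf)
    (Subgroup.mem_map.mpr ⟨_, hmem, rfl⟩)
  obtain ⟨a, ha⟩ := Subgroup.mem_zpowers_iff.mp key
  refine ⟨(h : Perm α) * x, G.mul_mem h.2.1 hx, fun f hf => ?_, a, ?_⟩
  · rw [Perm.mul_apply]
    exact h.2.2 _ (hxF f hf)
  · rw [ha]
    simp [mul_assoc]

/-- Jordan: a primitive group containing a `p`-cycle, `p + 3 ≤ n`, contains `A_n`. -/
theorem jordan_cycle {G : Subgroup (Perm α)} (hG : IsPreprimitive G α)
    {p : ℕ} (hp : p.Prime) (hp' : p + 3 ≤ Nat.card α)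
    {g : Perm α} (hgc : g.IsCycle) (hgp : g.support.card = p) (hg : g ∈ G) :
    alternatingGroup α ≤ G := by
  classical
  obtain ⟨m, hm⟩ := Nat.exists_eq_add_of_le hp'
  have hsc : Set.ncard ((g.support)ᶜ : Set α) = (m + 2) + 1 := by
    apply Nat.add_left_cancel (n := Set.ncard (g.support : Set α))
    rw [Set.ncard_add_ncard_compl, Set.ncard_coe_finset, hgp, hm]
    ring
  have hprim : IsMultiplyPreprimitive G α ((m + 2) + 2) := by
    apply hG.isMultiplyPreprimitive hsc
    · have := hp.two_le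
      omega
    have := isPretransitive_of_isCycle_mem hgc hg
    apply IsPreprimitive.of_prime_card
    convert! hp
    rw [Nat.card_eq_fintype_card, Fintype.card_subtype, ← hgp]
    apply congr_arg
    ext x
    simp [SubMulAction.mem_ofFixingSubgroup_iff]
  have htr0 : IsMultiplyPretransitive G α ((m + 2) + 2) :=
    IsMultiplyPreprimitive.isMultiplyPretransitive ..
  have htr : IsMultiplyPretransitive G α (m + 3) := by
    apply isMultiplyPretransitive_of_le (n := (m + 2) + 2) (by omega)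
    have := hp.two_le
    omega
  -- enumerate the fixed points
  have hF : (g.supportᶜ).card = m + 3 := by
    rw [Finset.card_compl, hgp, ← Nat.card_eq_fintype_card, hm]
    omega
  let e0 : Fin (m + 3) ≃ (g.supportᶜ : Finset α) := (Finset.equivFinOfCardEq hF).symm
  let e : Fin (m + 3) ↪ α := e0.toEmbedding.trans (Function.Embedding.subtype _)
  have he : ∀ i, g (e i) = e i := by
    intro i
    have := (e0 i).2
    rw [Finset.mem_compl, notMem_support] at this
    exact this
  have he' : ∀ f, g f = f → ∃ i, e i = f := by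
    intro f hf
    have : f ∈ g.supportᶜ := by rw [Finset.mem_compl, notMem_support]; exact hf
    refine ⟨e0.symm ⟨f, this⟩, ?_⟩
    simp [e]
  have hreal : ∀ σ : Perm α, (∀ f, g f = f → g (σ f) = σ f) →
      (∀ f, g f = f → g (σ⁻¹ f) = σ⁻¹ f) →
      ∃ y ∈ G, (∀ f, g f = f → y f = σ f) ∧ ∃ a : ℤ, y * g * y⁻¹ = g ^ a := by
    intro σ h1 h2
    obtain ⟨x, hx⟩ := MulAction.exists_smul_eq G e (e.trans σ.toEmbedding)
    have hx' : ∀ f, g f = f → (x : Perm α) f = σ f := by
      intro f hf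
      obtain ⟨i, rfl⟩ := he' f hf
      have := congrArg (fun φ : Fin (m + 3) ↪ α => φ i) hx
      have h5 : x • e i = σ (e i) := by simpa using this
      exact h5
    obtain ⟨y, hy, hy1, hy2⟩ := jord_frattini hp hgc hgp hg x.2
      (fun f hf => by rw [hx' f hf]; exact h1 f hf)
      (fun f hf => by
        have h3 : (x : Perm α)⁻¹ f = σ⁻¹ f := by
          rw [Perm.inv_eq_iff_eq, hx' _ (h2 f hf)]
          simp
        rw [h3]; exact h2 f hf)
    exact ⟨y, hy, fun f hf => by rw [hy1 f hf, hx' f hf], hy2⟩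
  set a := e ⟨0, by omega⟩ with ha
  set b := e ⟨1, by omega⟩ with hb
  set c := e ⟨2, by omega⟩ with hc
  have hab : a ≠ b := fun h => by simpa using e.injective h
  have hac : a ≠ c := fun h => by simpa using e.injective h
  have hbc : b ≠ c := fun h => by simpa using e.injective h
  have hga : g a = a := he _
  have hgb : g b = b := he _
  have hgc' : g c = c := he _
  have hsw : ∀ u v : α, g u = u → g v = v → ∀ f, g f = f → g (swap u v f) = swap u v f := by
    intro u v hu hv f hf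
    rw [swap_apply_def]
    split_ifs <;> assumption
  have hsw' : ∀ u v : α, g u = u → g v = v → ∀ f, g f ≠ f → swap u v f = f := by
    intro u v hu hv f hf
    apply swap_apply_of_ne_of_ne
    · rintro rfl; exact hf hu
    · rintro rfl; exact hf hv
  obtain ⟨y1, hy1, hy1F, a1, ha1⟩ := hreal (swap a b) (hsw a b hga hgb)
    (by rw [swap_inv]; exact hsw a b hga hgb)
  obtain ⟨y2, hy2, hy2F, a2, ha2⟩ := hreal (swap a c) (hsw a c hga hgc')
    (by rw [swap_inv]; exact hsw a c hga hgc')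
  set τ : Perm α := (swap a b * swap a c) * (swap a b * swap a c) with hτ
  have hτ3 : τ.IsThreeCycle := (isThreeCycle_swap_mul_swap_same hab hac hbc).isThreeCycle_sq
  set z : Perm α := (y2 * y1)⁻¹ * (y1 * y2) with hz
  have hzG : z ∈ G := G.mul_mem (G.inv_mem (G.mul_mem hy2 hy1)) (G.mul_mem hy1 hy2)
  have hτF : ∀ f, g f = f → g (τ f) = τ f := by
    intro f hf
    simp only [hτ, Perm.mul_apply]
    exact hsw a b hga hgb _ (hsw a c hga hgc' _ (hsw a b hga hgb _ (hsw a c hga hgc' _ hf)))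
  have hzF : ∀ f, g f = f → z f = τ f := by
    intro f hf
    rw [hz, Perm.mul_apply, Perm.inv_eq_iff_eq, Perm.mul_apply, Perm.mul_apply,
      hy2F f hf, hy1F _ (hsw a c hga hgc' f hf), hy1F _ (hτF f hf),
      hy2F _ (hsw a b hga hgb _ (hτF f hf))]
    simp [hτ, Perm.mul_apply]
  have hcomm : z * g = g * z := by
    have e1 : (y1 * y2) * g * (y1 * y2)⁻¹ = g ^ (a1 * a2) := by
      calc (y1 * y2) * g * (y1 * y2)⁻¹ = y1 * (y2 * g * y2⁻¹) * y1⁻¹ := by group
        _ = (y1 * g * y1⁻¹) ^ a2 := by rw [ha2, conj_zpow]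
        _ = g ^ (a1 * a2) := by rw [ha1, ← zpow_mul]
    have e2 : (y2 * y1) * g * (y2 * y1)⁻¹ = g ^ (a1 * a2) := by
      calc (y2 * y1) * g * (y2 * y1)⁻¹ = y2 * (y1 * g * y1⁻¹) * y2⁻¹ := by group
        _ = (y2 * g * y2⁻¹) ^ a1 := by rw [ha1, conj_zpow]
        _ = g ^ (a1 * a2) := by rw [ha2, ← zpow_mul, mul_comm]
    have e3 := e1.trans e2.symm
    calc z * g = (y2 * y1)⁻¹ * ((y1 * y2) * g * (y1 * y2)⁻¹) * (y1 * y2) := by rw [hz]; group
      _ = (y2 * y1)⁻¹ * ((y2 * y1) * g * (y2 * y1)⁻¹) * (y1 * y2) := by rw [e3]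
      _ = g * z := by rw [hz]; group
  have hcomm' : Commute z g := hcomm
  obtain ⟨s, hs, hcyc⟩ := hgc
  have hzs : g (z s) ≠ z s := by
    intro h
    have : z (g s) = z s := by
      rw [← Perm.mul_apply, hcomm, Perm.mul_apply, h]
    exact hs (z.injective this)
  obtain ⟨i, hi⟩ := hcyc hzs
  have hw : (g ^ i)⁻¹ * z = τ := by
    ext f
    by_cases hf : g f = f
    · rw [Perm.mul_apply, hzF f hf, Perm.inv_eq_iff_eq]
      exact (zpow_apply_eq_self_of_apply_eq_self (hτF f hf) i).symm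
    · obtain ⟨j, rfl⟩ := hcyc hf
      have h1 : τ ((g ^ j) s) = (g ^ j) s := by
        simp only [hτ, Perm.mul_apply]
        rw [hsw' a c hga hgc' _ hf, hsw' a b hga hgb _ hf, hsw' a c hga hgc' _ hf,
          hsw' a b hga hgb _ hf]
      rw [h1, Perm.mul_apply, Perm.inv_eq_iff_eq, ← Perm.mul_apply z,
        (hcomm'.zpow_right j).eq, Perm.mul_apply, ← hi, ← Perm.mul_apply, ← Perm.mul_apply,
        ← zpow_add, ← zpow_add, add_comm]
  apply alternatingGroup_le_of_isPreprimitive_of_isThreeCycle_mem hG hτ3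
  rw [← hw]
  exact G.mul_mem (G.inv_mem (G.zpow_mem hg i)) hzG

end Cfsg.Agent.Snd
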