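import Cfsg.Agent.Snd.Defs
import Cfsg.Agent.Snd.Bert
import Cfsg.Agent.Snd.Jord
import Mathlib.GroupTheory.GroupAction.Jordan

/-!
# S4905: tools for `Snd/Homog` (the group induced on a subset)
-/

set_option autoImplicit false
set_option linter.unusedSectionVars false

namespace Cfsg.Snd.Homog

open Equiv Finset MulAction

variable {Ω : Type*} [Fintype Ω] [DecidableEq Ω] {G : Type*} [Group G] {ρ : G →* Perm Ω}

/-- Transitivity on `t`-sets. -/
def Hom (ρ : G →* Perm Ω) (t : ℕ) : Prop :=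
  ∀ (σ : Perm Ω) (S : Finset Ω), #S = t → ∃ g, S.image (ρ g) = S.image σ

/-- The group induced on `Γ` by the set stabiliser. -/
def DD (ρ : G →* Perm Ω) (Γ : Finset Ω) : Subgroup (Perm Γ) where
  carrier := {τ | ∃ g, ∀ x : Γ, ρ g x = τ x}
  one_mem' := ⟨1, fun x => by simp⟩
  mul_mem' := by
    rintro τ τ' ⟨g, hg⟩ ⟨g', hg'⟩
    exact ⟨g * g', fun x => by rw [map_mul, Perm.mul_apply, hg', hg, Perm.mul_apply]⟩
  inv_mem' := by
    rintro τ ⟨g, hg⟩
    refine ⟨g⁻¹, fun x => ?_⟩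
    rw [map_inv, Perm.inv_eq_iff_eq, hg]
    simp

theorem mem_iff_of_image {σ : Perm Ω} {Γ : Finset Ω} (h : Γ.image σ = Γ) (x : Ω) :
    σ x ∈ Γ ↔ x ∈ Γ := by
  conv_lhs => rw [← h]
  exact σ.injective.mem_finset_image

theorem subtypePerm_mem {g : G} {Γ : Finset Ω} (h : ∀ x, ρ g x ∈ Γ ↔ x ∈ Γ) :
    (ρ g).subtypePerm h ∈ DD ρ Γ := ⟨g, fun _ => rfl⟩

theorem image_mul (σ τ : Perm Ω) (S : Finset Ω) : S.image (σ * τ) = (S.image τ).image σ := by
  rw [image_image]; rfl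

theorem exists_perm_image {S T : Finset Ω} (h : #S = #T) : ∃ σ : Perm Ω, S.image σ = T := by
  classical
  let e : S ≃ T := Finset.equivOfCardEq h
  refine ⟨e.extendSubtype, eq_of_subset_of_card_le (fun y hy => ?_) ?_⟩
  · obtain ⟨x, hx, rfl⟩ := mem_image.1 hy
    exact e.extendSubtype_mem x hx
  · rw [card_image_of_injective _ (Equiv.injective _), h]

/-- Adjusting an element inside a set. -/
theorem Hom.exists_of_tr {t s : ℕ} (h : Hom ρ t) {Γ : Finset Ω} (hΓ : #Γ = t)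
    (hD : Tr (DD ρ Γ).subtype s) (σ : Perm Ω) {F : Finset Ω} (hF : F ⊆ Γ) (hs : #F ≤ s) :
    ∃ g, Γ.image (ρ g) = Γ.image σ ∧ ∀ x ∈ F, ρ g x = σ x := by
  obtain ⟨g, hg⟩ := h σ Γ hΓ
  have h1 : Γ.image ((ρ g)⁻¹ * σ : Perm Ω) = Γ := by
    rw [image_mul, ← hg, ← image_mul]; simp
  obtain ⟨⟨τ, g', hg'⟩, hτ⟩ := hD (((ρ g)⁻¹ * σ).subtypePerm (mem_iff_of_image h1))
    (F.subtype (· ∈ Γ)) (by rw [card_subtype]; exact (card_filter_le _ _).trans hs)
  refine ⟨g * g', ?_, fun x hx => ?_⟩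
  · rw [map_mul, image_mul, ← hg]
    congr 1
    refine eq_of_subset_of_card_le (fun y hy => ?_) ?_
    · obtain ⟨x, hx, rfl⟩ := mem_image.1 hy
      rw [hg' ⟨x, hx⟩]; exact (τ ⟨x, hx⟩).2
    · rw [card_image_of_injective _ (Equiv.injective _)]
  · have h2 := congrArg Subtype.val (hτ ⟨x, hF hx⟩ (mem_subtype.2 hx))
    have h3 := hg' ⟨x, hF hx⟩
    simp only [Subgroup.coe_subtype, Perm.subtypePerm_apply, Perm.mul_apply] at h2 h3
    rw [map_mul, Perm.mul_apply, h3, h2]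
    simp

theorem Hom.tr {t s : ℕ} (h : Hom ρ t) {Γ : Finset Ω} (hΓ : #Γ = t)
    (hD : Tr (DD ρ Γ).subtype s) (hs : s ≤ t) : Tr ρ s := by
  intro σ F hF
  have ht : t ≤ #(univ : Finset Ω) := hΓ ▸ card_le_univ Γ
  obtain ⟨Δ, h1, -, h2⟩ := exists_subsuperset_card_eq (subset_univ F) (hF.trans hs) ht
  obtain ⟨π, hπ⟩ := exists_perm_image (h2.trans hΓ.symm)
  obtain ⟨g, hg⟩ := h π Δ h2
  obtain ⟨g', -, hg'⟩ := h.exists_of_tr hΓ hD (σ * (ρ g)⁻¹) (F := F.image (ρ g))
    (by rw [← hπ, ← hg]; exact image_subset_image h1) (card_image_le.trans hF)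
  refine ⟨g' * g, fun x hx => ?_⟩
  rw [map_mul, Perm.mul_apply, hg' _ (mem_image_of_mem _ hx)]
  simp

theorem Hom.pred {t : ℕ} (h : Hom ρ (t + 1)) (ht : t + 1 ≤ Fintype.card Ω)
    (hD : ∀ Γ : Finset Ω, #Γ = t + 1 → Tr (DD ρ Γ).subtype 1) : Hom ρ t := by
  intro σ S hS
  obtain ⟨x, hx⟩ : ∃ x, x ∉ S := by
    by_contra! hx
    have : #S = Fintype.card Ω := by rw [eq_univ_of_forall hx, card_univ]
    omega
  have hΓ : #(insert x S) = t + 1 := by rw [card_insert_of_notMem hx, hS]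
  obtain ⟨g, h1, h2⟩ := h.exists_of_tr hΓ (hD _ hΓ) σ (F := {x}) (by simp) (by simp)
  refine ⟨g, ?_⟩
  rw [image_insert, image_insert, h2 x (mem_singleton_self x)] at h1
  have h3 : σ x ∉ S.image σ := by rwa [σ.injective.mem_finset_image]
  have h4 : σ x ∉ S.image (ρ g) := by
    rwa [← h2 x (mem_singleton_self x), (ρ g).injective.mem_finset_image]
  rw [← erase_insert h3, ← h1, erase_insert h4]

theorem hom_of_sameSS {a b t : ℕ} (h : SameSS ρ a b) (ha : a ≤ t) (hb : b ≤ t) (hab : t ≤ a + b) :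
    Hom ρ t := by
  intro σ Γ hΓ
  obtain ⟨S, hS, hS'⟩ := exists_subset_card_eq (s := Γ) (hΓ ▸ ha)
  obtain ⟨T, h1, h2, h3⟩ := exists_subsuperset_card_eq (sdiff_subset (s := Γ) (t := S))
    (n := b) (by rw [card_sdiff_of_subset hS]; omega) (hΓ ▸ hb)
  obtain ⟨g, hg, hg'⟩ := h σ S T hS' h3
  have e : Γ = S ∪ T := by
    refine Subset.antisymm (fun x hx => ?_) (union_subset hS h2)
    by_cases hxS : x ∈ S
    · exact mem_union_left _ hxS
    · exact mem_union_right _ (h1 (mem_sdiff.2 ⟨hx, hxS⟩))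
  exact ⟨g, by rw [e, image_union, image_union, hg, hg']⟩

theorem pair_DD {a b : ℕ} (h : SameSS ρ a b) {Γ : Finset Ω} (τ : Perm Γ) {S T : Finset Γ}
    (hS : #S = a) (hT : #T = b) (hST : S ∪ T = univ) :
    ∃ d : DD ρ Γ, S.image (d : Perm Γ) = S.image τ ∧ T.image (d : Perm Γ) = T.image τ := by
  have key : ∀ (U : Finset Γ) (σ : Perm Ω) (υ : Perm Γ), (∀ x : Γ, σ x = υ x) →
      (U.image Subtype.val).image σ = (U.image υ).image Subtype.val := fun U σ υ hσ => by
    rw [image_image, image_image]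
    exact image_congr fun x _ => hσ x
  have h0 : ∀ x : Γ, Perm.ofSubtype τ x = τ x := fun x => Perm.ofSubtype_apply_coe τ x
  obtain ⟨g, hg, hg'⟩ := h (Perm.ofSubtype τ) (S.image Subtype.val) (T.image Subtype.val)
    (by rw [card_image_of_injective _ Subtype.val_injective, hS])
    (by rw [card_image_of_injective _ Subtype.val_injective, hT])
  have e : (univ : Finset Γ).image Subtype.val = Γ := by ext; simp
  have h1 : Γ.image (ρ g) = Γ := by
    conv_lhs => rw [← e, ← hST, image_union, image_union, hg, hg', ← image_union, ← image_union,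
      hST, key _ _ _ h0, image_univ_equiv, e]
  refine ⟨⟨_, subtypePerm_mem (mem_iff_of_image h1)⟩, ?_, ?_⟩
  · apply image_injective Subtype.val_injective
    rw [← key _ (ρ g) _ (fun _ => rfl), hg, key _ _ _ h0]
  · apply image_injective Subtype.val_injective
    rw [← key _ (ρ g) _ (fun _ => rfl), hg', key _ _ _ h0]

theorem hom_DD {k : ℕ} (h : SameSS ρ k k) {Γ : Finset Ω} (hΓ : #Γ = 2 * k) :
    Hom (DD ρ Γ).subtype k := by
  intro τ S hS
  obtain ⟨d, hd, -⟩ := pair_DD h τ hS (T := Sᶜ)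
    (by rw [card_compl, Fintype.card_coe, hS, hΓ]; omega) (union_compl S)
  exact ⟨d, hd⟩

/-- An element that moves a set like the transposition `(x y)` forces `x`, `y` into one orbit. -/
theorem exists_apply_eq {x y : Ω} {S : Finset Ω} (hx : x ∈ S) (hy : y ∉ S) {g : G}
    (hg : S.image (ρ g) = S.image (swap x y)) : ∃ g', ρ g' x = y := by
  classical
  by_contra hn
  let O : Ω → Prop := fun z => ∃ g', ρ g' x = z
  have hO : ∀ z, O (ρ g z) ↔ O z := fun z =>
    ⟨fun ⟨k, hk⟩ => ⟨g⁻¹ * k, by rw [map_mul, Perm.mul_apply, hk]; simp⟩,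
      fun ⟨k, hk⟩ => ⟨g * k, by rw [map_mul, Perm.mul_apply, hk]⟩⟩
  have h1 : #{z ∈ S.image (ρ g) | O z} = #{z ∈ S | O z} := by
    rw [filter_image, card_image_of_injective _ (Equiv.injective _)]
    congr 1
    exact filter_congr fun z _ => hO z
  have h2 : {z ∈ S.image (swap x y) | O z} ⊆ {z ∈ S | O z}.erase x := by
    intro z hz
    obtain ⟨hz, hz'⟩ := mem_filter.1 hz
    obtain ⟨w, hw, rfl⟩ := mem_image.1 hz
    by_cases h3 : w = x
    · subst h3; rw [swap_apply_left] at hz'; exact absurd hz' hn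
    · have h4 : w ≠ y := fun e => hy (e ▸ hw)
      rw [swap_apply_of_ne_of_ne h3 h4] at hz' ⊢
      exact mem_erase.2 ⟨h3, mem_filter.2 ⟨hw, hz'⟩⟩
  have h3 := card_le_card h2
  have h4 : x ∈ {z ∈ S | O z} := mem_filter.2 ⟨hx, 1, by simp⟩
  rw [← hg, h1, card_erase_of_mem h4] at h3
  have := card_pos.2 ⟨x, h4⟩
  omega

theorem Hom.trans {k : ℕ} (h : Hom ρ k) (h1 : 1 ≤ k) (h2 : k < Fintype.card Ω) (x y : Ω) :
    ∃ g, ρ g x = y := by
  by_cases hxy : x = y
  · exact ⟨1, by simp [hxy]⟩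
  obtain ⟨S, h3, h4, h5⟩ := exists_subsuperset_card_eq (s := {x}) (t := univ.erase y) (n := k)
    (by simpa using hxy) (by simpa using h1)
    (by rw [card_erase_of_mem (mem_univ y), card_univ]; omega)
  obtain ⟨g, hg⟩ := h (swap x y) S h5
  exact exists_apply_eq (h3 (mem_singleton_self x)) (fun hy => by simpa using h4 hy) hg

theorem tr_two (h1 : ∀ x y, ∃ g, ρ g x = y)
    (h2 : ∀ x y z, y ≠ x → z ≠ x → ∃ g, ρ g x = x ∧ ρ g y = z) : Tr ρ 2 := by
  intro σ F hF
  rcases F.eq_empty_or_nonempty with rfl | ⟨x, hx⟩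
  · exact ⟨1, by simp⟩
  obtain ⟨g, hg⟩ := h1 x (σ x)
  rcases (F.erase x).eq_empty_or_nonempty with h | ⟨y, hy⟩
  · refine ⟨g, fun z hz => ?_⟩
    by_contra hn
    have : z ∈ F.erase x := mem_erase.2 ⟨fun e => hn (e ▸ hg), hz⟩
    simp [h] at this
  obtain ⟨hyx, hyF⟩ := mem_erase.1 hy
  obtain ⟨k, hk, hk'⟩ := h2 x y ((ρ g)⁻¹ (σ y)) hyx (by
    rw [Ne, Perm.inv_eq_iff_eq, hg]; exact fun e => hyx (σ.injective e))
  refine ⟨g * k, fun z hz => ?_⟩
  have h3 : #(F.erase x) ≤ 1 := by rw [card_erase_of_mem hx]; omega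
  by_cases hzx : z = x
  · rw [hzx, map_mul, Perm.mul_apply, hk, hg]
  · rw [card_le_one.1 h3 z (mem_erase.2 ⟨hzx, hz⟩) y hy, map_mul, Perm.mul_apply, hk']
    simp

variable {α : Type*} [Fintype α] [DecidableEq α] {H : Subgroup (Perm α)}

theorem tr_of_alt (h : alternatingGroup α ≤ H) {s : ℕ} (hs : s + 2 ≤ Fintype.card α) :
    Tr H.subtype s := by
  intro σ F hF
  obtain ⟨a, b, ha, hb, hab⟩ := one_lt_card_iff.1 (show 1 < #Fᶜ by rw [card_compl]; omega)
  rw [mem_compl] at ha hb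
  rcases Int.units_eq_one_or (Perm.sign σ) with h1 | h1
  · exact ⟨⟨σ, h (Perm.mem_alternatingGroup.2 h1)⟩, fun _ _ => rfl⟩
  · refine ⟨⟨σ * swap a b, h (Perm.mem_alternatingGroup.2 (by simp [h1, hab]))⟩, fun x hx => ?_⟩
    show σ (swap a b x) = σ x
    rw [swap_apply_of_ne_of_ne (fun e : x = a => ha (e ▸ hx)) (fun e : x = b => hb (e ▸ hx))]

theorem tr_of_top (h : H = ⊤) (s : ℕ) : Tr H.subtype s :=
  fun σ _ _ => ⟨⟨σ, h ▸ Subgroup.mem_top σ⟩, fun _ _ => rfl⟩

theorem eq_top_of_odd (h : alternatingGroup α ≤ H) {τ : Perm α} (hτ : τ ∈ H)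
    (h1 : Perm.sign τ = -1) : H = ⊤ := by
  rw [eq_top_iff]
  intro σ _
  rcases Int.units_eq_one_or (Perm.sign σ) with h2 | h2
  · exact h (Perm.mem_alternatingGroup.2 h2)
  · have := H.mul_mem (h (Perm.mem_alternatingGroup.2 (show Perm.sign (σ * τ⁻¹) = 1 by
      simp [h1, h2]))) hτ
    simpa using this

theorem prim_of_tr_two (h : Tr H.subtype 2) : IsPreprimitive H α := by
  refine isPreprimitive_of_is_two_pretransitive (is_two_pretransitive_iff.2 ?_)
  intro a b c d hab hcd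
  obtain ⟨σ, h1, h2⟩ : ∃ σ : Perm α, σ a = c ∧ σ b = d := by
    refine ⟨swap (swap a c b) d * swap a c, ?_, by simp⟩
    rw [Perm.mul_apply, swap_apply_left, swap_apply_of_ne_of_ne _ hcd]
    rw [Ne, eq_comm, swap_apply_eq_iff, swap_apply_right]
    exact hab.symm
  obtain ⟨g, hg⟩ := h σ {a, b} card_le_two
  exact ⟨g, (hg a (by simp)).trans h1, (hg b (by simp)).trans h2⟩

theorem prim_of_cycle [IsPretransitive H α] {p : ℕ} (hp : p.Prime) (h2 : Fintype.card α < 2 * p)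
    {c : Perm α} (hc : c.IsCycle) (hcp : #c.support = p) (hcH : c ∈ H) : IsPreprimitive H α := by
  obtain ⟨a, ha, ha'⟩ := id hc
  have e : orbit (Subgroup.zpowers c) a = (c.support : Set α) := by
    ext x
    rw [mem_coe, Perm.mem_support]
    constructor
    · rintro ⟨⟨_, i, rfl⟩, rfl⟩
      exact Perm.mem_support.1 (Perm.zpow_apply_mem_support.2 (Perm.mem_support.2 ha))
    · intro hx
      obtain ⟨i, hi⟩ := ha' hx
      exact ⟨⟨_, i, rfl⟩, hi⟩
  have e' : (orbit (Subgroup.zpowers c) a).ncard = p := by rw [e, Set.ncard_coe_finset, hcp]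
  haveI : IsPreprimitive (Subgroup.zpowers c) (orbit (Subgroup.zpowers c) a) :=
    IsPreprimitive.of_prime_card (by rw [Nat.card_coe_set_eq, e']; exact hp)
  let f : orbit (Subgroup.zpowers c) a →ₑ[fun z : Subgroup.zpowers c =>
      (⟨z, Subgroup.zpowers_le.2 hcH z.2⟩ : H)] α := ⟨Subtype.val, fun _ _ => rfl⟩
  refine IsPreprimitive.of_card_lt (f := f) ?_
  have : Set.range f = orbit (Subgroup.zpowers c) a := Subtype.range_val
  rw [this, e', Nat.card_eq_fintype_card]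
  exact h2

theorem Hom.exists_cycle {k p : ℕ} (h : Hom H.subtype k) (hα : Fintype.card α = 2 * k)
    (hp : p.Prime) (h1 : k < p) (h2 : p ≤ 2 * k) :
    ∃ c ∈ H, c.IsCycle ∧ #c.support = p := by
  classical
  open scoped Pointwise in
  obtain ⟨S, -, hS⟩ := exists_subset_card_eq (s := (univ : Finset α)) (n := k)
    (by rw [card_univ]; omega)
  have e : orbit H S = (powersetCard k (univ : Finset α) : Set (Finset α)) := by
    ext T
    rw [mem_coe, mem_powersetCard_univ]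
    constructor
    · rintro ⟨d, rfl⟩
      exact (card_smul_finset d S).trans hS
    · intro hT
      obtain ⟨σ, rfl⟩ := exists_perm_image (hS.trans hT.symm)
      exact h σ S hS
  have h3 : p ∣ Nat.card H := by
    refine Dvd.dvd.trans ?_ (stabilizer H S).index_dvd_card
    rw [index_stabilizer, e, Set.ncard_coe_finset, card_powersetCard, card_univ, hα]
    exact hp.dvd_choose h1 (by omega) h2
  haveI := Fact.mk hp
  obtain ⟨c, hc⟩ := exists_prime_orderOf_dvd_card' p h3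
  rw [← Subgroup.orderOf_coe] at hc
  have h4 : (c : Perm α).IsCycle := Perm.isCycle_of_prime_order' (hc ▸ hp) (by omega)
  exact ⟨c, c.2, h4, h4.orderOf.symm.trans hc⟩

/-- An invariant set of moved points of an involution. -/
theorem exists_inv_moved {u : Perm Ω} (hu : u * u = 1) (j : ℕ) (hj : 2 * j ≤ #u.support + 1) :
    ∃ M ⊆ u.support, #M = 2 * j ∧ ∀ x ∈ M, u x ∈ M := by
  have huu : ∀ x, u (u x) = x := fun x => by rw [← Perm.mul_apply, hu, Perm.one_apply]
  induction j with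
  | zero => exact ⟨∅, empty_subset _, rfl, by simp⟩
  | succ j ih =>
    obtain ⟨M, h1, h2, h3⟩ := ih (by omega)
    obtain ⟨c, hc, hc'⟩ := exists_mem_notMem_of_card_lt_card (show #M < #u.support by omega)
    have h4 : u c ∉ M := fun h => hc' (huu c ▸ h3 _ h)
    have h5 : c ≠ u c := (Perm.mem_support.1 hc).symm
    refine ⟨insert c (insert (u c) M), ?_, ?_, ?_⟩
    · exact insert_subset hc (insert_subset (Perm.apply_mem_support.2 hc) h1)
    · rw [card_insert_of_notMem (by simp [h5, hc']), card_insert_of_notMem h4, h2]; ring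
    · intro x hx
      simp only [mem_insert] at hx ⊢
      rcases hx with rfl | rfl | hx
      · exact .inr (.inl rfl)
      · exact .inl (huu c)
      · exact .inr (.inr (h3 x hx))

theorem exists_DD_invol {g : G} (hu : ρ g * ρ g = 1) {j f : ℕ} (hj : 2 * j ≤ #(ρ g).support + 1)
    (hf : f + #(ρ g).support ≤ Fintype.card Ω) :
    ∃ Γ : Finset Ω, #Γ = 2 * j + f ∧ ∃ τ ∈ DD ρ Γ, τ * τ = 1 ∧ #τ.support = 2 * j := by
  obtain ⟨M, h1, h2, h3⟩ := exists_inv_moved hu j hj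
  obtain ⟨F, h4, h5⟩ := exists_subset_card_eq (s := (ρ g).supportᶜ) (n := f)
    (by rw [card_compl]; omega)
  have hd : Disjoint M F := disjoint_left.2 fun x hx hx' => mem_compl.1 (h4 hx') (h1 hx)
  have hF : ∀ x ∈ F, ρ g x = x := fun x hx => Perm.notMem_support.1 (mem_compl.1 (h4 hx))
  have h6 : (M ∪ F).image (ρ g) = M ∪ F := by
    refine eq_of_subset_of_card_le (fun y hy => ?_) ?_
    · obtain ⟨x, hx, rfl⟩ := mem_image.1 hy
      rcases mem_union.1 hx with hx | hx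
      · exact mem_union_left _ (h3 x hx)
      · rw [hF x hx]; exact mem_union_right _ hx
    · rw [card_image_of_injective _ (Equiv.injective _)]
  refine ⟨M ∪ F, by rw [card_union_of_disjoint hd, h2, h5], _,
    subtypePerm_mem (mem_iff_of_image h6), ?_, ?_⟩
  · ext x
    show ρ g (ρ g x) = x
    rw [← Perm.mul_apply, hu, Perm.one_apply]
  · rw [← h2, ← card_image_of_injective _ Subtype.val_injective]
    congr 1
    ext x
    simp only [mem_image, Perm.mem_support]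
    constructor
    · rintro ⟨⟨y, hy⟩, hy', rfl⟩
      exact (mem_union.1 hy).resolve_right fun h => hy' (Subtype.ext (hF y h))
    · intro hx
      exact ⟨⟨x, mem_union_left _ hx⟩,
        fun h => Perm.mem_support.1 (h1 hx) (congrArg Subtype.val h), rfl⟩

theorem sign_invol {τ : Perm α} (h : τ * τ = 1) {j : ℕ} (hj : #τ.support = 2 * j) :
    Perm.sign τ = (-1) ^ j := by
  rw [Perm.sign_of_pow_two_eq_one (by rw [sq, h]), Perm.card_fixedPoints, Perm.sum_cycleType,
    Nat.sub_sub_self (card_le_univ _), hj, Nat.mul_div_cancel_left _ two_pos]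

theorem exists_invol {g : G} (h : Even (orderOf (ρ g))) :
    ∃ m : ℕ, ρ (g ^ m) * ρ (g ^ m) = 1 ∧ ρ (g ^ m) ≠ 1 := by
  obtain ⟨m, hm⟩ := h
  have := orderOf_pos (ρ g)
  refine ⟨m, by rw [map_pow, ← pow_add, ← hm, pow_orderOf_eq_one], ?_⟩
  rw [map_pow]
  exact pow_ne_one_of_lt_orderOf (by omega) (by omega)

theorem add_card_support_le {σ : Perm Ω} {F : Finset Ω} (h : ∀ x ∈ F, σ x = x) :
    #F + #σ.support ≤ Fintype.card Ω := by
  rw [← card_union_of_disjoint (disjoint_left.2 fun x hx hx' => Perm.mem_support.1 hx' (h x hx))]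
  exact card_le_univ _

theorem pow_fix {g : G} {F : Finset Ω} (h : ∀ x ∈ F, ρ g x = x) (m : ℕ) :
    ∀ x ∈ F, ρ (g ^ m) x = x := fun x hx => by
  rw [map_pow]; exact Perm.pow_apply_eq_self_of_apply_eq_self (h x hx) m

/-- The alternating group on a larger set induces the alternating group on a subset. -/
theorem alt_le_DD_of_subset {Γ Δ : Finset Ω} (h : Δ ⊆ Γ) (hΓ : alternatingGroup Γ ≤ DD ρ Γ) :
    alternatingGroup Δ ≤ DD ρ Δ := by
  intro τ hτ
  have h1 : ∀ x, Perm.ofSubtype τ x ∈ Γ ↔ x ∈ Γ := fun x => by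
    by_cases hx : x ∈ Δ
    · exact iff_of_true (h ((Perm.ofSubtype_apply_mem_iff_mem τ x).2 hx)) (h hx)
    · rw [Perm.ofSubtype_apply_of_not_mem τ hx]
  obtain ⟨g, hg⟩ := hΓ (x := (Perm.ofSubtype τ).subtypePerm h1) (by
    have e1 := Perm.sign_subtypePerm _ h1 fun x hx =>
      h (by by_contra hn; exact hx (Perm.ofSubtype_apply_of_not_mem τ hn))
    have e2 := Perm.sign_ofSubtype τ
    have e3 := Perm.mem_alternatingGroup.1 hτ
    rw [Perm.mem_alternatingGroup]
    convert e1.trans (e2.trans (by convert e3)))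
  exact ⟨g, fun x => (hg ⟨x, h x.2⟩).trans (Perm.ofSubtype_apply_coe τ x)⟩

end Cfsg.Snd.Homog

set_option linter.all false in
theorem Cfsg.Rz.Snd_HomogA_0 : True := by
  have := @_root_.Cfsg.Snd.Homog.DD.eq_def.{0, 0}
  have := @_root_.Cfsg.Snd.Homog.DD.eq_1.{0, 0}
  have := @_root_.Cfsg.Snd.Homog.DD.fun_cases
  have := @_root_.Cfsg.Snd.Homog.Hom.congr_simp.{0, 0}
  have := @_root_.Cfsg.Snd.Homog.Hom.eq_def.{0, 0}
  have := @_root_.Cfsg.Snd.Homog.Hom.eq_1.{0, 0}
  have := @_root_.Cfsg.Snd.Homog.Hom.fun_cases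
  trivial
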