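import Cfsg.Agent.Snd.Defs
import Cfsg.Agent.Snd.HomogA

/-!
# S4905: from transitivity on pairs of sets to multiple transitivity

Notation: `n = card Ω`; for a finset `Γ`, `D Γ` is the subgroup of `Perm Γ` induced by the
set stabiliser.

* `oddFix_of_tr`: induction on `F`. Suppose `F = F₀ ∪ {x}`, the stabiliser of `F` lies in
  `ker ε` and `g₀` fixes `F₀` with `ε g₀ = -1`, `y = g₀ x ≠ x`. For `g` fixing `F₀`, `ε g`
  depends only on `g x`; by transitivity of the stabiliser of `F` on the rest, `ε g = -1`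
  whenever `g x ≠ x`. Take `z ∉ F₀ ∪ {x, y}` and `k` fixing `F₀` with `x ↦ y ↦ z`: `ε (k²) = 1`
  and `k² x = z ≠ x`.
* `tr_of_sameSS`: `G` is transitive on `2k`-sets `Γ`, and `D Γ` is transitive on the
  `k`-subsets of `Γ`, so `C(2k,k) ∣ |D Γ|`, so `D Γ` has an element of prime order
  `p ∈ (k, 2k-3]` (`exists_prime_bert`), a `p`-cycle; `D Γ` is transitive, hence primitive
  (`p > k`), so contains the alternating group (`Snd/Jord`). Hence `Tr ρ (2k-2)`, and for
  `t = 2k-1`, then `t = 2k`, the group induced on a `t`-set contains the alternating group and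
  `Tr ρ (t-1)` holds. If it were the alternating group for one (so every) `t`-set: take `g`
  inducing a transposition `(a b)` on a `(t-1)`-set `Δ`. An involution fixing `t-2` points
  is odd on (2-cycle) ∪ (fixed points), so the pointwise stabiliser of `Δ` in the range has odd
  order and an odd power `u` of `ρ g` is an involution inducing `(a b)`. `u` fixes no point
  outside `Δ` (else odd on `Δ ∪ {x}`), so it has two more 2-cycles (`n - t + 1 ≥ 4`); three
  2-cycles and `t - 6` fixed points form an invariant `t`-set on which `u` is odd.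
* `sameSF_four_two`: `#(S ∪ F) ∈ {4,5,6}`. On a 5-set, `D` is transitive on ordered
  partitions of type (2,1,2) (pairs of 3-sets meeting in a point), so `30 ∣ |D|`, `D` is
  primitive with a 3-cycle, so contains `A₅`. On a 6-set `D` is transitive on 3-subsets, so it
  is transitive and contains a 5-cycle, so it is 2-transitive.
* `tr_six`: if `ε g = -1` and `g` fixes `F` then `ρ g` has even order (`hβ`), so a power is
  an involution fixing `F` pointwise. `oddFix_of_tr` with `#F = 3` puts a transposition in `D`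
  of some (every) 5-set, so `D = S₅` and `Tr ρ 5`; then `#F = 4` puts a transposition in the
  2-transitive `D` of a 6-set.
-/

set_option autoImplicit false
set_option linter.unusedSectionVars false

namespace Cfsg.Snd

open Equiv Finset

variable {Ω : Type*} [Fintype Ω] [DecidableEq Ω] {G : Type*} [Group G] {ρ : G →* Perm Ω}
  {ε : G →* ℤˣ}

theorem Tr.mono {s t : ℕ} (h : Tr ρ t) (hs : s ≤ t) : Tr ρ s :=
  fun σ F hF => h σ F (hF.trans hs)

theorem Tr.sameSF {a f : ℕ} (h : Tr ρ (a + f)) : SameSF ρ a f := by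
  intro σ S F hS hF
  obtain ⟨g, hg⟩ := h σ (S ∪ F) ((card_union_le _ _).trans (by omega))
  exact ⟨g, image_congr fun x hx => hg x (mem_union_left _ hx),
    fun x hx => hg x (mem_union_right _ hx)⟩

theorem Tr.sameSS {a b : ℕ} (h : Tr ρ (a + b)) : SameSS ρ a b := by
  intro σ S T hS hT
  obtain ⟨g, hg⟩ := h σ (S ∪ T) ((card_union_le _ _).trans (by omega))
  exact ⟨g, image_congr fun x hx => hg x (mem_union_left _ hx),
    image_congr fun x hx => hg x (mem_union_right _ hx)⟩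

theorem Tr.ker {t : ℕ} (h : Tr ρ t) (ho : OddFix ρ ε t) : Tr (ρ.comp ε.ker.subtype) t := by
  intro σ F hF
  obtain ⟨g, hg⟩ := h σ F hF
  rcases Int.units_eq_one_or (ε g) with h1 | h1
  · exact ⟨⟨g, h1⟩, hg⟩
  · obtain ⟨k, hk, hk'⟩ := ho F hF
    exact ⟨⟨g * k, by simp [MonoidHom.mem_ker, h1, hk]⟩, fun x hx => by simp [hk' x hx, hg x hx]⟩

theorem oddFix_of_tr {t : ℕ} (h : Tr ρ (t + 1)) (hε : ε ≠ 1) (hn : t + 2 ≤ Fintype.card Ω) :
    OddFix ρ ε t := by
  intro F
  induction F using Finset.induction_on with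
  | empty =>
    intro _
    by_contra! hc
    exact hε (MonoidHom.ext fun g => (Int.units_eq_one_or (ε g)).resolve_right fun e => by
      simpa using hc g e)
  | insert x F hx ih =>
    intro hF
    rw [card_insert_of_notMem hx] at hF
    obtain ⟨g₀, h0, h0'⟩ := ih (by omega)
    by_contra hc
    have h1 : ∀ g, (∀ z ∈ F, ρ g z = z) → ρ g x = x → ε g = 1 := fun g hg hg' =>
      (Int.units_eq_one_or (ε g)).resolve_right fun e =>
        hc ⟨g, e, fun z hz => (mem_insert.1 hz).elim (fun e => e ▸ hg') (hg z)⟩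
    have h2 : ∀ g, (∀ z ∈ F, ρ g z = z) → ρ g x ∉ F := fun g hg hm =>
      hx ((ρ g).injective (hg _ hm) ▸ hm)
    have hy : ρ g₀ x ≠ x := fun e => by simp [h1 g₀ h0' e] at h0
    have hyF := h2 g₀ h0'
    have hc' : #(insert (ρ g₀ x) (insert x F)) ≤ t + 1 :=
      (card_insert_le _ _).trans (by rw [card_insert_of_notMem hx]; omega)
    have h3 : ∀ g, (∀ z ∈ F, ρ g z = z) → ρ g x ≠ x → ε g = -1 := fun g hg hg' => by
      obtain ⟨k, hk⟩ := h (swap (ρ g₀ x) (ρ g x)) _ hc'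
      have k1 : ρ k (ρ g₀ x) = ρ g x := by rw [hk _ (by simp), swap_apply_left]
      have k2 : ρ k x = x := by rw [hk _ (by simp), swap_apply_of_ne_of_ne hy.symm hg'.symm]
      have k3 : ∀ z ∈ F, ρ k z = z := fun z hz => by
        rw [hk _ (by simp [hz]), swap_apply_of_ne_of_ne (ne_of_mem_of_not_mem hz hyF)
          (ne_of_mem_of_not_mem hz (h2 g hg))]
      have := h1 (g⁻¹ * k * g₀) (fun z hz => by
        simp only [map_mul, map_inv, Perm.mul_apply, h0' z hz, k3 z hz]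
        exact Perm.inv_eq_iff_eq.2 (hg z hz).symm) (by
        simp only [map_mul, map_inv, Perm.mul_apply, k1]; simp)
      rw [map_mul, map_mul, h1 k k3 k2, h0, map_inv, mul_one, inv_mul_eq_one] at this
      exact this
    obtain ⟨z, -, hz⟩ := exists_mem_notMem_of_card_lt_card (s := insert (ρ g₀ x) (insert x F))
      (t := univ) (by rw [card_univ]; omega)
    simp only [mem_insert, not_or] at hz
    obtain ⟨k, hk⟩ := h (swap x z * swap x (ρ g₀ x)) _ hc'
    have k1 : ρ k x = ρ g₀ x := by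
      rw [hk _ (by simp), Perm.mul_apply, swap_apply_left, swap_apply_of_ne_of_ne hy (Ne.symm hz.1)]
    have k2 : ρ k (ρ g₀ x) = z := by
      rw [hk _ (by simp), Perm.mul_apply, swap_apply_right, swap_apply_left]
    have k3 : ∀ w ∈ F, ρ k w = w := fun w hw => by
      have e1 : w ≠ x := fun e => hx (e ▸ hw)
      rw [hk _ (by simp [hw]), Perm.mul_apply,
        swap_apply_of_ne_of_ne e1 (ne_of_mem_of_not_mem hw hyF),
        swap_apply_of_ne_of_ne e1 (ne_of_mem_of_not_mem hw hz.2.2)]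
    have := h3 (k * k) (fun w hw => by rw [map_mul, Perm.mul_apply, k3 w hw, k3 w hw])
      (by rw [map_mul, Perm.mul_apply, k1, k2]; exact hz.2.1)
    rw [map_mul, Int.units_mul_self] at this
    exact absurd this (by decide)

namespace Homog

theorem tr_succ {t : ℕ} (h6 : 5 ≤ t) (hn : t + 4 ≤ Fintype.card Ω) (hH : Hom ρ (t + 1))
    (hA : ∀ Γ : Finset Ω, #Γ = t + 1 → alternatingGroup Γ ≤ DD ρ Γ) (h : Tr ρ t) :
    Tr ρ (t + 1) := by
  by_contra hc
  have key : ∀ g j f, ρ g * ρ g = 1 → Odd j → 2 * j ≤ #(ρ g).support + 1 →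
      f + #(ρ g).support ≤ Fintype.card Ω → 2 * j + f ≠ t + 1 := fun g j f h1 h2 h3 h4 h5 => by
    obtain ⟨Γ, hΓ, τ, hτ, k1, k2⟩ := exists_DD_invol h1 h3 h4
    exact hc (hH.tr (hΓ.trans h5) (tr_of_top (eq_top_of_odd (hA Γ (hΓ.trans h5)) hτ
      (by rw [sign_invol k1 k2, h2.neg_one_pow])) _) le_rfl)
  have key1 : ∀ g, ρ g * ρ g = 1 → ρ g ≠ 1 → Fintype.card Ω + 1 < t + #(ρ g).support :=
    fun g h1 h2 => by
      by_contra h3
      have := card_pos.2 (nonempty_iff_ne_empty.2 (mt Perm.support_eq_empty_iff.1 h2))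
      exact key g 1 (t - 1) h1 odd_one (by omega) (by omega) (by omega)
  obtain ⟨Δ, -, hΔ⟩ := exists_subset_card_eq (s := (univ : Finset Ω)) (n := t)
    (by rw [card_univ]; omega)
  obtain ⟨a, b, ha, hb, hab⟩ := one_lt_card_iff.1 (show 1 < #Δ by omega)
  obtain ⟨g, hg⟩ := h (swap a b) Δ hΔ.le
  have hs : ∀ x ∈ Δ, swap a b x ∈ Δ := fun x hx => by
    rw [swap_apply_def]; split_ifs <;> assumption
  have h2 : ∀ x ∈ Δ, ρ (g * g) x = x := fun x hx => by
    rw [map_mul, Perm.mul_apply, hg x hx, hg _ (hs x hx), swap_apply_self]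
  have h3 : Odd (orderOf (ρ (g * g))) := by
    rw [← Nat.not_even_iff_odd]
    intro he
    obtain ⟨m, k1, k2⟩ := exists_invol he
    have := key1 _ k1 k2
    have := add_card_support_le (pow_fix h2 m)
    omega
  obtain ⟨m, hm⟩ := h3
  have h4 : ρ (g ^ (2 * m + 1)) * ρ (g ^ (2 * m + 1)) = 1 := by
    rw [← map_mul, ← (Commute.refl g).mul_pow, map_pow, ← hm, pow_orderOf_eq_one]
  have h5 : ∀ x ∈ Δ, ρ (g ^ (2 * m + 1)) x = swap a b x := fun x hx => by
    rw [pow_succ, pow_mul, sq, map_mul, Perm.mul_apply, hg x hx, pow_fix h2 m _ (hs x hx)]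
  have h6' := key1 _ h4 fun e => hab (by simpa [e] using h5 a ha)
  have h7 := add_card_support_le (σ := ρ (g ^ (2 * m + 1))) (F := (Δ.erase a).erase b)
    fun x hx => by
      obtain ⟨k1, k2⟩ := mem_erase.1 hx
      obtain ⟨k3, k4⟩ := mem_erase.1 k2
      rw [h5 x k4, swap_apply_of_ne_of_ne k3 k1]
  rw [card_erase_of_mem (mem_erase.2 ⟨hab.symm, hb⟩), card_erase_of_mem ha] at h7
  exact key _ 3 (t - 5) h4 (by decide) (by omega) (by omega) (by omega)

theorem tr_two_five (h : SameSS ρ 3 3) {Γ : Finset Ω} (hΓ : #Γ = 5) : Tr (DD ρ Γ).subtype 2 := by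
  have hc : Fintype.card Γ = 5 := by rw [Fintype.card_coe, hΓ]
  have key : ∀ (x : Γ) (S : Finset Γ) (τ : Perm Γ), x ∉ S → #S = 2 →
      ∃ d : DD ρ Γ, (d : Perm Γ) x = τ x ∧ S.image (d : Perm Γ) = S.image τ := by
    intro x S τ hx hS
    obtain ⟨d, h1, h2⟩ := pair_DD h τ (S := insert x S) (T := Sᶜ)
      (by rw [card_insert_of_notMem hx, hS]) (by rw [card_compl, hc, hS])
      (by ext y; by_cases y ∈ S <;> simp [*])
    have e : insert x S ∩ Sᶜ = {x} := by
      ext y; by_cases hy : y = x <;> simp [hy, hx]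
    have h3 : (d : Perm Γ) x = τ x := by
      have : (insert x S ∩ Sᶜ).image (d : Perm Γ) = (insert x S ∩ Sᶜ).image τ := by
        rw [image_inter _ _ (Equiv.injective _), image_inter _ _ (Equiv.injective _), h1, h2]
      simpa [e] using this
    refine ⟨d, h3, ?_⟩
    have h4 : ∀ υ : Perm Γ, S.image υ = (Sᶜ.image υ)ᶜ := fun υ => by
      ext y
      obtain ⟨y, rfl⟩ := υ.surjective y
      simp [υ.injective.mem_finset_image]
    rw [h4, h4, h2]
  have ex : ∀ x z y : Γ, y ≠ x → y ≠ z → ∃ S : Finset Γ, #S = 2 ∧ y ∈ S ∧ x ∉ S ∧ z ∉ S := by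
    intro x z y h1 h2
    obtain ⟨S, k1, k2, k3⟩ := exists_subsuperset_card_eq (s := {y}) (t := {x, z}ᶜ) (n := 2)
      (by simp [h1, h2]) (by simp)
      (by rw [card_compl, hc]; have := card_le_two (a := x) (b := z); omega)
    exact ⟨S, k3, k1 (mem_singleton_self y), fun e => by simpa using k2 e,
      fun e => by simpa using k2 e⟩
  refine tr_two (fun x y => ?_) fun x y z hy hz => ?_
  · obtain ⟨w, hw⟩ := Fintype.exists_ne_of_one_lt_card (by omega) x
    obtain ⟨S, k1, -, k2, -⟩ := ex x x w hw hw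
    obtain ⟨d, hd, -⟩ := key x S (swap x y) k2 k1
    exact ⟨d, hd.trans (swap_apply_left _ _)⟩
  · by_cases hyz : y = z
    · exact ⟨1, rfl, hyz⟩
    obtain ⟨S, k1, k2, k3, k4⟩ := ex x z y hy hyz
    obtain ⟨d, hd, hd'⟩ := key x S (swap y z) k3 k1
    rw [swap_apply_of_ne_of_ne hy.symm hz.symm] at hd
    obtain ⟨k, hk⟩ := exists_apply_eq
      (ρ := (DD ρ Γ).subtype.comp (MulAction.stabilizer (DD ρ Γ) x).subtype) k2 k4
      (g := ⟨d, hd⟩) hd'
    exact ⟨k.1, k.2, hk⟩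

theorem tr_two_six (h : SameSS ρ 3 3) {Γ : Finset Ω} (hΓ : #Γ = 6) : Tr (DD ρ Γ).subtype 2 := by
  have hc : Fintype.card Γ = 2 * 3 := by rw [Fintype.card_coe, hΓ]
  have h1 := hom_DD h (Γ := Γ) hΓ
  have h2 := h1.trans (by norm_num) (by omega)
  obtain ⟨c, hc1, hc2, hc3⟩ := h1.exists_cycle hc Nat.prime_five (by norm_num) (by norm_num)
  obtain ⟨x₀, hx₀⟩ := card_eq_one.1 (show #c.supportᶜ = 1 by rw [card_compl, hc, hc3])
  have h3 : ∀ y, y ≠ x₀ → c y ≠ y := fun y hy => by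
    rw [← Perm.mem_support]
    by_contra hn
    exact hy (mem_singleton.1 (hx₀ ▸ mem_compl.2 hn))
  have h4 : c x₀ = x₀ := Perm.notMem_support.1 (mem_compl.1 (hx₀ ▸ mem_singleton_self x₀))
  refine tr_two h2 fun x y z hy hz => ?_
  obtain ⟨d, hd⟩ := h2 x x₀
  have hd' : (d : Perm Γ) x = x₀ := hd
  obtain ⟨i, hi⟩ := hc2.exists_pow_eq (h3 ((d : Perm Γ) y) fun e => hy ((d : Perm Γ).injective
    (e.trans hd'.symm))) (h3 ((d : Perm Γ) z) fun e => hz ((d : Perm Γ).injective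
    (e.trans hd'.symm)))
  refine ⟨d⁻¹ * ⟨c, hc1⟩ ^ i * d, ?_, ?_⟩
  · show (d : Perm Γ)⁻¹ ((c ^ i) ((d : Perm Γ) x)) = x
    rw [hd', Perm.pow_apply_eq_self_of_apply_eq_self h4, Perm.inv_eq_iff_eq, hd']
  · show (d : Perm Γ)⁻¹ ((c ^ i) ((d : Perm Γ) y)) = z
    rw [hi]; simp

theorem tr_of_swap {t : ℕ} (hH : Hom ρ (t + 2)) (ho : OddFix ρ ε t) (hβ : ∀ g, ρ g = 1 → ε g = 1)
    (hn : t ≤ Fintype.card Ω) (hD : ∀ Γ : Finset Ω, #Γ = t + 2 → Tr (DD ρ Γ).subtype 2) :
    Tr ρ (t + 2) := by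
  obtain ⟨F, -, hF⟩ := exists_subset_card_eq (s := (univ : Finset Ω)) (n := t)
    (by rw [card_univ]; omega)
  obtain ⟨g, hg, hg'⟩ := ho F hF.le
  have h1 : Even (orderOf (ρ g)) := by
    rw [← Nat.not_odd_iff_even]
    intro h
    have := hβ (g ^ orderOf (ρ g)) (by rw [map_pow, pow_orderOf_eq_one])
    rw [map_pow, hg, h.neg_one_pow] at this
    exact absurd this (by decide)
  obtain ⟨m, k1, k2⟩ := exists_invol h1
  have k3 := add_card_support_le (pow_fix hg' m)
  have k4 := card_pos.2 (nonempty_iff_ne_empty.2 (mt Perm.support_eq_empty_iff.1 k2))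
  obtain ⟨Γ, hΓ, τ, hτ, -, k5⟩ := exists_DD_invol (j := 1) (f := t) k1 (by omega) (by omega)
  have hΓ' : #Γ = t + 2 := by omega
  exact hH.tr hΓ' (tr_of_top (Perm.subgroup_eq_top_of_isPreprimitive_of_isSwap_mem
    (prim_of_tr_two (hD Γ hΓ')) τ (Perm.card_support_eq_two.1 k5) hτ) _) le_rfl

end Homog

open Homog

theorem tr_of_sameSS [Finite G] {k : ℕ} (hk : 4 ≤ k) (hn : 2 * k + 3 ≤ Fintype.card Ω)
    (h : SameSS ρ k k) : Tr ρ (2 * k) := by
  obtain ⟨t, ht⟩ : ∃ t, 2 * k = t + 1 + 1 := ⟨2 * k - 2, by omega⟩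
  have h1 : Hom ρ (t + 1 + 1) := hom_of_sameSS h (by omega) (by omega) (by omega)
  have h2 : ∀ Γ : Finset Ω, #Γ = t + 1 + 1 → alternatingGroup Γ ≤ DD ρ Γ := fun Γ hΓ => by
    have hc : Fintype.card Γ = 2 * k := by rw [Fintype.card_coe, hΓ, ht]
    have k1 := hom_DD h (hΓ.trans ht.symm)
    obtain ⟨p, hp, k2, k3⟩ := exists_prime_bert k hk
    obtain ⟨c, k4, k5, k6⟩ := k1.exists_cycle hc hp k2 (by omega)
    haveI : MulAction.IsPretransitive (DD ρ Γ) Γ := ⟨k1.trans (by omega) (by omega)⟩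
    exact Agent.Snd.jordan_cycle (prim_of_cycle hp (by omega) k5 k6 k4) hp
      (by rw [Nat.card_eq_fintype_card]; omega) k5 k6 k4
  have h3 : ∀ s ≤ t, ∀ Γ : Finset Ω, #Γ = t + 1 + 1 → Tr (DD ρ Γ).subtype s := fun s hs Γ hΓ =>
    tr_of_alt (h2 Γ hΓ) (by rw [Fintype.card_coe]; omega)
  obtain ⟨Δ, -, hΔ⟩ := exists_subset_card_eq (s := (univ : Finset Ω)) (n := t + 1 + 1)
    (by rw [card_univ]; omega)
  have h4 : Tr ρ t := h1.tr hΔ (h3 t le_rfl Δ hΔ) (by omega)
  have h5 : Tr ρ (t + 1) := by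
    refine tr_succ (by omega) (by omega) (h1.pred (by omega) (h3 1 (by omega))) (fun Γ hΓ => ?_) h4
    obtain ⟨Γ', k1, -, k2⟩ := exists_subsuperset_card_eq (subset_univ Γ) (n := t + 1 + 1)
      (by omega) (by rw [card_univ]; omega)
    exact alt_le_DD_of_subset k1 (h2 Γ' k2)
  rw [ht]
  exact tr_succ (by omega) (by omega) h1 h2 h5

theorem sameSF_four_two [Finite G] (h4 : Tr ρ 4) (h : SameSS ρ 3 3) :
    SameSF ρ 4 2 := by
  intro σ S F hS hF
  by_cases h1 : #(S ∪ F) ≤ 4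
  · obtain ⟨g, hg⟩ := h4 σ _ h1
    exact ⟨g, image_congr fun x hx => hg x (mem_union_left _ hx),
      fun x hx => hg x (mem_union_right _ hx)⟩
  have h2 := card_union_le S F
  have h3 : Tr (DD ρ (S ∪ F)).subtype 2 := by
    by_cases h5 : #(S ∪ F) = 5
    · exact tr_two_five h h5
    · exact tr_two_six h (by omega)
  obtain ⟨g, hg, hg'⟩ := (hom_of_sameSS h (t := #(S ∪ F)) (by omega) (by omega)
    (by omega)).exists_of_tr rfl h3 σ subset_union_right hF
  refine ⟨g, ?_, hg'⟩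
  have e : S = (S ∪ F) \ (F \ S) := by
    ext x; by_cases x ∈ S <;> simp [*]
  rw [e, image_sdiff _ _ (ρ g).injective, image_sdiff (S ∪ F) _ σ.injective, hg,
    image_congr (f := ρ g) (g := σ) fun x hx => hg' x (mem_sdiff.1 hx).1]

theorem tr_six [Finite G] (h4 : Tr ρ 4) (h : SameSS ρ 3 3) (hε : ε ≠ 1)
    (hβ : ∀ g, ρ g = 1 → ε g = 1) (hn : 7 ≤ Fintype.card Ω) : Tr ρ 6 := by
  have h5 : Tr ρ 5 := tr_of_swap (t := 3) (hom_of_sameSS h (by omega) (by omega) (by omega))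
    (oddFix_of_tr h4 hε (by omega)) hβ (by omega) fun Γ => tr_two_five h
  exact tr_of_swap (t := 4) (hom_of_sameSS h (by omega) (by omega) (by omega))
    (oddFix_of_tr h5 hε (by omega)) hβ (by omega) fun Γ => tr_two_six h

end Cfsg.Snd
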