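import Cfsg.Agent.Snd.Defs
import Cfsg.Agent.Snd.Jord
import Mathlib.GroupTheory.GroupAction.Jordan
import Mathlib.GroupTheory.SpecificGroups.Alternating.Simple

/-!
# S4905: the finishing criteria that use Jordan's theorem (`Snd/Jord`)

* `dvd_card_range`: the orbit of a pair of disjoint `k`-sets has `C(n,k) C(n-k,k)` elements,
  times `k! k! (n-2k)!` this is `n!`.
* `alt_le_of_dvd`: an element of order `p > n/2` is a `p`-cycle.
* `alt_le_of_miller`: `2p = n - 3` divides the order. Let `u` have order `p`; if it is a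
  `p`-cycle use Jordan. Otherwise it fixes exactly a 3-set `Δ`. A `p`-subgroup of the
  pointwise stabiliser `H` of `Δ` containing `u` fixes both `p`-cycles of `u` setwise (`p² > 2p`),
  so it is `⟨u⟩` or contains a `p`-cycle. If `⟨u⟩` is Sylow in `H`: Frattini gives `x, y`
  normalising `⟨u⟩` and inducing `(1 2 3)`, `(1 2)` on `Δ`; `c = ⁅x, y⁆` centralises `u`
  and induces a 3-cycle on `Δ`; `c ^ (2p)` is trivial off `Δ`, so it is a 3-cycle.
* `alt_le_of_le_seven`: for `n ≤ 6` Mathlib's `IsMultiplyPretransitive.alternatingGroup_le`;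
  for `n = 7` the index is at most 6, so the normal core has index at most `720 < 2520`.
-/

set_option autoImplicit false
set_option linter.unusedSectionVars false

namespace Cfsg.Snd

open Equiv Finset

variable {Ω : Type*} [Fintype Ω] [DecidableEq Ω] {G : Type*} [Group G] [Finite G] {ρ : G →* Perm Ω}

namespace JordB

open MulAction Equiv.Perm

theorem mpt {t s : ℕ} (h : Tr ρ t) (hs : s ≤ t) : IsMultiplyPretransitive ρ.range Ω s := by
  refine ⟨fun x y => ?_⟩
  haveI := Equiv.Perm.isMultiplyPretransitive Ω s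
  obtain ⟨σ, hσ⟩ := MulAction.exists_smul_eq (Perm Ω) x y
  obtain ⟨g, hg⟩ := h σ (univ.image x) (by
    refine card_image_le.trans ?_
    simpa using hs)
  refine ⟨⟨ρ g, g, rfl⟩, ?_⟩
  ext i
  have h1 := hg (x i) (mem_image.mpr ⟨i, mem_univ i, rfl⟩)
  have h2 : σ (x i) = y i := by
    rw [← hσ]; rfl
  rw [← h2, ← h1]; rfl

theorem prim {t : ℕ} (h : Tr ρ t) (ht : 2 ≤ t) : IsPreprimitive ρ.range Ω :=
  isPreprimitive_of_is_two_pretransitive (mpt h ht)

theorem desc_dvd {t : ℕ} (h : Tr ρ t) (ht : t ≤ Fintype.card Ω) :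
    (Fintype.card Ω).descFactorial t ∣ Nat.card ρ.range := by
  obtain ⟨s, -, hs⟩ := Set.exists_subset_card_eq (s := (Set.univ : Set Ω)) (n := t)
    (by rw [Set.ncard_univ, Nat.card_eq_fintype_card]; exact ht)
  have h1 := IsMultiplyPretransitive.index_of_fixingSubgroup_eq (G := ρ.range) s
    (by rw [hs]; exact mpt h le_rfl)
  rw [hs, Nat.card_eq_fintype_card] at h1
  rw [Nat.descFactorial_eq_factorial_mul_choose, mul_comm, ← h1]
  exact Subgroup.index_dvd_card _

theorem fix_of_pow {p : ℕ} (hp : p.Prime) {u : Perm Ω} (hu : u ^ p = 1) {x : Ω} {i j : ℕ}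
    (hij : i < j) (hj : j < p) (h : (u ^ i) x = (u ^ j) x) : u x = x := by
  obtain ⟨m, rfl⟩ := Nat.exists_eq_add_of_lt hij
  have h1 : (u ^ (m + 1)) x = x := by
    rw [add_assoc, pow_add, Perm.mul_apply] at h
    exact ((u ^ i).injective h).symm
  have h2 : (m + 1).Coprime (orderOf u) :=
    Nat.Coprime.coprime_dvd_right (orderOf_dvd_of_pow_eq_one hu)
      (Nat.coprime_of_lt_prime (by omega) (by omega) hp).symm
  obtain ⟨k, hk⟩ := exists_pow_eq_self_of_coprime h2
  rw [← hk]
  exact pow_apply_eq_self_of_apply_eq_self h1 k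

theorem card_orb {p : ℕ} (hp : p.Prime) {u : Perm Ω} (hu : u ^ p = 1) {x : Ω} (hx : u x ≠ x) :
    #((range p).image fun i => (u ^ i) x) = p := by
  rw [card_image_of_injOn, card_range]
  intro i hi j hj h
  rw [coe_range, Set.mem_Iio] at hi hj
  rcases lt_trichotomy i j with h1 | h1 | h1
  · exact absurd (fix_of_pow hp hu h1 hj h) hx
  · exact h1
  · exact absurd (fix_of_pow hp hu h1 hi h.symm) hx

theorem fix_of_small {p : ℕ} (hp : p.Prime) {u : Perm Ω} (hu : u ^ p = 1) {U : Finset Ω}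
    (hU : ∀ x ∈ U, u x ∈ U) (hc : #U < p) {x : Ω} (hx : x ∈ U) : u x = x := by
  by_contra h
  have h1 : ((range p).image fun i => (u ^ i) x) ⊆ U := by
    intro y hy
    obtain ⟨i, -, rfl⟩ := mem_image.mp hy
    clear hy
    induction i with
    | zero => simpa using hx
    | succ i ih => rw [pow_succ', Perm.mul_apply]; exact hU _ ih
  have h2 := card_le_card h1
  rw [card_orb hp hu h] at h2
  omega

theorem exists_order {p : ℕ} (hp : p.Prime) {H : Subgroup (Perm Ω)} (h : p ∣ Nat.card H) :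
    ∃ u ∈ H, orderOf u = p := by
  haveI := Fact.mk hp
  obtain ⟨u, hu⟩ := exists_prime_orderOf_dvd_card' p h
  exact ⟨u, u.2, by rw [← hu]; exact (Subgroup.orderOf_coe u)⟩

/-- Frattini step for an element `g` of order `p` whose cyclic group is Sylow in the pointwise
stabiliser of its fixed points. -/
theorem frattini {H : Subgroup (Perm Ω)} {p : ℕ} (hp : p.Prime) {g : Perm Ω}
    (hpow : g ^ p = 1) (hg : g ∈ H)
    (hkey : ∀ Q : Subgroup (Perm Ω), IsPGroup p Q → Q ≤ H → g ∈ Q →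
      (∀ u ∈ Q, ∀ f, g f = f → u f = f) → ∀ u ∈ Q, u ∈ Subgroup.zpowers g)
    {x : Perm Ω} (hx : x ∈ H)
    (hxF : ∀ f, g f = f → g (x f) = x f) (hxF' : ∀ f, g f = f → g (x⁻¹ f) = x⁻¹ f) :
    ∃ y ∈ H, (∀ f, g f = f → y f = x f) ∧ ∃ a : ℤ, y * g * y⁻¹ = g ^ a := by
  haveI : Fact p.Prime := ⟨hp⟩
  let K : Subgroup (Perm Ω) :=
    { carrier := {u | u ∈ H ∧ ∀ f, g f = f → u f = f}
      mul_mem' := by
        rintro a b ⟨ha, ha'⟩ ⟨hb, hb'⟩
        refine ⟨H.mul_mem ha hb, fun f hf => ?_⟩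
        rw [Perm.mul_apply, hb' f hf, ha' f hf]
      one_mem' := ⟨H.one_mem, fun f _ => rfl⟩
      inv_mem' := by
        rintro a ⟨ha, ha'⟩
        refine ⟨H.inv_mem ha, fun f hf => ?_⟩
        rw [Perm.inv_eq_iff_eq]
        exact (ha' f hf).symm }
  have hgH : g ∈ K := ⟨hg, fun f hf => hf⟩
  have hg'H : x * g * x⁻¹ ∈ K := by
    refine ⟨H.mul_mem (H.mul_mem hx hg) (H.inv_mem hx), fun f hf => ?_⟩
    rw [Perm.mul_apply, Perm.mul_apply, hxF' f hf]
    simp
  have hP : ∀ u : K, (u : Perm Ω) ^ p = 1 → IsPGroup p (Subgroup.zpowers u) := by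
    intro u hu
    have hu' : u ^ p = 1 := Subtype.ext (by simpa using hu)
    intro v
    obtain ⟨v, hv⟩ := v
    obtain ⟨k, rfl⟩ := Subgroup.mem_zpowers_iff.mp hv
    refine ⟨1, Subtype.ext ?_⟩
    show (u ^ k) ^ (p ^ 1) = 1
    rw [pow_one, ← zpow_natCast, ← zpow_mul, mul_comm, zpow_mul, zpow_natCast, hu', one_zpow]
  obtain ⟨P1, hP1⟩ := (hP ⟨g, hgH⟩ hpow).exists_le_sylow
  obtain ⟨P2, hP2⟩ := (hP ⟨x * g * x⁻¹, hg'H⟩ (by
    show (x * g * x⁻¹) ^ p = 1
    rw [conj_pow, hpow]; simp)).exists_le_sylow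
  obtain ⟨h, hh⟩ := MulAction.exists_smul_eq K P2 P1
  have hmem : h * ⟨x * g * x⁻¹, hg'H⟩ * h⁻¹ ∈ (P1 : Subgroup K) := by
    rw [← hh, Sylow.coe_subgroup_smul]
    have h0 : (⟨x * g * x⁻¹, hg'H⟩ : K) ∈ (P2 : Subgroup K) := hP2 (Subgroup.mem_zpowers _)
    exact Subgroup.smul_mem_pointwise_smul _ (MulAut.conj h) _ h0
  have hQ : IsPGroup p ((P1 : Subgroup K).map K.subtype) := P1.isPGroup'.map _
  have key := hkey _ hQ (by rintro u ⟨v, -, rfl⟩; exact v.2.1)
    (Subgroup.mem_map.mpr ⟨⟨g, hgH⟩, hP1 (Subgroup.mem_zpowers _), rfl⟩)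
    (by
      rintro u ⟨v, -, rfl⟩ f hf
      exact v.2.2 f hf) _
    (Subgroup.mem_map.mpr ⟨_, hmem, rfl⟩)
  obtain ⟨a, ha⟩ := Subgroup.mem_zpowers_iff.mp key
  refine ⟨(h : Perm Ω) * x, H.mul_mem h.2.1 hx, fun f hf => ?_, a, ?_⟩
  · rw [Perm.mul_apply]
    exact h.2.2 _ (hxF f hf)
  · rw [ha]
    simp [mul_assoc]

/-- An element centralising an element `g` of order `p` moving `2p` points. -/
theorem pow_fix {p : ℕ} (hp : p.Prime) {g z : Perm Ω} (hpow : g ^ p = 1)
    (hs : #g.support ≤ 2 * p) (hc : Commute z g) {s : Ω} (hgs : g s ≠ s) :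
    (z ^ (2 * p)) s = s := by
  have hmv : ∀ t, g t ≠ t → g (z t) ≠ z t := by
    intro t ht h
    have : z (g t) = z t := by rw [← Perm.mul_apply, hc.eq, Perm.mul_apply, h]
    exact ht (z.injective this)
  have hsc : ∀ a b, g.SameCycle a b → g.SameCycle (z a) (z b) := by
    rintro a b ⟨i, rfl⟩
    exact ⟨i, by rw [← Perm.mul_apply, ← (hc.zpow_right i).eq, Perm.mul_apply]⟩
  have hsc' : ∀ a b, g.SameCycle (z a) (z b) → g.SameCycle a b := by
    rintro a b ⟨i, hi⟩
    refine ⟨i, z.injective ?_⟩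
    rw [← hi, ← Perm.mul_apply, (hc.zpow_right i).eq, Perm.mul_apply]
  have hkey : g.SameCycle s (z (z s)) := by
    by_contra h3
    have h1 : ¬ g.SameCycle s (z s) := fun h => h3 (h.trans (hsc _ _ h))
    have h2 : ¬ g.SameCycle (z s) (z (z s)) := fun h => h1 (hsc' _ _ h)
    let O : Ω → Finset Ω := fun t => (range p).image fun i => (g ^ i) t
    have hO : ∀ t y, y ∈ O t → g.SameCycle t y := by
      intro t y hy
      obtain ⟨i, -, rfl⟩ := mem_image.mp hy
      exact ⟨i, by simp⟩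
    have hd : ∀ a b, ¬ g.SameCycle a b → Disjoint (O a) (O b) := by
      intro a b hab
      rw [disjoint_left]
      intro y ha hb
      exact hab ((hO _ _ ha).trans (hO _ _ hb).symm)
    have hsub : ∀ t, g t ≠ t → O t ⊆ g.support := by
      intro t ht y hy
      obtain ⟨i, -, rfl⟩ := mem_image.mp hy
      rw [pow_apply_mem_support, mem_support]
      exact ht
    have hz1 := hmv s hgs
    have hz2 := hmv _ hz1
    have h4 : (O s ∪ O (z s)) ∪ O (z (z s)) ⊆ g.support :=
      union_subset (union_subset (hsub _ hgs) (hsub _ hz1)) (hsub _ hz2)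
    have h5 := card_le_card h4
    rw [card_union_of_disjoint (disjoint_union_left.mpr ⟨hd _ _ h3, hd _ _ h2⟩),
      card_union_of_disjoint (hd _ _ h1), card_orb hp hpow hgs, card_orb hp hpow hz1,
      card_orb hp hpow hz2] at h5
    have := hp.pos
    omega
  obtain ⟨i, hi⟩ := hkey
  have h1 : ((g ^ i)⁻¹ * z ^ 2) s = s := by
    rw [Perm.mul_apply, Perm.inv_eq_iff_eq, hi, pow_two, Perm.mul_apply]
  have h2 := pow_apply_eq_self_of_apply_eq_self h1 p
  have h3 : Commute (g ^ i)⁻¹ (z ^ 2) := ((hc.symm.zpow_left i).inv_left).pow_right 2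
  rw [h3.mul_pow, inv_pow, ← zpow_natCast (g ^ i), ← zpow_mul, mul_comm i, zpow_mul,
    zpow_natCast, hpow, one_zpow, inv_one, one_mul, ← pow_mul] at h2
  exact h2

end JordB

open JordB MulAction Equiv.Perm

theorem dvd_card_range {k p : ℕ} (h : SameSS ρ k k) (hk : 2 * k ≤ Fintype.card Ω)
    (hp : p.Prime) (h1 : k < p) (h2 : p ≤ Fintype.card Ω) (h3 : Fintype.card Ω < p + 2 * k) :
    p ∣ Nat.card ρ.range := by
  open Pointwise in
  obtain ⟨S, -, hS⟩ := exists_subset_card_eq (s := (univ : Finset Ω)) (n := k)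
    (by rw [card_univ]; omega)
  obtain ⟨T, hT1, hT⟩ := exists_subset_card_eq (s := Sᶜ) (n := k)
    (by rw [card_compl, hS]; omega)
  have hd : Disjoint S T := by
    rw [disjoint_right]
    intro x hx
    exact mem_compl.mp (hT1 hx)
  have horb : orbit ρ.range (S, T) = orbit (Perm Ω) (S, T) := by
    ext y
    constructor
    · rintro ⟨g, rfl⟩
      exact ⟨g.1, rfl⟩
    · rintro ⟨σ, rfl⟩
      obtain ⟨g, hg1, hg2⟩ := h σ S T hS hT
      exact ⟨⟨ρ g, g, rfl⟩, Prod.ext hg1 hg2⟩
  have hi : (stabilizer ρ.range (S, T)).index = (stabilizer (Perm Ω) (S, T)).index := by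
    rw [index_stabilizer, index_stabilizer, horb]
  have hn : ¬ p ∣ Nat.card (stabilizer (Perm Ω) (S, T)) := by
    intro hd'
    obtain ⟨u, hu, ho⟩ := exists_order hp hd'
    have hpow : u ^ p = 1 := by rw [← ho]; exact pow_orderOf_eq_one u
    rw [mem_stabilizer_iff] at hu
    have hS' : S.image u = S := congrArg Prod.fst hu
    have hT' : T.image u = T := congrArg Prod.snd hu
    have hmem : ∀ U : Finset Ω, U.image u = U → ∀ x, u x ∈ U ↔ x ∈ U := by
      intro U hU x
      constructor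
      · intro hx
        rw [← hU] at hx
        obtain ⟨y, hy, hy'⟩ := mem_image.mp hx
        rwa [← u.injective hy']
      · intro hx
        rw [← hU]
        exact mem_image_of_mem _ hx
    have hu1 : u = 1 := by
      ext x
      by_cases hx : x ∈ S
      · exact fix_of_small hp hpow (fun y hy => (hmem S hS' y).mpr hy) (by omega) hx
      by_cases hx' : x ∈ T
      · exact fix_of_small hp hpow (fun y hy => (hmem T hT' y).mpr hy) (by omega) hx'
      refine fix_of_small hp hpow (U := (S ∪ T)ᶜ) (fun y hy => ?_) ?_ (by simp [hx, hx'])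
      · rw [mem_compl, mem_union, hmem S hS', hmem T hT']
        rwa [mem_compl, mem_union] at hy
      · rw [card_compl, card_union_of_disjoint hd]
        omega
    rw [hu1, orderOf_one] at ho
    exact hp.one_lt.ne ho
  have h4 : p ∣ Nat.card (stabilizer (Perm Ω) (S, T)) * (stabilizer (Perm Ω) (S, T)).index := by
    rw [Subgroup.card_mul_index, Nat.card_perm, Nat.card_eq_fintype_card]
    exact hp.dvd_factorial.mpr h2
  have h5 := (hp.dvd_mul.mp h4).resolve_left hn
  rw [← hi] at h5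
  exact h5.trans (Subgroup.index_dvd_card _)

theorem alt_le_of_dvd (h : Tr ρ 2) {p : ℕ} (hp : p.Prime) (h1 : Fintype.card Ω < 2 * p)
    (h2 : p + 3 ≤ Fintype.card Ω) (h3 : p ∣ Nat.card ρ.range) : alternatingGroup Ω ≤ ρ.range := by
  obtain ⟨u, hu, ho⟩ := exists_order hp h3
  have hc : u.IsCycle := isCycle_of_prime_order' (ho ▸ hp) (ho ▸ h1)
  exact Cfsg.Agent.Snd.jordan_cycle (prim h le_rfl) hp (by rwa [Nat.card_eq_fintype_card]) hc
    (by rw [← hc.orderOf, ho]) hu

theorem alt_le_of_miller (h : Tr ρ 4) {p : ℕ} (hp : p.Prime) (h5 : 5 ≤ p)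
    (hn : Fintype.card Ω = 2 * p + 3) : alternatingGroup Ω ≤ ρ.range := by
  haveI := Fact.mk hp
  have hprim := prim h (by norm_num)
  by_contra hcon
  have hbig : ∀ u ∈ ρ.range, orderOf u = p → 2 * p ≤ #u.support := by
    intro u hu ho
    by_contra hlt
    have hc : u.IsCycle := isCycle_of_prime_order (ho ▸ hp) (by rw [ho]; omega)
    exact hcon (Cfsg.Agent.Snd.jordan_cycle hprim hp
      (by rw [Nat.card_eq_fintype_card]; omega) hc (by rw [← hc.orderOf, ho]) hu)
  have hdvd : p ∣ Nat.card ρ.range := by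
    refine Dvd.dvd.trans ?_ (desc_dvd h (by omega))
    rw [hn, Nat.descFactorial_succ]
    exact Dvd.dvd.mul_right ⟨2, by omega⟩ _
  obtain ⟨g, hg, ho⟩ := exists_order hp hdvd
  have hpow : g ^ p = 1 := by rw [← ho]; exact pow_orderOf_eq_one g
  have hsupp : #g.support = 2 * p := by
    have h1 := hbig g hg ho
    have h2 : #g.support ≤ 2 * p + 3 := hn ▸ g.support.card_le_univ
    obtain ⟨m, hm⟩ := cycleType_prime_order (σ := g) (ho ▸ hp)
    have h3 := g.sum_cycleType
    rw [hm, Multiset.sum_replicate, ho, smul_eq_mul] at h3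
    have h4 : m + 1 = 2 := by
      by_contra h4
      rcases Nat.lt_or_gt_of_ne h4 with h6 | h6 <;> nlinarith
    rw [← h3, h4]
  have hkey : ∀ Q : Subgroup (Perm Ω), IsPGroup p Q → Q ≤ ρ.range → g ∈ Q →
      (∀ u ∈ Q, ∀ f, g f = f → u f = f) → ∀ u ∈ Q, u ∈ Subgroup.zpowers g := by
    intro Q hQ hQH hgQ hfix
    obtain ⟨s, hs⟩ : g.support.Nonempty := by
      rw [← card_pos]; omega
    have hfree : ∀ w ∈ Q, w s = s → w = 1 := by
      intro w hw hws
      by_contra hw1
      have hz : IsPGroup p (Subgroup.zpowers w) := hQ.to_le (Subgroup.zpowers_le.mpr hw)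
      obtain ⟨e, he⟩ := hz.exists_card_eq
      have he0 : e ≠ 0 := by
        rintro rfl
        rw [pow_zero, Nat.card_zpowers] at he
        exact hw1 (orderOf_eq_one_iff.mp he)
      obtain ⟨v, hv, hvo⟩ := exists_order hp (H := Subgroup.zpowers w)
        (by rw [he]; exact dvd_pow_self p he0)
      have hvQ : v ∈ Q := Subgroup.zpowers_le.mpr hw hv
      have hvs : v s = s := by
        obtain ⟨i, rfl⟩ := Subgroup.mem_zpowers_iff.mp hv
        exact zpow_apply_eq_self_of_apply_eq_self hws i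
      have hsub : v.support ⊆ g.support.erase s := by
        intro x hx
        rw [mem_support] at hx
        rw [mem_erase, mem_support]
        exact ⟨fun h => hx (h ▸ hvs), fun h => hx (hfix v hvQ x h)⟩
      have h1 := card_le_card hsub
      rw [card_erase_of_mem hs, hsupp] at h1
      have h2 := hbig v (hQH hvQ) hvo
      omega
    have hcard : Nat.card Q ≤ 2 * p := by
      rw [← hsupp, ← Nat.card_eq_finsetCard]
      refine Nat.card_le_card_of_injective
        (fun w : Q => (⟨w.1 s, ?_⟩ : g.support)) ?_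
      · rw [mem_support]
        intro h
        have h1 := hfix w.1 w.2 _ h
        have h2 : w.1 s = s := w.1.injective h1
        rw [h2] at h
        exact mem_support.mp hs h
      · intro a b hab
        have h1 : a.1 s = b.1 s := congrArg Subtype.val hab
        have h2 := hfree (b.1⁻¹ * a.1) (Q.mul_mem (Q.inv_mem b.2) a.2)
          (by rw [Perm.mul_apply, h1]; simp)
        exact Subtype.ext (inv_mul_eq_one.mp h2).symm
    obtain ⟨e, he⟩ := hQ.exists_card_eq
    have he1 : e ≤ 1 := by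
      by_contra h1
      have h2 : p ^ 2 ≤ p ^ e := Nat.pow_le_pow_right hp.pos (by omega)
      nlinarith
    have heq : Subgroup.zpowers g = Q := by
      refine Subgroup.eq_of_le_of_card_ge (Subgroup.zpowers_le.mpr hgQ) ?_
      rw [he, Nat.card_zpowers, ho]
      calc p ^ e ≤ p ^ 1 := Nat.pow_le_pow_right hp.pos he1
        _ = p := pow_one p
    intro u hu
    rwa [heq]
  have hF : #(g.supportᶜ) = 3 := by rw [card_compl, hsupp, hn]; omega
  obtain ⟨a, b, c, hab, hac, hbc, habc⟩ := card_eq_three.mp hF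
  have hfx : ∀ f, g f = f ↔ f ∈ g.supportᶜ := by
    intro f
    rw [mem_compl, notMem_support]
  have hga : g a = a := (hfx a).mpr (by rw [habc]; simp)
  have hgb : g b = b := (hfx b).mpr (by rw [habc]; simp)
  have hgc' : g c = c := (hfx c).mpr (by rw [habc]; simp)
  have hreal : ∀ σ : Perm Ω, (∀ f, g f = f → g (σ f) = σ f) →
      (∀ f, g f = f → g (σ⁻¹ f) = σ⁻¹ f) →
      ∃ y ∈ ρ.range, (∀ f, g f = f → y f = σ f) ∧ ∃ a : ℤ, y * g * y⁻¹ = g ^ a := by
    intro σ h1 h2
    obtain ⟨x, hx⟩ := h σ (g.supportᶜ) (by omega)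
    have hx' : ∀ f, g f = f → ρ x f = σ f := fun f hf => hx f ((hfx f).mp hf)
    obtain ⟨y, hy, hy1, hy2⟩ := frattini hp hpow hg hkey (x := ρ x) ⟨x, rfl⟩
      (fun f hf => by rw [hx' f hf]; exact h1 f hf)
      (fun f hf => by
        have h3 : (ρ x)⁻¹ f = σ⁻¹ f := by
          rw [Perm.inv_eq_iff_eq, hx' _ (h2 f hf)]
          simp
        rw [h3]; exact h2 f hf)
    exact ⟨y, hy, fun f hf => by rw [hy1 f hf, hx' f hf], hy2⟩
  have hsw : ∀ u v : Ω, g u = u → g v = v → ∀ f, g f = f → g (swap u v f) = swap u v f := by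
    intro u v hu hv f hf
    rw [swap_apply_def]
    split_ifs <;> assumption
  have hsw' : ∀ u v : Ω, g u = u → g v = v → ∀ f, g f ≠ f → swap u v f = f := by
    intro u v hu hv f hf
    apply swap_apply_of_ne_of_ne
    · rintro rfl; exact hf hu
    · rintro rfl; exact hf hv
  obtain ⟨y1, hy1, hy1F, a1, ha1⟩ := hreal (swap a b) (hsw a b hga hgb)
    (by rw [swap_inv]; exact hsw a b hga hgb)
  obtain ⟨y2, hy2, hy2F, a2, ha2⟩ := hreal (swap a c) (hsw a c hga hgc')
    (by rw [swap_inv]; exact hsw a c hga hgc')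
  set τ : Perm Ω := (swap a b * swap a c) * (swap a b * swap a c) with hτ
  have hτ3 : τ.IsThreeCycle := (isThreeCycle_swap_mul_swap_same hab hac hbc).isThreeCycle_sq
  set z : Perm Ω := (y2 * y1)⁻¹ * (y1 * y2) with hz
  have hzG : z ∈ ρ.range :=
    ρ.range.mul_mem (ρ.range.inv_mem (ρ.range.mul_mem hy2 hy1)) (ρ.range.mul_mem hy1 hy2)
  have hτF : ∀ f, g f = f → g (τ f) = τ f := by
    intro f hf
    simp only [hτ, Perm.mul_apply]
    exact hsw a b hga hgb _ (hsw a c hga hgc' _ (hsw a b hga hgb _ (hsw a c hga hgc' _ hf)))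
  have hzF : ∀ f, g f = f → z f = τ f := by
    intro f hf
    rw [hz, Perm.mul_apply, Perm.inv_eq_iff_eq, Perm.mul_apply, Perm.mul_apply,
      hy2F f hf, hy1F _ (hsw a c hga hgc' f hf), hy1F _ (hτF f hf),
      hy2F _ (hsw a b hga hgb _ (hτF f hf))]
    simp [hτ, Perm.mul_apply]
  have hcomm : z * g = g * z := by
    have e1 : (y1 * y2) * g * (y1 * y2)⁻¹ = g ^ (a1 * a2) := by
      calc (y1 * y2) * g * (y1 * y2)⁻¹ = y1 * (y2 * g * y2⁻¹) * y1⁻¹ := by group
        _ = (y1 * g * y1⁻¹) ^ a2 := by rw [ha2, conj_zpow]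
        _ = g ^ (a1 * a2) := by rw [ha1, ← zpow_mul]
    have e2 : (y2 * y1) * g * (y2 * y1)⁻¹ = g ^ (a1 * a2) := by
      calc (y2 * y1) * g * (y2 * y1)⁻¹ = y2 * (y1 * g * y1⁻¹) * y2⁻¹ := by group
        _ = (y2 * g * y2⁻¹) ^ a1 := by rw [ha1, conj_zpow]
        _ = g ^ (a1 * a2) := by rw [ha2, ← zpow_mul, mul_comm]
    have e3 := e1.trans e2.symm
    calc z * g = (y2 * y1)⁻¹ * ((y1 * y2) * g * (y1 * y2)⁻¹) * (y1 * y2) := by rw [hz]; group
      _ = (y2 * y1)⁻¹ * ((y2 * y1) * g * (y2 * y1)⁻¹) * (y1 * y2) := by rw [e3]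
      _ = g * z := by rw [hz]; group
  have hzm : ∀ m : ℕ, ∀ f, g f = f → (z ^ m) f = (τ ^ m) f := by
    intro m
    induction m with
    | zero => intro f _; rfl
    | succ m ih =>
      intro f hf
      rw [pow_succ, pow_succ, Perm.mul_apply (z ^ m), Perm.mul_apply (τ ^ m), hzF f hf,
        ih _ (hτF f hf)]
  have hw : z ^ (2 * p) = τ ^ (2 * p) := by
    ext f
    by_cases hf : g f = f
    · exact hzm _ f hf
    · rw [pow_fix hp hpow hsupp.le hcomm hf]
      refine (pow_apply_eq_self_of_apply_eq_self ?_ _).symm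
      simp only [hτ, Perm.mul_apply]
      rw [hsw' a c hga hgc' _ hf, hsw' a b hga hgb _ hf, hsw' a c hga hgc' _ hf,
        hsw' a b hga hgb _ hf]
  have hcop : (2 * p).Coprime (orderOf τ) := by
    rw [hτ3.orderOf]
    exact Nat.Coprime.mul_left (by norm_num)
      ((Nat.coprime_primes hp Nat.prime_three).mpr (by omega))
  obtain ⟨k, hk⟩ := exists_pow_eq_self_of_coprime hcop
  apply hcon
  apply alternatingGroup_le_of_isPreprimitive_of_isThreeCycle_mem hprim hτ3
  rw [← hk, ← hw]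
  exact ρ.range.pow_mem (ρ.range.pow_mem hzG _) _

theorem alt_le_of_le_seven (h : Tr ρ 4) (hn : Fintype.card Ω ≤ 7) :
    alternatingGroup Ω ≤ ρ.range := by
  rcases Nat.lt_or_ge (Fintype.card Ω) 7 with h6 | h7
  · exact IsMultiplyPretransitive.alternatingGroup_le _ _
      (mpt h (by rw [Nat.card_eq_fintype_card]; omega))
  have hn7 : Fintype.card Ω = 7 := by omega
  have h1 := desc_dvd h (by omega)
  rw [hn7] at h1
  have h2 := ρ.range.card_mul_index
  rw [Nat.card_perm, Nat.card_eq_fintype_card (α := Ω), hn7] at h2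
  have h3 : ρ.range.index ≤ 6 := by
    have h4 : 840 ≤ Nat.card ρ.range := Nat.le_of_dvd Nat.card_pos h1
    have h5 : Nat.factorial 7 = 5040 := rfl
    by_contra h6
    nlinarith
  have h4 : ρ.range.normalCore.index ∣ ρ.range.index.factorial := by
    rw [Subgroup.normalCore_eq_ker, Subgroup.index_ker, Subgroup.index_eq_card, ← Nat.card_perm]
    exact Subgroup.card_subgroup_dvd_card _
  have h5 : Nontrivial ρ.range.normalCore := by
    rw [Subgroup.nontrivial_iff_ne_bot]
    intro h0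
    rw [h0, Subgroup.index_bot, Nat.card_perm, Nat.card_eq_fintype_card, hn7] at h4
    have h6 := h4.trans (Nat.factorial_dvd_factorial h3)
    revert h6
    decide
  exact (alternatingGroup_le_of_normal (by rw [Nat.card_eq_fintype_card]; omega) h5).trans
    ρ.range.normalCore_le

end Cfsg.Snd
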