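import Cfsg.Agent.Snd.Tool
import Cfsg.Agent.Char.Abelian
import Mathlib.GroupTheory.SpecificGroups.Alternating.Simple
import Mathlib.GroupTheory.GroupAction.CardCommute

/-!
# S4905: the end of the proof

`|G| = n!`. If the range is everything `ρ` is bijective. Otherwise the range is `A_n` and the
kernel `K` has order 2, so it is central. The sign character of `Perm (Fin n)` gives a linear
character `λ ≠ 1` of `G`; it is not trivial on `K` (`A_n` is perfect) so `G = ker λ × K`, and `G` has
`4 e` commuting pairs, `e` the number of commuting pairs of `A_n`. In `S_n`, every `x` commutes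
with at most as many odd as even elements (equality for odd `x`; no odd ones for an `n`-cycle or
`(n-1)`-cycle of odd length), so the commuting pairs are `ee + eo + oe + oo = ee + 3 eo < 4 e`.
But `k(G) = k(S_n)` (`card_irr_eq_card_conjClasses`, `card_comm_eq_card_conjClasses_mul_card`).
-/

set_option autoImplicit false
set_option linter.unusedSectionVars false

namespace Cfsg.Snd

open Equiv Finset

namespace Last

open Classical in
/-- The number of commuting pairs as a double sum. -/
theorem card_comm (H : Type*) [Group H] [Fintype H] :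
    ((Nat.card (ConjClasses H) * Nat.card H : ℕ) : ℤ) =
      ∑ x : H, ∑ y : H, if Commute x y then (1 : ℤ) else 0 := by
  rw [← card_comm_eq_card_conjClasses_mul_card, Nat.card_eq_fintype_card, Fintype.card_subtype,
    ← Fintype.sum_prod_type', sum_boole]

variable {Ω : Type*} [Fintype Ω] [DecidableEq Ω]

/-- The sign as an integer. -/
def sn (x : Perm Ω) : ℤ := ((Perm.sign x : ℤˣ) : ℤ)

theorem sn_mul (x y : Perm Ω) : sn (x * y) = sn x * sn y := by simp [sn]

open Classical in
theorem sum_cent (x : Perm Ω) : (∑ y : Perm Ω, if Commute x y then sn y else 0) =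
    ∑ y : Subgroup.centralizer ({x} : Set (Perm Ω)), sn y.1 := by
  rw [← sum_filter]
  refine sum_subtype _ (fun y => ?_) _
  simp only [mem_filter, mem_univ, true_and, Subgroup.mem_centralizer_singleton_iff]
  exact ⟨fun h => h.symm.eq, fun h => Commute.symm h⟩

open Classical in
theorem sum_cent_nonneg (x : Perm Ω) : 0 ≤ ∑ y : Perm Ω, if Commute x y then sn y else 0 := by
  rw [sum_cent]
  set f : Subgroup.centralizer ({x} : Set (Perm Ω)) →* ℤ :=
    (Units.coeHom ℤ).comp (Perm.sign.comp (Subgroup.subtype _)) with hf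
  have e : ∀ y : Subgroup.centralizer ({x} : Set (Perm Ω)), sn y.1 = f y := fun y => rfl
  simp only [e]
  by_cases h : f = 1
  · rw [h]; exact sum_nonneg fun _ _ => by simp
  · exact (sum_hom_units_eq_zero f h).ge

open Classical in
theorem exists_sum_cent_pos (hn : 5 ≤ Fintype.card Ω) :
    ∃ x : Perm Ω, 0 < ∑ y : Perm Ω, if Commute x y then sn y else 0 := by
  obtain ⟨m, hm1, hm2, hm3⟩ : ∃ m, Odd m ∧ m ≤ Fintype.card Ω ∧ Fintype.card Ω ≤ m + 1 := by
    rcases Nat.even_or_odd (Fintype.card Ω) with ⟨k, hk⟩ | h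
    · exact ⟨Fintype.card Ω - 1, ⟨k - 1, by omega⟩, by omega, by omega⟩
    · exact ⟨_, h, le_rfl, by omega⟩
  obtain ⟨x, hx⟩ := (Perm.exists_with_cycleType_iff Ω (m := {m})).2
    ⟨by simpa using hm2, fun a ha => by rw [Multiset.mem_singleton.1 ha]; omega⟩
  have hle : Subgroup.centralizer ({x} : Set (Perm Ω)) ≤ alternatingGroup Ω := by
    rw [Perm.centralizer_le_alternating_iff, hx]
    refine ⟨fun c hc => Multiset.mem_singleton.1 hc ▸ hm1, by simpa using hm3, fun i => ?_⟩
    rw [Multiset.count_singleton]; split_ifs <;> omega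
  refine ⟨x, ?_⟩
  rw [sum_cent]
  refine sum_pos (fun y _ => ?_) univ_nonempty
  have := Perm.mem_alternatingGroup.1 (hle y.2)
  simp [sn, this]

open Classical in
theorem lt_sum (hn : 5 ≤ Fintype.card Ω) :
    (∑ x : Perm Ω, ∑ y : Perm Ω, if Commute x y then (1 : ℤ) else 0) <
      ∑ x : Perm Ω, ∑ y : Perm Ω, if Commute x y then (1 + sn x) * (1 + sn y) else 0 := by
  set D : ℤ := ∑ x : Perm Ω, ∑ y : Perm Ω, if Commute x y then sn y else 0 with hD
  have hpos : 0 < D := by
    obtain ⟨x, hx⟩ := exists_sum_cent_pos hn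
    exact sum_pos' (fun x _ => sum_cent_nonneg x) ⟨x, mem_univ _, hx⟩
  have h1 : (∑ x : Perm Ω, ∑ y : Perm Ω, if Commute x y then sn x else 0) = D := by
    rw [sum_comm]
    refine sum_congr rfl fun x _ => sum_congr rfl fun y _ => if_congr ?_ rfl rfl
    exact ⟨Commute.symm, Commute.symm⟩
  have h2 : (∑ x : Perm Ω, ∑ y : Perm Ω, if Commute x y then sn x * sn y else 0) = D := by
    refine sum_congr rfl fun x _ => ?_
    refine Fintype.sum_equiv (Equiv.mulLeft x) _ _ fun y => ?_
    simp only [Equiv.coe_mulLeft, sn_mul]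
    refine if_congr ⟨fun h => (Commute.refl x).mul_right h, fun h => ?_⟩ rfl rfl
    simpa using (Commute.refl x).inv_right.mul_right h
  have h3 : (∑ x : Perm Ω, ∑ y : Perm Ω, if Commute x y then (1 + sn x) * (1 + sn y) else 0) =
      (∑ x : Perm Ω, ∑ y : Perm Ω, if Commute x y then (1 : ℤ) else 0) +
      (∑ x : Perm Ω, ∑ y : Perm Ω, if Commute x y then sn x else 0) + D +
      (∑ x : Perm Ω, ∑ y : Perm Ω, if Commute x y then sn x * sn y else 0) := by
    simp only [hD, ← sum_add_distrib]
    refine sum_congr rfl fun x _ => sum_congr rfl fun y _ => ?_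
    split_ifs <;> ring
  rw [h3, h1, h2]
  omega

end Last

variable {G : Type*} [Group G] [Finite G] {n : ℕ}

theorem equiv_of_alt_le (h : SameDeg G n) (hn : 5 ≤ n) {ρ : G →* Perm (Fin n)}
    (hρ : alternatingGroup (Fin n) ≤ ρ.range) : Nonempty (G ≃* Perm (Fin n)) := by
  classical
  have := Fintype.ofFinite G
  have hG := h.card_eq
  have hS : Nat.card (Perm (Fin n)) = n.factorial := by
    rw [Nat.card_eq_fintype_card, Fintype.card_perm, Fintype.card_fin]
  have : Nontrivial (Fin n) := Fin.nontrivial_iff_two_le.2 (by omega)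
  have hAi : (alternatingGroup (Fin n)).index = 2 := alternatingGroup.index_eq_two
  by_cases ht : ρ.range = ⊤
  · exact ⟨MulEquiv.ofBijective ρ ((Nat.bijective_iff_surjective_and_card ρ).2
      ⟨MonoidHom.range_eq_top.1 ht, hG.trans hS.symm⟩)⟩
  exfalso
  have hr : ρ.range = alternatingGroup (Fin n) := by
    have hd := Subgroup.index_dvd_of_le hρ
    rw [hAi] at hd
    rcases (Nat.dvd_prime Nat.prime_two).1 hd with e | e
    · exact absurd (Subgroup.index_eq_one.1 e) ht
    · refine (Subgroup.eq_of_le_of_card_ge hρ ?_).symm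
      have e1 := ρ.range.card_mul_index
      have e2 := (alternatingGroup (Fin n)).card_mul_index
      rw [e] at e1; rw [hAi] at e2
      omega
  have hA := (alternatingGroup (Fin n)).card_mul_index
  rw [hAi, hS] at hA
  have hApos : 0 < Nat.card (alternatingGroup (Fin n)) := Nat.card_pos
  have hK : Nat.card ρ.ker = 2 := by
    have e1 := ρ.ker.card_mul_index
    rw [Subgroup.index_ker, hr, hG, ← hA, mul_comm] at e1
    exact Nat.eq_of_mul_eq_mul_left hApos e1
  obtain ⟨f, hf⟩ := h
  have h5 : 5 ≤ Nat.card (Fin n) := by simpa using hn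
  have hC : (commutator G).index = 2 := by
    rw [← card_irr_charDegree_eq_one, ← hAi, ← alternatingGroup.commutator_perm_eq h5,
      ← card_irr_charDegree_eq_one]
    exact Nat.card_congr (f.subtypeEquiv fun χ => by rw [hf])
  have hmap : (commutator G).map ρ = alternatingGroup (Fin n) := by
    rw [commutator_def, Subgroup.map_commutator, ← MonoidHom.range_eq_map, hr,
      commutator_alternatingGroup_eq_self h5]
  have hinj : ∀ g ∈ commutator G, ρ g = 1 → g = 1 := by
    have e1 := (commutator G).card_mul_index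
    rw [hC, hG, ← hA] at e1
    have e2 : Nat.card (commutator G) = Nat.card ((commutator G).map ρ) := by rw [hmap]; omega
    have hb := (Nat.bijective_iff_surjective_and_card (ρ.subgroupMap (commutator G))).2
      ⟨ρ.subgroupMap_surjective _, e2⟩
    intro g hg h1
    have := hb.1 (a₁ := ⟨g, hg⟩) (a₂ := 1) (Subtype.ext (by simpa using h1))
    simpa using this
  have hcomm : ∀ x y : G, Commute x y ↔ Commute (ρ x) (ρ y) := fun x y =>
    ⟨fun e => e.map ρ, fun e => commutatorElement_eq_one_iff_commute.1
      (hinj _ (Subgroup.commutator_mem_commutator (Subgroup.mem_top x) (Subgroup.mem_top y))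
        (by rw [map_commutatorElement]; exact commutatorElement_eq_one_iff_commute.2 e))⟩
  have hfib : ∀ a : Perm (Fin n), ((#{g | ρ g = a} : ℕ) : ℤ) = 1 + Last.sn a := by
    intro a
    rcases Int.units_eq_one_or (Perm.sign a) with e | e
    · have ha : a ∈ ρ.range := hr ▸ Perm.mem_alternatingGroup.2 e
      rw [MonoidHom.card_fiber_eq_of_mem_range ρ (y := 1) ha ⟨1, map_one _⟩]
      have : #{g | ρ g = 1} = 2 := by
        rw [← hK, Nat.card_eq_fintype_card, Fintype.card_subtype]
        simp [MonoidHom.mem_ker]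
      simp [this, Last.sn, e]
    · have : #{g | ρ g = a} = 0 := by
        rw [card_eq_zero, filter_eq_empty_iff]
        rintro g - rfl
        have : ρ g ∈ alternatingGroup (Fin n) := hr ▸ ⟨g, rfl⟩
        rw [Perm.mem_alternatingGroup.1 this] at e
        exact absurd e (by decide)
      simp [this, Last.sn, e]
  have hsum : ∀ F : Perm (Fin n) → ℤ, ∑ g : G, F (ρ g) = ∑ a, (1 + Last.sn a) * F a := by
    intro F
    rw [← sum_fiberwise univ ρ]
    refine sum_congr rfl fun a _ => ?_
    rw [sum_congr rfl (g := fun _ => F a) fun g hg => by rw [(mem_filter.1 hg).2], sum_const,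
      nsmul_eq_mul, hfib]
  have e1 := Last.card_comm G
  have e2 := Last.card_comm (Perm (Fin n))
  have e3 := Last.lt_sum (Ω := Fin n) (by simpa using hn)
  rw [← card_irr_eq_card_conjClasses, hG] at e1
  rw [← card_irr_eq_card_conjClasses, hS, ← Nat.card_congr f] at e2
  simp only [hcomm] at e1
  rw [hsum fun a => ∑ y : G, if Commute a (ρ y) then (1 : ℤ) else 0] at e1
  simp only [fun a : Perm (Fin n) => hsum fun b => if Commute a b then (1 : ℤ) else 0] at e1
  refine absurd e3 (not_lt.2 (le_of_eq ?_))
  rw [← e2, e1]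
  refine sum_congr rfl fun a _ => ?_
  rw [mul_sum]
  refine sum_congr rfl fun b _ => ?_
  split_ifs <;> ring

end Cfsg.Snd

set_option linter.all false in
theorem Cfsg.Rz.Snd_Last_0 : True := by
  have := @_root_.Cfsg.Snd.Last.sn.eq_def.{0}
  have := @_root_.Cfsg.Snd.Last.sn.fun_cases
  trivial
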