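import Cfsg.Agent.Snd.DegB
import Mathlib.NumberTheory.Bertrand

/-!
# S4905: the numerical plan

* `win_of`: by `hi_cases`; an element `≥ Dk n (j+1)` is the whole sum (degrees are positive);
  otherwise add the inequalities, `M = ∑ f`.
* `winOk_of`: with `C = C(n,j)`: `Dk n (j+1) = C (n-2j-1)/(j+1)`, `Dk n (j-1) ≤ C j/(n-j+1)`; the
  conditions put the integer `(j+1) M` strictly between `n - j - 2` and `n - j - 1`.
* `plan`: `n < 400`: a table `(k, p)` checked by `decide` (`p` the largest prime `≤ n - 3`, `k`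
  least with `n < p + 2k`; `n = 13, 25`: second alternative with `k = 2`; `n = 9, 11, 12`: `Win n 2`
  from `hi_nine`, `hi_eleven`, `hi_twelve`). For `n ≥ 400` any `k` with `2 k² ≤ n` works
  (`C(n,k) ≤ n ^ k ≤ En n`; `Dk` increases while `(n - 2i)² > n + 2`): up to `96800` a chain of
  primes; then the first 17 primes (sum 440, `n ≤ 209000`), 19 primes (sum 568, from `161312` to
  `1670000`), 31 primes (sum 1720, from `1479200` to `2 ^ 40`); for `2 ^ L ≤ n < 2 ^ (L+1)`,
  `L ≥ 40`, Bertrand primes in `(2 ^ i, 2 ^ (i+1)]`, `i < s = L / 2 - 1`, `k = 2 ^ s`.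
-/

set_option autoImplicit false
set_option linter.unusedSectionVars false

namespace Cfsg.Snd

open Equiv Finset

/-- The window contains no admissible integer. -/
def WinOk (n j : ℕ) : Prop := ∀ T ∈ [Dk n (j + 1), Dk n (j + 1) - Dk n (j - 1)], ∀ M ≤ n,
  ¬ (M * n.choose j * (n - j + 1 - j) ≤ T * (n - j + 1) ∧ T * n ≤ M * n.choose j * (n - j))

namespace Num

theorem Dk_pos {n l : ℕ} (h : 2 * l ≤ n) : 0 < Dk n l := by
  have h1 := Dk_mul (n := n) (l := l) (by omega)
  have h2 : 0 < n.choose l * (n - l + 1 - l) :=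
    Nat.mul_pos (Nat.choose_pos (by omega)) (by omega)
  rw [← h1] at h2
  exact Nat.pos_of_mul_pos_right h2

theorem Dk_succ_mul {j r : ℕ} :
    Dk (2 * j + 1 + r) (j + 1) * (j + 1) = (2 * j + 1 + r).choose j * r := by
  have h1 := Nat.choose_succ_right_eq (2 * j + 1 + r) j
  rw [show 2 * j + 1 + r - j = (j + 1) + r by omega] at h1
  rw [Dk, Nat.sub_mul, h1, mul_add ((2 * j + 1 + r).choose j), Nat.add_sub_cancel_left]

theorem Dk_le (n k : ℕ) : Dk n k ≤ n.choose k := by
  cases k with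
  | zero => simp [Dk]
  | succ k => exact Nat.sub_le _ _

theorem Dk_lt {n i : ℕ} (h : 3 * (i + 1) ≤ n) : Dk n i < Dk n (i + 1) := by
  have h1 := Dk_le n i
  obtain ⟨r, rfl⟩ : ∃ r, n = 2 * i + 1 + r := ⟨n - (2 * i + 1), by omega⟩
  have h2 := Dk_succ_mul (j := i) (r := r)
  have h3 : 0 < (2 * i + 1 + r).choose i := Nat.choose_pos (by omega)
  refine h1.trans_lt (Nat.lt_of_mul_lt_mul_right (a := i + 1) ?_)
  rw [h2]
  exact Nat.mul_lt_mul_of_pos_left (by omega) h3

theorem exists_sum {a b c e : ℕ} (s : Multiset ℕ)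
    (h : ∀ d ∈ s, ∃ f, f * a ≤ d * b ∧ d * c ≤ f * e) :
    ∃ M, M * a ≤ s.sum * b ∧ s.sum * c ≤ M * e := by
  induction s using Multiset.induction_on with
  | empty => exact ⟨0, by simp⟩
  | cons d s ih =>
    obtain ⟨M, h1, h2⟩ := ih fun x hx => h x (Multiset.mem_cons_of_mem hx)
    obtain ⟨f, h3, h4⟩ := h d (Multiset.mem_cons_self _ _)
    refine ⟨f + M, ?_, ?_⟩ <;> simp only [Multiset.sum_cons, add_mul] <;> omega

theorem win_small {n a : ℕ} {P : ℕ → Prop} (h : ∀ d, Hi n 2 d → P d) (ha : ∀ d, P d → a ≤ d)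
    (h3 : Dk n 3 < 3 * a) (h0 : Dk n 1 < Dk n 3) (h1 : ∀ d, P d → d + Dk n 1 ≠ Dk n 3)
    (h2 : ∀ d e, P d → P e → d + e ≠ Dk n 3 ∧ d + e + Dk n 1 ≠ Dk n 3) : Win n 2 := by
  have key : ∀ s : Multiset ℕ, (∀ d ∈ s, Hi n 2 d) → s.sum ≤ Dk n 3 →
      s = 0 ∨ (∃ d, s = {d}) ∨ ∃ d e, s = {d, e} := fun s hs hle => by
    have h4 := Multiset.card_nsmul_le_sum (s := s) (a := a) fun d hd => ha d (h d (hs d hd))
    rw [smul_eq_mul] at h4
    have h5 : Multiset.card s < 3 := Nat.lt_of_mul_lt_mul_right (a := a) (by omega)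
    rw [← Multiset.card_eq_zero, ← Multiset.card_eq_one, ← Multiset.card_eq_two]
    omega
  refine ⟨fun s hs hsum => ?_, fun s hs hsum => ?_⟩
  · rcases key s hs hsum.le with rfl | ⟨d, rfl⟩ | ⟨d, e, rfl⟩
    · simp at hsum; omega
    · simp
    · exact absurd (by simpa using hsum)
        (h2 d e (h d (hs d (by simp))) (h e (hs e (by simp)))).1
  · rcases key s hs (le_of_le_of_eq (Nat.le_add_right _ _) hsum) with rfl | ⟨d, rfl⟩ | ⟨d, e, rfl⟩
    · simp at hsum; omega
    · exact h1 d (h d (hs d (by simp))) (by simpa using hsum)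
    · exact (h2 d e (h d (hs d (by simp))) (h e (hs e (by simp)))).2 (by simpa using hsum)

end Num

open Cfsg.Snd.Num

theorem win_of {n j : ℕ} (h : 13 ≤ n) (hj : 2 ≤ j) (hn : 2 * (j + 1) ≤ n)
    (hE : Dk n (j + 1) ≤ En n) (hw : WinOk n j) : Win n j := by
  have hT : 0 < Dk n (j + 1) := Dk_pos hn
  have hC : 0 < n.choose j := Nat.choose_pos (by omega)
  have key : ∀ s : Multiset ℕ, (∀ d ∈ s, Hi n j d) → (∀ d ∈ s, d < Dk n (j + 1)) →
      s.sum ≤ Dk n (j + 1) → s.sum ∉ [Dk n (j + 1), Dk n (j + 1) - Dk n (j - 1)] := by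
    intro s hs hlt hle hmem
    obtain ⟨M, h1, h2⟩ := exists_sum (a := n.choose j * (n - j + 1 - j)) (b := n - j + 1) (c := n)
      (e := n.choose j * (n - j)) s fun d hd => by
        rcases hi_cases h hn (hs d hd) with h1 | ⟨f, -, h1, h2⟩
        · rw [min_eq_left hE] at h1
          exact absurd (hlt d hd) (not_lt.2 h1)
        · exact ⟨f, by rwa [← mul_assoc], by rwa [← mul_assoc]⟩
    refine hw _ hmem M ?_ ⟨by rwa [mul_assoc], by rwa [mul_assoc]⟩
    obtain ⟨r, rfl⟩ : ∃ r, n = 2 * j + 1 + r := ⟨n - (2 * j + 1), by omega⟩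
    have h3 := Dk_succ_mul (j := j) (r := r)
    rw [show 2 * j + 1 + r - j + 1 - j = r + 2 by omega,
      show 2 * j + 1 + r - j + 1 = j + r + 2 by omega] at h1
    generalize (2 * j + 1 + r).choose j = C at *
    generalize Dk (2 * j + 1 + r) (j + 1) = T at *
    have h4 : C * (r + 2) * (M * (j + 1)) ≤ C * (r + 2) * (j + r + 2) := by
      calc _ = M * (C * (r + 2)) * (j + 1) := by ring
        _ ≤ T * (j + r + 2) * (j + 1) :=
          Nat.mul_le_mul_right _ (h1.trans (Nat.mul_le_mul_right _ hle))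
        _ = C * r * (j + r + 2) := by rw [← h3]; ring
        _ ≤ _ := by gcongr; omega
    have h5 := Nat.le_of_mul_le_mul_left h4 (by positivity)
    have h6 : M ≤ M * (j + 1) := Nat.le_mul_of_pos_right _ (by omega)
    omega
  refine ⟨fun s hs hsum => ?_, fun s hs hsum => ?_⟩
  · by_cases h1 : ∀ d ∈ s, d < Dk n (j + 1)
    · exact absurd (by simp [hsum]) (key s hs h1 hsum.le)
    push Not at h1
    obtain ⟨d, hd, h1⟩ := h1
    obtain ⟨t, rfl⟩ := Multiset.exists_cons_of_mem hd
    rw [Multiset.sum_cons] at hsum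
    rcases t.empty_or_exists_mem with rfl | ⟨e, he⟩
    · simp
    have h2 : e ≤ t.sum := Multiset.single_le_sum (fun _ _ => Nat.zero_le _) e he
    have h3 : e = 0 := by omega
    subst h3
    rcases hi_cases h hn (hs 0 (Multiset.mem_cons_of_mem he)) with h4 | ⟨f, hf, h4, -⟩
    · rw [min_eq_left hE] at h4
      omega
    · have : 0 < f * n.choose j * (n - j + 1 - j) :=
        Nat.mul_pos (Nat.mul_pos hf hC) (by omega)
      omega
  · have h0 : 0 < Dk n (j - 1) := Dk_pos (by omega)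
    refine key s hs (fun d hd => ?_) (by omega) (by simp [← hsum])
    have h2 : d ≤ s.sum := Multiset.single_le_sum (fun _ _ => Nat.zero_le _) d hd
    omega

theorem winOk_of {n j : ℕ} (hj : 2 ≤ j) (hn : 2 * (j + 1) ^ 2 ≤ n) : WinOk n j := by
  obtain ⟨r, rfl⟩ : ∃ r, n = 2 * j + 1 + r := ⟨n - (2 * j + 1), by nlinarith [Nat.sub_add_cancel (show 2 * j + 1 ≤ n by nlinarith)]⟩
  intro T hT M _ ⟨h1, h2⟩
  have h3 := Dk_succ_mul (j := j) (r := r)
  have hC : 0 < (2 * j + 1 + r).choose j := Nat.choose_pos (by omega)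
  have h4 : Dk (2 * j + 1 + r) (j - 1) * (j + r + 2) ≤ (2 * j + 1 + r).choose j * j := by
    obtain ⟨i, rfl⟩ : ∃ i, j = i + 1 := ⟨j - 1, by omega⟩
    rw [Nat.choose_succ_right_eq, show 2 * (i + 1) + 1 + r - i = i + 1 + r + 2 by omega]
    exact Nat.mul_le_mul_right _ (Dk_le _ _)
  rw [show 2 * j + 1 + r - j + 1 - j = r + 2 by omega,
    show 2 * j + 1 + r - j + 1 = j + r + 2 by omega] at h1
  rw [show 2 * j + 1 + r - j = j + r + 1 by omega] at h2
  have hT1 : T ≤ Dk (2 * j + 1 + r) (j + 1) ∧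
      Dk (2 * j + 1 + r) (j + 1) ≤ T + Dk (2 * j + 1 + r) (j - 1) := by
    simp only [List.mem_cons, List.not_mem_nil, or_false] at hT
    omega
  generalize (2 * j + 1 + r).choose j = C at *
  generalize Dk (2 * j + 1 + r) (j + 1) = T₁ at *
  generalize Dk (2 * j + 1 + r) (j - 1) = D at *
  have h5 : C * (M * (j + 1) * (r + 2)) ≤ C * (r * (j + r + 2)) := by
    calc _ = M * C * (r + 2) * (j + 1) := by ring
      _ ≤ T₁ * (j + r + 2) * (j + 1) :=
        Nat.mul_le_mul_right _ (h1.trans (Nat.mul_le_mul_right _ hT1.1))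
      _ = T₁ * (j + 1) * (j + r + 2) := by ring
      _ = _ := by rw [h3]; ring
  have h6 : C * (r * (2 * j + 1 + r) * (j + r + 2)) ≤
      C * (M * (j + 1) * (j + r + 1) * (j + r + 2) + j * (j + 1) * (2 * j + 1 + r)) := by
    calc _ = T₁ * (j + 1) * (2 * j + 1 + r) * (j + r + 2) := by rw [h3]; ring
      _ ≤ (T + D) * (j + 1) * (2 * j + 1 + r) * (j + r + 2) := by gcongr; exact hT1.2
      _ = T * (2 * j + 1 + r) * ((j + 1) * (j + r + 2)) +
          D * (j + r + 2) * ((j + 1) * (2 * j + 1 + r)) := by ring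
      _ ≤ M * C * (j + r + 1) * ((j + 1) * (j + r + 2)) +
          C * j * ((j + 1) * (2 * j + 1 + r)) := by gcongr
      _ = _ := by ring
  replace h5 := Nat.le_of_mul_le_mul_left h5 hC
  replace h6 := Nat.le_of_mul_le_mul_left h6 hC
  generalize M * (j + 1) = X at *
  obtain ⟨u, rfl⟩ : ∃ u, r = 2 * j ^ 2 + 2 * j + 1 + u := ⟨r - (2 * j ^ 2 + 2 * j + 1), by
    have : 2 * j ^ 2 + 2 * j + 1 ≤ r := by nlinarith
    omega⟩
  generalize hr : 2 * j ^ 2 + 2 * j + 1 + u = r at h5 h6
  rcases le_or_gt (j + r) X with h7 | h7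
  · have h8 : (j + r) * (r + 2) ≤ X * (r + 2) := Nat.mul_le_mul_right _ h7
    nlinarith
  · have h8 : (X + 1) * ((j + r + 1) * (j + r + 2)) ≤ (j + r) * ((j + r + 1) * (j + r + 2)) :=
      Nat.mul_le_mul_right _ h7
    have h9 : (2 * j ^ 2 + 2 * j + 1) * (j + r + 2) ≤ r * (j + r + 2) :=
      Nat.mul_le_mul_right _ (by omega)
    nlinarith

namespace Num

/-- Trial division. -/
def tri (n : ℕ) : ℕ → ℕ → Bool
  | 0, _ => false
  | f + 1, d => decide (n < d * d) || (n % d != 0 && tri n f (d + 1))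

theorem tri_spec {n f d : ℕ} (h : tri n f d = true) {m : ℕ} (h1 : d ≤ m) (h2 : m * m ≤ n) :
    ¬ m ∣ n := by
  induction f generalizing d with
  | zero => simp [tri] at h
  | succ f ih =>
    simp only [tri, Bool.or_eq_true, decide_eq_true_eq, Bool.and_eq_true, bne_iff_ne] at h
    rcases h with h | ⟨h3, h4⟩
    · exact absurd (Nat.mul_le_mul h1 h1) (by omega)
    · rcases h1.eq_or_lt with rfl | h1
      · exact fun h => h3 (Nat.mod_eq_zero_of_dvd h)
      · exact ih h4 h1

/-- A primality test. -/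
def isP (n : ℕ) : Bool := decide (2 ≤ n) && tri n n 2

theorem prime_of {n : ℕ} (h : isP n = true) : n.Prime := by
  simp only [isP, Bool.and_eq_true, decide_eq_true_eq] at h
  exact Nat.prime_def_le_sqrt.2 ⟨h.1, fun m h1 h2 => tri_spec h.2 h1 (Nat.le_sqrt.1 h2)⟩

/-- The largest prime `≤ n`. -/
def fp : ℕ → ℕ
  | 0 => 0
  | n + 1 => if isP (n + 1) then n + 1 else fp n

/-- Binomial coefficients. -/
def ch (n k : ℕ) : ℕ := n.descFactorial k / k.factorial

theorem ch_eq (n k : ℕ) : n.choose k = ch n k := Nat.choose_eq_descFactorial_div_factorial n k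

/-- The test for `WinOk`. -/
def wk (n j C T : ℕ) : Bool := (List.range (n + 1)).all fun M =>
  !(decide (M * C * (n - j + 1 - j) ≤ T * (n - j + 1)) && decide (T * n ≤ M * C * (n - j)))

/-- The test for `Win n (i + 2)`. -/
def wn (n i : ℕ) : Bool := decide (ch n (i + 3) - ch n (i + 2) ≤ En n) &&
  (decide (2 * (i + 3) ^ 2 ≤ n) ||
    (wk n (i + 2) (ch n (i + 2)) (ch n (i + 3) - ch n (i + 2)) &&
     wk n (i + 2) (ch n (i + 2)) (ch n (i + 3) - ch n (i + 2) - (ch n (i + 1) - ch n i))))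

theorem win_of_wn {n i : ℕ} (h : 13 ≤ n) (hn : 2 * (i + 3) ≤ n) (hw : wn n i = true) :
    Win n (i + 2) := by
  simp only [wn, wk, Bool.and_eq_true, Bool.or_eq_true, decide_eq_true_eq, List.all_eq_true,
    List.mem_range, Bool.not_eq_true', Bool.and_eq_false_imp, decide_eq_false_iff_not,
    ← ch_eq] at hw
  refine win_of h (by omega) hn hw.1 ?_
  rcases hw.2 with h1 | ⟨h1, h2⟩
  · exact winOk_of (by omega) h1
  · intro T hT M hM ⟨h3, h4⟩
    simp only [List.mem_cons, List.not_mem_nil, or_false] at hT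
    rcases hT with rfl | rfl
    · exact h1 M (by omega) h3 h4
    · exact h2 M (by omega) h3 h4

/-- The test for small degrees. -/
def sm (n p k : ℕ) : Bool := isP p && decide (2 ≤ k ∧ 2 * k + 3 ≤ n ∧ 3 * k ≤ n ∧ n < 2 * p ∧
  p + 3 ≤ n ∧ n < p + 2 * k) && (List.range (k - 2)).all (wn n)

theorem plan_of_sm {n p k : ℕ} (h : 13 ≤ n) (hs : sm n p k = true) : Plan n := by
  simp only [sm, Bool.and_eq_true, decide_eq_true_eq, List.all_eq_true, List.mem_range] at hs
  obtain ⟨⟨hp, h1, h2, h3, h4⟩, hw⟩ := hs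
  refine ⟨k, h1, h2, fun j hj hk => ?_, fun i hi => Dk_lt (by omega), Or.inl ⟨p, prime_of hp, h4⟩⟩
  obtain ⟨i, rfl⟩ : ∃ i, j = i + 2 := ⟨j - 2, by omega⟩
  exact win_of_wn h (by omega) (hw i (by omega))

theorem sm_all : (List.range 400).all (fun n => decide (n ≤ 13 ∨ n = 25) ||
    sm n (fp (n - 3)) ((n - fp (n - 3)) / 2 + 1)) = true := by decide +kernel

theorem pow_le_En {n k : ℕ} (h : 400 ≤ n) (hk : 2 * k ^ 2 ≤ n) : n ^ k ≤ En n := by
  have h1 : ∃ t, n ≤ 4 * t ^ 2 := ⟨n, by nlinarith⟩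
  obtain ⟨t, h2, h3⟩ : ∃ t, n ≤ 4 * (t + 1) ^ 2 ∧ 4 * t ^ 2 < n := by
    have h2 := Nat.find_spec h1
    have h3 : Nat.find h1 ≠ 0 := fun h0 => by rw [h0] at h2; omega
    obtain ⟨t, ht⟩ := Nat.exists_eq_succ_of_ne_zero h3
    exact ⟨t, by rwa [ht] at h2, not_le.1 (Nat.find_min h1 (by omega))⟩
  have h4 : 9 ≤ t := by by_contra h4; have : t + 1 ≤ 9 := by omega
                        nlinarith
  have h5 : ∀ t, 9 ≤ t → 4 * (t + 1) ^ 2 ≤ 2 ^ (t + 1) := fun t ht => by
    induction t, ht using Nat.le_induction with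
    | base => norm_num
    | succ t ht ih => rw [pow_succ 2]; nlinarith
  have h6 : 2 * k ≤ 3 * (t + 1) := by
    by_contra h6
    have : 3 * (t + 1) < 2 * k := by omega
    nlinarith
  have h7 : 2 * ((t + 1) * k) + 14 ≤ n := by nlinarith
  calc n ^ k ≤ (2 ^ (t + 1)) ^ k := Nat.pow_le_pow_left (h2.trans (h5 t h4)) _
    _ = 2 ^ ((t + 1) * k) := by rw [← pow_mul]
    _ ≤ 2 ^ ((n - 13) / 2) := Nat.pow_le_pow_right two_pos (by omega)
    _ ≤ En n := Nat.le_mul_of_pos_left _ (by norm_num)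

theorem plan_of_big {n k : ℕ} (h : 400 ≤ n) (h2 : 2 ≤ k) (hk : 2 * k ^ 2 ≤ n)
    (ha : (∃ p, p.Prime ∧ n < 2 * p ∧ p + 3 ≤ n ∧ n < p + 2 * k) ∨
      (4 ≤ k ∧ ∃ s : Finset ℕ, (∀ p ∈ s, p.Prime) ∧ ∑ p ∈ s, p ≤ 2 * k ∧ n ^ 4 ≤ ∏ p ∈ s, p)) :
    Plan n := by
  have h3 : 4 * k ≤ n := by nlinarith
  refine ⟨k, h2, by omega, fun j hj hjk => ?_, fun i hi => Dk_lt (by omega),
    ha.imp_right fun ha => Or.inr ⟨ha.1, by omega, ha.2⟩⟩
  have h4 : 2 * (j + 1) ^ 2 ≤ n :=
    (Nat.mul_le_mul_left _ (Nat.pow_le_pow_left hjk 2)).trans hk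
  exact win_of (by omega) hj (by omega)
    ((Dk_le _ _).trans ((Nat.choose_le_pow _ _).trans (pow_le_En h h4))) (winOk_of hj h4)

/-- The test for a chain of primes. -/
def cok (hi : ℕ) : ℕ → List (ℕ × ℕ) → Bool
  | lo, [] => decide (hi ≤ lo)
  | lo, (p, k) :: l => isP p && decide (2 ≤ k ∧ 2 * k ^ 2 ≤ lo ∧ 2 * k ≤ p ∧ p + 3 ≤ lo) &&
      cok hi (p + 2 * k) l

theorem plan_of_cok {hi lo n : ℕ} {l : List (ℕ × ℕ)} (h : cok hi lo l = true) (h0 : 400 ≤ n)
    (h1 : lo ≤ n) (h2 : n < hi) : Plan n := by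
  induction l generalizing lo with
  | nil => simp only [cok, decide_eq_true_eq] at h; omega
  | cons x l ih =>
    obtain ⟨p, k⟩ := x
    simp only [cok, Bool.and_eq_true, decide_eq_true_eq] at h
    obtain ⟨⟨hp, h3, h4, h5, h6⟩, h7⟩ := h
    rcases le_or_gt (p + 2 * k) n with h8 | h8
    · exact ih h7 h8
    · exact plan_of_big h0 h3 (h4.trans h1) (Or.inl ⟨p, prime_of hp, by omega, by omega, h8⟩)

theorem chain : cok 96800 400 [
  (397, 14), (421, 14), (443, 14), (467, 15), (491, 15), (509, 16), (523, 16), (547, 16),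
  (571, 17), (601, 17), (631, 17), (661, 18), (691, 18), (719, 19), (751, 19), (773, 19),
  (797, 20), (829, 20), (863, 20), (887, 21), (919, 21), (953, 21), (991, 22), (1031, 22),
  (1069, 23), (1109, 23), (1151, 24), (1193, 24), (1237, 24), (1279, 25), (1321, 25), (1367, 26),
  (1409, 26), (1453, 27), (1499, 27), (1549, 27), (1597, 28), (1637, 28), (1669, 29), (1723, 29),
  (1777, 29), (1831, 30), (1879, 30), (1933, 31), (1987, 31), (2039, 32), (2099, 32), (2153, 32),
  (2213, 33), (2273, 33), (2333, 34), (2393, 34), (2447, 35), (2503, 35), (2557, 35), (2621, 36),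
  (2689, 36), (2753, 37), (2819, 37), (2887, 38), (2957, 38), (3023, 38), (3089, 39), (3163, 39),
  (3229, 40), (3301, 40), (3373, 41), (3449, 41), (3527, 42), (3607, 42), (3677, 42), (3739, 43),
  (3821, 43), (3889, 44), (3967, 44), (4051, 45), (4133, 45), (4219, 45), (4297, 46), (4373, 46),
  (4457, 47), (4547, 47), (4637, 48), (4729, 48), (4817, 49), (4909, 49), (5003, 50), (5099, 50),
  (5189, 50), (5281, 51), (5351, 51), (5449, 52), (5531, 52), (5623, 53), (5717, 53), (5813, 53),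
  (5903, 54), (6007, 54), (6101, 55), (6203, 55), (6301, 56), (6397, 56), (6491, 57), (6599, 57),
  (6709, 57), (6803, 58), (6911, 58), (7019, 59), (7129, 59), (7243, 60), (7351, 60), (7459, 61),
  (7577, 61), (7691, 62), (7793, 62), (7907, 62), (8017, 63), (8123, 63), (8243, 64), (8363, 64),
  (8467, 65), (8581, 65), (8707, 65), (8831, 66), (8951, 66), (9067, 67), (9187, 67), (9311, 68),
  (9439, 68), (9551, 69), (9679, 69), (9811, 70), (9941, 70), (10069, 70), (10193, 71),
  (10331, 71), (10463, 72), (10601, 72), (10739, 73), (10867, 73), (11003, 74), (11131, 74),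
  (11273, 75), (11411, 75), (11551, 76), (11699, 76), (11839, 76), (11987, 77), (12119, 77),
  (12269, 78), (12421, 78), (12569, 79), (12721, 79), (12853, 80), (13009, 80), (13163, 81),
  (13313, 81), (13469, 82), (13627, 82), (13781, 83), (13933, 83), (14087, 83), (14249, 84),
  (14411, 84), (14563, 85), (14723, 85), (14887, 86), (15053, 86), (15217, 87), (15383, 87),
  (15551, 88), (15683, 88), (15823, 89), (15991, 89), (16141, 89), (16301, 90), (16477, 90),
  (16651, 91), (16829, 91), (16993, 92), (17167, 92), (17341, 93), (17519, 93), (17683, 94),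
  (17863, 94), (18047, 95), (18233, 95), (18413, 95), (18593, 96), (18773, 96), (18959, 97),
  (19141, 97), (19319, 98), (19507, 98), (19699, 99), (19891, 99), (20071, 100), (20261, 100),
  (20443, 101), (20641, 101), (20809, 102), (21001, 102), (21193, 102), (21391, 103),
  (21589, 103), (21787, 104), (21991, 104), (22193, 105), (22397, 105), (22573, 106),
  (22777, 106), (22973, 107), (23173, 107), (23371, 108), (23581, 108), (23789, 109),
  (24001, 109), (24203, 110), (24419, 110), (24631, 110), (24847, 111), (25057, 111),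
  (25261, 112), (25471, 112), (25679, 113), (25889, 113), (26111, 114), (26321, 114),
  (26539, 115), (26759, 115), (26981, 116), (27197, 116), (27409, 117), (27631, 117),
  (27851, 118), (28081, 118), (28309, 118), (28541, 119), (28771, 119), (28979, 120),
  (29209, 120), (29443, 121), (29671, 121), (29881, 122), (30119, 122), (30347, 123),
  (30577, 123), (30817, 124), (31051, 124), (31277, 125), (31517, 125), (31751, 126),
  (31991, 126), (32237, 126), (32479, 127), (32719, 127), (32969, 128), (33211, 128),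
  (33461, 129), (33713, 129), (33967, 130), (34217, 130), (34471, 131), (34729, 131),
  (34981, 132), (35227, 132), (35461, 133), (35677, 133), (35933, 134), (36191, 134),
  (36451, 135), (36713, 135), (36979, 135), (37243, 136), (37511, 136), (37747, 137),
  (38011, 137), (38281, 138), (38543, 138), (38803, 139), (39047, 139), (39317, 140),
  (39581, 140), (39857, 141), (40129, 141), (40387, 142), (40639, 142), (40903, 143),
  (41183, 143), (41453, 143), (41729, 144), (42013, 144), (42293, 145), (42577, 145),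
  (42863, 146), (43151, 146), (43427, 147), (43717, 147), (43997, 148), (44281, 148),
  (44563, 149), (44851, 149), (45139, 150), (45433, 150), (45707, 151), (45989, 151),
  (46279, 152), (46573, 152), (46867, 153), (47161, 153), (47459, 154), (47743, 154),
  (48029, 155), (48313, 155), (48619, 155), (48907, 156), (49211, 156), (49499, 157),
  (49807, 157), (50111, 158), (50423, 158), (50723, 159), (51031, 159), (51343, 160),
  (51659, 160), (51973, 161), (52291, 161), (52609, 162), (52919, 162), (53239, 163),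
  (53551, 163), (53861, 164), (54181, 164), (54503, 165), (54829, 165), (55147, 166),
  (55469, 166), (55793, 167), (56123, 167), (56453, 168), (56783, 168), (57107, 168),
  (57427, 169), (57751, 169), (58073, 170), (58403, 170), (58733, 171), (59069, 171),
  (59407, 172), (59747, 172), (60083, 173), (60413, 173), (60737, 174), (61057, 174),
  (61381, 175), (61723, 175), (62057, 176), (62401, 176), (62743, 177), (63079, 177),
  (63421, 178), (63773, 178), (64123, 179), (64453, 179), (64793, 180), (65147, 180),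
  (65497, 180), (65851, 181), (66191, 181), (66541, 182), (66889, 182), (67247, 183),
  (67607, 183), (67967, 184), (68329, 184), (68687, 185), (69031, 185), (69389, 186),
  (69739, 186), (70099, 187), (70459, 187), (70823, 188), (71191, 188), (71563, 189),
  (71933, 189), (72307, 190), (72679, 190), (73043, 191), (73421, 191), (73783, 192),
  (74161, 192), (74531, 193), (74903, 193), (75277, 194), (75659, 194), (76039, 194),
  (76423, 195), (76801, 195), (77171, 196), (77557, 196), (77933, 197), (78317, 197),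
  (78707, 198), (79087, 198), (79451, 199), (79843, 199), (80233, 200), (80629, 200),
  (81023, 201), (81421, 201), (81817, 202), (82217, 202), (82613, 203), (83009, 203),
  (83407, 204), (83791, 204), (84191, 205), (84589, 205), (84991, 206), (85381, 206),
  (85781, 207), (86183, 207), (86587, 208), (86993, 208), (87403, 209), (87811, 209),
  (88223, 210), (88609, 210), (89021, 210), (89431, 211), (89849, 211), (90263, 212),
  (90679, 212), (91099, 213), (91513, 213), (91921, 214), (92333, 214), (92753, 215),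
  (93179, 215), (93601, 216), (94009, 216), (94433, 217), (94849, 217), (95279, 218),
  (95707, 218), (96137, 219), (96557, 219)] = true := by decide +kernel

theorem plan_of_range {m k hi n : ℕ} (h : 4 ≤ k ∧ 400 ≤ 2 * k ^ 2 ∧
    ∑ p ∈ range m with isP p, p ≤ 2 * k ∧ hi ^ 4 ≤ ∏ p ∈ range m with isP p, p)
    (h1 : 2 * k ^ 2 ≤ n) (h2 : n ≤ hi) : Plan n :=
  plan_of_big (by omega) (by omega) h1 (Or.inr ⟨h.1, _, fun _ hp => prime_of (mem_filter.1 hp).2,
    h.2.2.1, (Nat.pow_le_pow_left h2 4).trans h.2.2.2⟩)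

theorem exists_primes (s : ℕ) : ∃ S : Finset ℕ, (∀ p ∈ S, p.Prime ∧ p ≤ 2 ^ s) ∧
    ∑ p ∈ S, p + 2 ≤ 2 * 2 ^ s ∧ 2 ^ s.choose 2 ≤ ∏ p ∈ S, p := by
  induction s with
  | zero => exact ⟨∅, by simp, by simp, by simp⟩
  | succ s ih =>
    obtain ⟨S, h1, h2, h3⟩ := ih
    obtain ⟨p, hp, h4, h5⟩ := Nat.exists_prime_lt_and_le_two_mul (2 ^ s) (by positivity)
    have h6 : p ∉ S := fun h => absurd (h1 p h).2 (by omega)
    refine ⟨insert p S, fun q hq => ?_, ?_, ?_⟩
    · rcases mem_insert.1 hq with rfl | hq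
      · exact ⟨hp, by omega⟩
      · exact ⟨(h1 q hq).1, by have := (h1 q hq).2; omega⟩
    · rw [sum_insert h6]; omega
    · rw [prod_insert h6, Nat.choose_succ_succ', Nat.choose_one_right, pow_add]
      exact Nat.mul_le_mul h4.le h3

theorem plan_huge {n : ℕ} (h : 2 ^ 40 ≤ n) : Plan n := by
  have h0 : n ≠ 0 := by omega
  have h1 := Nat.pow_log_le_self 2 h0
  have h2 := Nat.lt_pow_succ_log_self one_lt_two n
  have h3 : 40 ≤ Nat.log 2 n := (Nat.le_log_iff_pow_le one_lt_two h0).2 h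
  generalize Nat.log 2 n = L at *
  obtain ⟨s, h4, h5, h6⟩ : ∃ s, 19 ≤ s ∧ 2 * s + 1 ≤ L ∧ L ≤ 2 * s + 3 :=
    ⟨L / 2 - 1, by omega, by omega, by omega⟩
  obtain ⟨S, h7, h8, h9⟩ := exists_primes s
  have h10 : 2 ^ 2 ≤ 2 ^ s := Nat.pow_le_pow_right two_pos (by omega)
  refine plan_of_big (k := 2 ^ s) (by omega) (by omega) ?_
    (Or.inr ⟨h10, S, fun p hp => (h7 p hp).1, by omega, le_trans ?_ h9⟩)
  · rw [← pow_mul, ← pow_succ']
    exact (Nat.pow_le_pow_right two_pos (by omega)).trans h1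
  · refine (Nat.pow_le_pow_left h2.le 4).trans ?_
    rw [← pow_mul]
    refine Nat.pow_le_pow_right two_pos ?_
    rw [Nat.choose_two_right, Nat.le_div_iff_mul_le two_pos]
    obtain ⟨t, rfl⟩ : ∃ t, s = t + 19 := ⟨s - 19, by omega⟩
    rw [show t + 19 - 1 = t + 18 by omega]
    nlinarith

theorem plan_two {n p : ℕ} (h : 7 ≤ n) (hp : p.Prime)
    (ha : (n < 2 * p ∧ p + 3 ≤ n ∧ n < p + 4) ∨ (5 ≤ p ∧ n = 2 * p + 3)) : Plan n :=
  ⟨2, le_rfl, h, fun j _ _ => by omega, fun i hi => Dk_lt (by omega),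
    ha.elim (fun ha => Or.inl ⟨p, hp, ha⟩) fun ha => Or.inr (Or.inl ⟨p, hp, ha⟩)⟩

theorem plan_three {n p : ℕ} (h : 9 ≤ n) (hp : p.Prime) (hw : Win n 2)
    (ha : n < 2 * p ∧ p + 3 ≤ n ∧ n < p + 6) : Plan n :=
  ⟨3, by norm_num, h, fun j _ _ => by rwa [show j = 2 by omega], fun i hi => Dk_lt (by omega),
    Or.inl ⟨p, hp, ha⟩⟩

theorem win_nine : Win 9 2 := by
  have e1 : Dk 9 1 = 8 := by decide
  have e3 : Dk 9 3 = 48 := by decide
  refine win_small (a := 27) (fun _ => hi_nine) ?_ ?_ ?_ ?_ ?_ <;>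
    simp only [e1, e3, List.mem_cons, List.not_mem_nil, or_false] <;> omega

theorem win_eleven : Win 11 2 := by
  have e1 : Dk 11 1 = 10 := by decide
  have e3 : Dk 11 3 = 110 := by decide
  refine win_small (a := 44) (fun _ => hi_eleven) ?_ ?_ ?_ ?_ ?_ <;>
    simp only [e1, e3, List.mem_cons, List.not_mem_nil, or_false] <;> omega

theorem win_twelve : Win 12 2 := by
  have e1 : Dk 12 1 = 11 := by decide
  have e3 : Dk 12 3 = 154 := by decide
  refine win_small (a := 54) (fun _ => hi_twelve) ?_ ?_ ?_ ?_ ?_ <;>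
    simp only [e1, e3, List.mem_cons, List.not_mem_nil, or_false] <;> omega

end Num

theorem plan {n : ℕ} (h : 8 ≤ n) : Plan n := by
  rcases lt_or_ge n 400 with h1 | h1
  · by_cases h2 : n ≤ 13 ∨ n = 25
    · obtain rfl | rfl | rfl | rfl | rfl | rfl | rfl :
        n = 8 ∨ n = 9 ∨ n = 10 ∨ n = 11 ∨ n = 12 ∨ n = 13 ∨ n = 25 := by omega
      · exact plan_two (by norm_num) Nat.prime_five (by norm_num)
      · exact plan_three (by norm_num) Nat.prime_five win_nine (by norm_num)
      · exact plan_two (by norm_num) Nat.prime_seven (by norm_num)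
      · exact plan_three (by norm_num) Nat.prime_seven win_eleven (by norm_num)
      · exact plan_three (by norm_num) Nat.prime_seven win_twelve (by norm_num)
      · exact plan_two (by norm_num) Nat.prime_five (by norm_num)
      · exact plan_two (by norm_num) Nat.prime_eleven (by norm_num)
    · have h3 := List.all_eq_true.1 sm_all n (List.mem_range.2 h1)
      rw [decide_eq_false h2, Bool.false_or] at h3
      exact plan_of_sm (by omega) h3
  rcases lt_or_ge n 96800 with h2 | h2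
  · exact plan_of_cok chain h1 h1 h2
  rcases le_or_gt n 209000 with h3 | h3
  · exact plan_of_range (m := 60) (k := 220) (by decide +kernel) h2 h3
  rcases le_or_gt n 1670000 with h4 | h4
  · exact plan_of_range (m := 68) (k := 284) (by decide +kernel) (by omega) h4
  rcases le_or_gt n (2 ^ 40) with h5 | h5
  · exact plan_of_range (m := 128) (k := 860) (by decide +kernel) (by omega) h5
  · exact plan_huge h5.le

end Cfsg.Snd

set_option linter.all false in
theorem Cfsg.Rz.Snd_Num_0 : True := by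
  have := @_root_.Cfsg.Snd.Num.ch.eq_def
  have := @_root_.Cfsg.Snd.Num.ch.eq_1
  have := @_root_.Cfsg.Snd.Num.ch.fun_cases
  have := @_root_.Cfsg.Snd.Num.isP.eq_def
  have := @_root_.Cfsg.Snd.Num.isP.fun_cases
  have := @_root_.Cfsg.Snd.Num.wk.eq_def
  have := @_root_.Cfsg.Snd.Num.wk.fun_cases
  have := @_root_.Cfsg.Snd.Num.sm.eq_def
  have := @_root_.Cfsg.Snd.Num.sm.fun_cases
  have := @_root_.Cfsg.Snd.WinOk.eq_def
  have := @_root_.Cfsg.Snd.WinOk.eq_1
  have := @_root_.Cfsg.Snd.WinOk.fun_cases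
  have := @_root_.Cfsg.Snd.Num.fp.eq_def
  have := @_root_.Cfsg.Snd.Num.fp.eq_1
  have := @_root_.Cfsg.Snd.Num.fp.induct
  have := @_root_.Cfsg.Snd.Num.fp.fun_cases
  have := @_root_.Cfsg.Snd.Num.tri.induct
  have := @_root_.Cfsg.Snd.Num.tri.fun_cases
  have := @_root_.Cfsg.Snd.Num.cok.induct
  have := @_root_.Cfsg.Snd.Num.cok.fun_cases
  have := @_root_.Cfsg.Snd.Num.wn.eq_def
  have := @_root_.Cfsg.Snd.Num.wn.fun_cases
  trivial
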