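import Cfsg.Agent.Snd.SevenA

/-!
# S4905 for `n = 7`

`χ` of degree 6; `ε χ ≠ χ` by `half_kill` (16 is not a sum of degrees `> 1`); `χ̄ = η χ`, and the
characters of degree `≠ 14` are rational on `A = ker ε`. `χ² = η + 35`: `6 + 14 + 15`
(`typeI_of_mul_star`), `35` (impossible, the squares `S, L` have degrees 21, 15), `15 + 20`
(`S = 20 + ` linear), `14 + 21` (`L = η + β₁₄`, `S = γ₂₁`).
`g` of order 7: degrees 14, 21, 35 vanish; the values `φ, u (15), w (20)` are integers with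
`2 + 12 φ + 30 u + 20 w = 0`, and `7 ∣ ψ(1) + 6 ψ(g) ≥ 0` gives `-1, 1, -1`. So `|C(g)| = 7`, and
Frattini gives an involution `t ∉ A` inverting `g`; on `D₁₄`: `± χ(t)/2 ∈ ℕ`, so `χ(t) = 0`,
`S(t) = 3`, `L(t) = -3`.
* `15 + 20`: the character of degree 20 vanishes off `A`, `3 = ± 1`.
* `14 + 21`, `η = 1`: `β(t) = -4`, `⟨β|D₁₄, 1⟩ = (14 - 28)/14 < 0`.
* `14 + 21`, `η = ε` (`hard`): `β(t) = -2`, so `ε β ≠ β`. `|C(y)| ≤ 720` unless `y⁷ = 1`, so
  `γ(y) ≠ 21`. `x` of order 5: `χ(x^i) = 1`, `β = -1`, `γ = 1`, degrees 15, 20, 35 vanish, the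
  other two 14's have values `u + v = -2`, and Galois permutes them, so `u = -1 + e √5`,
  `|C(x)| = 10 + 10 e² ∈ {10, 20}`. An involution `y ∈ C(x) ∩ A` has `χ(y) = τ`, `|τ| ≤ 2`
  (`det = 1`), `χ(x^i y) = c` constant, and multiplicities on `⟨x y⟩` give `τ - c = ± 5`, so
  `γ(x y) ≥ 5` and `|C(x y)| ≥ 50 > 20`. For an involution `y ∈ C(x)` outside `A`, `χ̄ = -χ` on
  `w = x^i y` and `χ(w⁹) = χ(w)` (Galois), so `χ(w) = 0` and `⟨χ|⟨x y⟩, λ⟩ = 1/2`.
-/

set_option autoImplicit false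
set_option linter.unusedSectionVars false

namespace Cfsg.Snd.Seven

open Finset
open scoped ComplexConjugate

variable {G : Type*} [Group G] [Finite G] {ε : G →* ℤˣ}

theorem sg_one : sg (1 : G →* ℤˣ) = 1 := by
  funext g; simp [sg]

theorem sg_pos {g : G} (hg : ε g = 1) : sg ε g = 1 := by simp [sg, hg]

theorem sg_neg {g : G} (hg : ε g = -1) : sg ε g = -1 := by simp [sg, hg]

theorem sg_mul_sg (f : G → ℂ) : sg ε * (sg ε * f) = f := by
  funext g
  rcases Int.units_eq_one_or (ε g) with h | h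
  · simp [sg_pos h]
  · simp [sg_neg h]

theorem isIrr_sg (ε : G →* ℤˣ) : IsIrrCharacter G (sg ε) := by
  have := isIrr_sg_mul ε (IrrCharacter.one G)
  rwa [show (IrrCharacter.one G).1 = 1 from rfl, mul_one] at this

theorem pow_val {ψ : G → ℂ} (hψ : IsCharacter G ψ) {g : G} (h : ∀ σ : ℂ ≃+* ℂ, σ (ψ g) = ψ g)
    {k : ℕ} (hk : k.Coprime (orderOf g)) : ψ (g ^ k) = ψ g := by
  obtain ⟨σ, hσ⟩ := exists_ringEquiv_apply_pow_orderOf hk
  rw [hσ ψ hψ.isGen, h]

section Base

variable (h : DegList G [1, 1, 6, 6, 14, 14, 14, 14, 15, 15, 20, 21, 21, 35, 35])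
include h

theorem card_eq : Nat.card G = 5040 := by
  rw [h.card_eq]; decide

theorem deg_mem (ψ : IrrCharacter G) : charDegree ψ.1 = 1 ∨ charDegree ψ.1 = 6 ∨
    charDegree ψ.1 = 14 ∨ charDegree ψ.1 = 15 ∨ charDegree ψ.1 = 20 ∨ charDegree ψ.1 = 21 ∨
    charDegree ψ.1 = 35 := by
  obtain ⟨e, he⟩ := h
  rw [he]
  generalize e ψ = i
  revert i
  decide

theorem three {a b c : IrrCharacter G} (hab : charDegree a.1 = charDegree b.1)
    (hac : charDegree a.1 = charDegree c.1) (h14 : charDegree a.1 ≠ 14) :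
    a = b ∨ a = c ∨ b = c := by
  obtain ⟨e, he⟩ := h
  simp only [he, ← e.apply_eq_iff_eq (x := a), ← e.apply_eq_iff_eq (x := b)] at *
  generalize e a = i, e b = j, e c = k at *
  revert i j k
  decide

theorem uniq20 {a b : IrrCharacter G} (ha : charDegree a.1 = 20) (hb : charDegree b.1 = 20) :
    a = b := by
  obtain ⟨e, he⟩ := h
  simp only [he, ← e.apply_eq_iff_eq (x := a)] at *
  generalize e a = i, e b = j at *
  revert i j
  decide

theorem ex_deg {d : ℕ} (hd : d = 6 ∨ d = 15 ∨ d = 20) :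
    ∃ ψ : IrrCharacter G, charDegree ψ.1 = d := by
  obtain ⟨e, he⟩ := h
  rcases hd with rfl | rfl | rfl
  · exact ⟨e.symm ⟨2, by decide⟩, by rw [he, e.apply_symm_apply]; rfl⟩
  · exact ⟨e.symm ⟨8, by decide⟩, by rw [he, e.apply_symm_apply]; rfl⟩
  · exact ⟨e.symm ⟨10, by decide⟩, by rw [he, e.apply_symm_apply]; rfl⟩

theorem ex_eps : ∃ ε : G →* ℤˣ, ε ≠ 1 ∧
    ∀ χ : IrrCharacter G, charDegree χ.1 = 1 → χ.1 = 1 ∨ χ.1 = sg ε := by
  refine exists_eps (fun a b c ha hb hc => three h (ha.trans hb.symm) (ha.trans hc.symm)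
    (by omega)) ?_
  obtain ⟨e, he⟩ := h
  refine ⟨e.symm ⟨0, by decide⟩, e.symm ⟨1, by decide⟩, by rw [he, e.apply_symm_apply]; rfl,
    by rw [he, e.apply_symm_apply]; rfl, fun h' => ?_⟩
  exact absurd (e.symm.injective h') (by decide)

theorem four {a b : IrrCharacter G} (ha : charDegree a.1 = 14) (hb : charDegree b.1 = 14)
    (hab : a ≠ b) : ∃ U V : IrrCharacter G, U ≠ V ∧ charDegree U.1 = 14 ∧ charDegree V.1 = 14 ∧
      ∀ ψ : IrrCharacter G, charDegree ψ.1 = 14 → ψ = a ∨ ψ = b ∨ ψ = U ∨ ψ = V := by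
  obtain ⟨e, he⟩ := h
  have key : ∀ i j : Fin [1, 1, 6, 6, 14, 14, 14, 14, 15, 15, 20, 21, 21, 35, 35].length,
      [1, 1, 6, 6, 14, 14, 14, 14, 15, 15, 20, 21, 21, 35, 35].get i = 14 →
      [1, 1, 6, 6, 14, 14, 14, 14, 15, 15, 20, 21, 21, 35, 35].get j = 14 → i ≠ j →
      ∃ u, [1, 1, 6, 6, 14, 14, 14, 14, 15, 15, 20, 21, 21, 35, 35].get u = 14 ∧
      ∃ v, [1, 1, 6, 6, 14, 14, 14, 14, 15, 15, 20, 21, 21, 35, 35].get v = 14 ∧ u ≠ v ∧
        ∀ k, [1, 1, 6, 6, 14, 14, 14, 14, 15, 15, 20, 21, 21, 35, 35].get k = 14 →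
          k = i ∨ k = j ∨ k = u ∨ k = v := by
    decide
  obtain ⟨u, hu, v, hv, huv, hk⟩ := key (e a) (e b) (he a ▸ ha) (he b ▸ hb) (e.injective.ne hab)
  refine ⟨e.symm u, e.symm v, e.symm.injective.ne huv, by rw [he, e.apply_symm_apply, hu],
    by rw [he, e.apply_symm_apply, hv], fun ψ hψ => ?_⟩
  simpa only [e.apply_eq_iff_eq, Equiv.eq_symm_apply] using hk (e ψ) (he ψ ▸ hψ)

theorem sum_deg (F : ℕ → ℂ) : ∑ ψ : IrrCharacter G, F (charDegree ψ.1) =
    2 * F 1 + 2 * F 6 + 4 * F 14 + 2 * F 15 + F 20 + 2 * F 21 + 2 * F 35 := by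
  obtain ⟨e, he⟩ := h
  simp only [he]
  rw [e.sum_comp (fun i => F ([1, 1, 6, 6, 14, 14, 14, 14, 15, 15, 20, 21, 21, 35, 35].get i))]
  simp [Fin.sum_univ_succ]
  ring

theorem sum_deg' (F : ℕ → ℂ) (f : IrrCharacter G → ℂ) {U V : IrrCharacter G} (hUV : U ≠ V)
    (hU : charDegree U.1 = 14) (hV : charDegree V.1 = 14)
    (hf : ∀ ψ, ψ ≠ U → ψ ≠ V → f ψ = F (charDegree ψ.1)) : ∑ ψ, f ψ =
    2 * F 1 + 2 * F 6 + 2 * F 14 + 2 * F 15 + F 20 + 2 * F 21 + 2 * F 35 + f U + f V := by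
  have h1 := sum_eq_add_of_mem (s := univ) (f := fun ψ => f ψ - F (charDegree ψ.1)) U V
    (mem_univ _) (mem_univ _) hUV (fun c _ hc => sub_eq_zero.mpr (hf c hc.1 hc.2))
  rw [sum_sub_distrib, sum_deg h, hU, hV] at h1
  linear_combination h1

theorem zero7 (ψ : IrrCharacter G) (hψ : 7 ∣ charDegree ψ.1) {g : G} (hg : 7 ∣ orderOf g) :
    ψ g = 0 := by
  have : Fact (Nat.Prime 7) := ⟨by norm_num⟩
  exact ψ.eq_zero_of_defect_zero 7 (by rwa [card_eq h, fact7, pow_one]) hg

theorem zero5 (ψ : IrrCharacter G) (hψ : 5 ∣ charDegree ψ.1) {g : G} (hg : 5 ∣ orderOf g) :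
    ψ g = 0 := by
  have : Fact (Nat.Prime 5) := ⟨by norm_num⟩
  exact ψ.eq_zero_of_defect_zero 5 (by rwa [card_eq h, fact5, pow_one]) hg

variable (hε : ε ≠ 1)
  (h1 : ∀ χ : IrrCharacter G, charDegree χ.1 = 1 → χ.1 = 1 ∨ χ.1 = sg ε)
include hε h1

theorem tw_ne (ψ : IrrCharacter G) (h14 : charDegree ψ.1 ≠ 14) (h20 : charDegree ψ.1 ≠ 20) :
    sg ε * ψ.1 ≠ ψ.1 := by
  intro e
  have hev := Nat.even_iff.mp (even_of_sg_mul hε ψ e)
  have h6 : charDegree ψ.1 = 6 := by have := deg_mem h ψ; omega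
  obtain ⟨t, ht, hs⟩ := half_kill hε h1 ψ e
  rw [h6] at hs
  have := sum_cases id t fun d hd => by
    obtain ⟨hd1, φ, rfl⟩ := ht d hd
    have := deg_mem h φ
    simp only [id]
    omega
  rw [Multiset.map_id] at this
  rcases this with rfl | this
  · simp at hs
  · omega

theorem agree {ψ φ : IrrCharacter G} (hd : charDegree ψ.1 = charDegree φ.1)
    (h14 : charDegree ψ.1 ≠ 14) : φ.1 = ψ.1 ∨ φ.1 = sg ε * ψ.1 := by
  by_cases h20 : charDegree ψ.1 = 20
  · exact Or.inl (by rw [uniq20 h h20 (hd ▸ h20)])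
  rcases three h (b := ⟨_, isIrr_sg_mul ε ψ⟩) (charDegree_sg_mul ε ψ.1).symm hd h14 with
    e | e | e
  · exact absurd (congrArg Subtype.val e).symm (tw_ne h hε h1 ψ h14 h20)
  · exact Or.inl (by rw [e])
  · exact Or.inr (by rw [← e])

theorem agreeA {ψ φ : IrrCharacter G} (hd : charDegree ψ.1 = charDegree φ.1)
    (h14 : charDegree ψ.1 ≠ 14) {g : G} (hg : ε g = 1) : φ g = ψ g := by
  rcases agree h hε h1 hd h14 with e | e <;> simp [e, sg_pos hg]

theorem fixA (ψ : IrrCharacter G) (h14 : charDegree ψ.1 ≠ 14) {g : G} (hg : ε g = 1)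
    (σ : ℂ ≃+* ℂ) : σ (ψ g) = ψ g :=
  agreeA h hε h1 (φ := σ • ψ) (IrrCharacter.charDegree_gal_smul σ ψ).symm h14 hg

theorem intA (ψ : IrrCharacter G) (h14 : charDegree ψ.1 ≠ 14) {g : G} (hg : ε g = 1) :
    ∃ m : ℤ, ψ g = m :=
  exists_int_of_forall_ringEquiv_fix (ψ.isIntegral g) (fixA h hε h1 ψ h14 hg)

theorem powA (ψ : IrrCharacter G) (h14 : charDegree ψ.1 ≠ 14) {g : G} (hg : ε g = 1) {k : ℕ}
    (hk : k.Coprime (orderOf g)) : ψ (g ^ k) = ψ g :=
  pow_val ψ.isCharacter (fixA h hε h1 ψ h14 hg) hk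

theorem linA (ψ : IrrCharacter G) (hd : charDegree ψ.1 = 1) {g : G} (hg : ε g = 1) : ψ g = 1 := by
  rcases h1 ψ hd with e | e <;> simp [e, sg_pos hg]

theorem sum7 (ψ : IrrCharacter G) (h14 : charDegree ψ.1 ≠ 14) {g : G} (hg : orderOf g = 7) :
    ∑ i ∈ range 7, ψ (g ^ i) = charDegree ψ.1 + 6 * ψ g := by
  have hA : ε g = 1 := eps_of_odd (by decide) (hg ▸ pow_orderOf_eq_one g)
  have p : ∀ k : ℕ, k.Coprime 7 → ψ (g ^ k) = ψ g := fun k hk =>
    powA h hε h1 ψ h14 hA (hg ▸ hk)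
  simp only [sum_range_succ, sum_range_zero]
  rw [p 2 (by decide), p 3 (by decide), p 4 (by decide), p 5 (by decide), p 6 (by decide),
    pow_zero, pow_one, ψ.apply_one]
  ring

/-- The column of an element of order 7. -/
theorem seven {g : G} (hg : orderOf g = 7) :
    (∀ ψ : IrrCharacter G, charDegree ψ.1 = 6 → ψ g = -1) ∧
      Nat.card (Subgroup.centralizer ({g} : Set G)) = 7 := by
  have hg7 : g ^ 7 = 1 := hg ▸ pow_orderOf_eq_one g
  have hA : ε g = 1 := eps_of_odd (by decide) hg7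
  have hg1 : g ≠ 1 := by rintro rfl; simp at hg
  have val : ∀ d : ℕ, d = 6 ∨ d = 15 ∨ d = 20 → ∃ (z : ℤ) (m : ℕ), (d : ℤ) + 6 * z = 7 * m ∧
      ∀ ψ : IrrCharacter G, charDegree ψ.1 = d → ψ g = z := by
    intro d hd
    obtain ⟨a, ha⟩ := ex_deg h hd
    have h14 : charDegree a.1 ≠ 14 := by omega
    obtain ⟨z, hz⟩ := intA h hε h1 a h14 hA
    obtain ⟨m, hm⟩ := mult_one a.isCharacter hg7 (one_pow 7)
    simp only [one_pow, mul_one] at hm
    rw [sum7 h hε h1 a h14 hg, hz, ha] at hm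
    exact ⟨z, m, by exact_mod_cast hm, fun ψ hψ => by
      rw [agreeA h hε h1 (ha.trans hψ.symm) h14 hA, hz]⟩
  obtain ⟨a, m, ha, ha'⟩ := val 6 (by simp)
  obtain ⟨b, n, hb, hb'⟩ := val 15 (by simp)
  obtain ⟨c, k, hc, hc'⟩ := val 20 (by simp)
  let F : ℕ → ℂ := fun d => if d = 1 then 1 else if d = 6 then a else if d = 15 then b else
    if d = 20 then c else 0
  have hF : ∀ ψ : IrrCharacter G, ψ g = F (charDegree ψ.1) := by
    intro ψ
    rcases deg_mem h ψ with e | e | e | e | e | e | e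
    · rw [linA h hε h1 ψ e hA, e]; simp [F]
    · rw [ha' ψ e, e]; simp [F]
    · rw [zero7 h ψ (by omega) (by omega), e]; simp [F]
    · rw [hb' ψ e, e]; simp [F]
    · rw [hc' ψ e, e]; simp [F]
    · rw [zero7 h ψ (by omega) (by omega), e]; simp [F]
    · rw [zero7 h ψ (by omega) (by omega), e]; simp [F]
  have s1 := sum_irr_one_mul_of_ne_one hg1
  simp only [hF, IrrCharacter.apply_one] at s1
  rw [sum_deg h (fun d => d * F d)] at s1
  simp only [F] at s1
  norm_num at s1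
  have s1' : 2 + 12 * a + 30 * b + 20 * c = 0 := by
    apply Int.cast_injective (α := ℂ)
    push_cast
    linear_combination s1
  have ea : a = -1 := by omega
  have eb : b = 1 := by omega
  have ec : c = -1 := by omega
  refine ⟨fun ψ hψ => by rw [ha' ψ hψ, ea]; simp, ?_⟩
  have s2 := sum_irr_mul_conj_of_isConj (IsConj.refl g)
  simp only [hF] at s2
  rw [sum_deg h (fun d => F d * conj (F d))] at s2
  simp only [F, ea, eb, ec] at s2
  norm_num at s2
  exact_mod_cast s2.symm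

theorem cent_le {y : G} (hy : y ^ 7 ≠ 1) :
    Nat.card (Subgroup.centralizer ({y} : Set G)) ≤ 720 := by
  have : Fact (Nat.Prime 7) := ⟨by norm_num⟩
  have hd := (Subgroup.centralizer ({y} : Set G)).card_subgroup_dvd_card
  rw [card_eq h, show 5040 = 7 * 720 from rfl] at hd
  refine Nat.le_of_dvd (by norm_num) (Nat.Coprime.dvd_of_dvd_mul_left ?_ hd)
  rw [Nat.coprime_comm, Nat.Prime.coprime_iff_not_dvd (by norm_num)]
  intro h7
  obtain ⟨g, hg⟩ := exists_prime_orderOf_dvd_card' 7 h7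
  have hm : y ∈ Subgroup.centralizer ({(g : G)} : Set G) := by
    rw [Subgroup.mem_centralizer_singleton_iff]
    exact (Subgroup.mem_centralizer_singleton_iff.mp g.2).symm
  have := pow_card_eq_one' (x := (⟨y, hm⟩ : Subgroup.centralizer ({(g : G)} : Set G)))
  rw [(seven h hε h1 (by rw [Subgroup.orderOf_coe, hg])).2] at this
  exact hy (congrArg Subtype.val this)

/-- Two terms of the column norm. -/
theorem two_le (γ : IrrCharacter G) (hγ : charDegree γ.1 = 21) (y : G) :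
    2 * ‖γ y‖ ^ 2 ≤ (Nat.card (Subgroup.centralizer ({y} : Set G)) : ℝ) := by
  have := pair_le (a := γ) (b := ⟨_, isIrr_sg_mul ε γ⟩)
    (fun e => tw_ne h hε h1 γ (by omega) (by omega) (congrArg Subtype.val e).symm) y
  have e : ‖(sg ε * γ.1) y‖ = ‖γ y‖ := by
    rcases Int.units_eq_one_or (ε y) with hy | hy
    · simp [sg_pos hy]
    · simp [sg_neg hy]
  simp only [e] at this
  linarith

theorem ne21 (γ : IrrCharacter G) (hγ : charDegree γ.1 = 21) {y : G} (hy : y ^ 7 ≠ 1) :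
    γ y ≠ 21 := by
  intro e
  have h2 := two_le h hε h1 γ hγ y
  have h3 : (Nat.card (Subgroup.centralizer ({y} : Set G)) : ℝ) ≤ 720 := by
    exact_mod_cast cent_le h hε h1 hy
  rw [e, show ‖(21 : ℂ)‖ = 21 by simp] at h2
  linarith

/-- The involution `t`: `χ (t) = 0`, and `β (t) ≥ -2` in degree 14. -/
theorem ex_t : ∃ t : G, t * t = 1 ∧ ε t = -1 ∧
    (∀ χ : IrrCharacter G, charDegree χ.1 = 6 → χ t = 0) ∧
    ∀ β : IrrCharacter G, charDegree β.1 = 14 → β t ≠ -4 := by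
  obtain ⟨g, t, hg, ht, hεt, hc⟩ := exists_inv (card_eq h) hε fun g hg => (seven h hε h1 hg).2
  have hg7 : g ^ 7 = 1 := hg ▸ pow_orderOf_eq_one g
  have key : ∀ χ : IrrCharacter G, charDegree χ.1 = 6 → ∃ m : ℕ, χ t = 2 * m := by
    intro χ hχ
    obtain ⟨m, hm⟩ := dihedral χ.isCharacter hg7 ht hc
    rw [sum7 h hε h1 χ (by omega) hg, (seven h hε h1 hg).1 χ hχ, hχ] at hm
    exact ⟨m, by push_cast at hm; linear_combination (1 / 7) * hm⟩
  refine ⟨t, ht, hεt, fun χ hχ => ?_, fun β hβ e => ?_⟩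
  · obtain ⟨m, hm⟩ := key χ hχ
    obtain ⟨n, hn⟩ := key ⟨_, isIrr_sg_mul ε χ⟩ ((charDegree_sg_mul ε χ.1).trans hχ)
    simp only [Pi.mul_apply, sg_neg hεt] at hn
    have : ((m + n : ℕ) : ℂ) = (0 : ℕ) := by
      push_cast; linear_combination (-1 / 2) * hm - (1 / 2) * hn
    have h0 : m = 0 := by have := Nat.cast_injective this; omega
    rw [hm, h0]; simp
  · obtain ⟨m, hm⟩ := dihedral β.isCharacter hg7 ht hc
    have z : ∀ k : ℕ, k.Coprime 7 → β (g ^ k) = 0 := fun k hk =>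
      zero7 h β (by omega) (by rw [(hg ▸ hk : k.Coprime (orderOf g)).symm.orderOf_pow, hg])
    simp only [sum_range_succ, sum_range_zero] at hm
    rw [z 1 (by decide), z 2 (by decide), z 3 (by decide), z 4 (by decide), z 5 (by decide),
      z 6 (by decide), pow_zero, β.apply_one, hβ, e] at hm
    have : ((m + 1 : ℕ) : ℂ) = (0 : ℕ) := by
      push_cast at hm ⊢; linear_combination (-1 / 14) * hm
    have := Nat.cast_injective this
    omega

/-- `χ̄ = ε χ` vanishes on the elements outside `ker ε` of order dividing 10. -/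
theorem off_zero (χ : IrrCharacter G) (hχ : charDegree χ.1 = 6) (hbar : star χ.1 = sg ε * χ.1)
    {w : G} (hw : w ^ 10 = 1) (hεw : ε w = -1) : χ w = 0 := by
  obtain ⟨σ, hσ⟩ := exists_ringEquiv_pow (n := 10) (k := 3) (by norm_num) (by norm_num)
  have p1 : χ (w ^ 3) = σ (χ w) := χ.isCharacter.apply_pow_eq σ.toRingHom hw hσ
  have p2 : χ ((w ^ 3) ^ 3) = σ (χ (w ^ 3)) := χ.isCharacter.apply_pow_eq σ.toRingHom
    (by rw [← pow_mul, mul_comm, pow_mul, hw, one_pow]) hσ
  have e9 : (w ^ 3) ^ 3 = w⁻¹ := by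
    rw [← pow_mul, eq_inv_iff_mul_eq_one, ← pow_succ, hw]
  have hb : conj (χ w) = - χ w := by
    have := congrFun hbar w
    simpa [sg_neg hεw] using this
  rw [e9, χ.apply_inv, hb, p1] at p2
  have : σ (σ (χ w)) = χ w := by
    rcases agree h hε h1 (φ := σ • χ) (IrrCharacter.charDegree_gal_smul σ χ).symm (by omega) with
      e | e
    · have e' : σ (χ w) = χ w := congrFun e w
      rw [e', e']
    · have e' : σ (χ w) = sg ε w * χ w := congrFun e w
      rw [sg_neg hεw, neg_one_mul] at e'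
      rw [e', map_neg, e', neg_neg]
  rw [this] at p2
  linear_combination (-1 / 2) * p2

theorem hard (χ β γ : IrrCharacter G) (hχ : charDegree χ.1 = 6) (hβ : charDegree β.1 = 14)
    (hγ : charDegree γ.1 = 21) (hbar : star χ.1 = sg ε * χ.1)
    (hS : ∀ g, (χ g ^ 2 + χ (g * g)) / 2 = γ g)
    (hL : ∀ g, (χ g ^ 2 - χ (g * g)) / 2 = sg ε g + β g) (hne : sg ε * β.1 ≠ β.1) : False := by
  have : Fact (Nat.Prime 5) := ⟨by norm_num⟩
  have h14 : charDegree χ.1 ≠ 14 := by omega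
  have hχ1 : χ 1 = 6 := by rw [χ.apply_one, hχ]; simp
  obtain ⟨ζ, hζ, hζ0⟩ := exists_zeta
  obtain ⟨x, hx⟩ := exists_prime_orderOf_dvd_card' 5 (G := G) (by rw [card_eq h]; norm_num)
  have hx5 : x ^ 5 = 1 := hx ▸ pow_orderOf_eq_one x
  have hx7 : x ^ 7 ≠ 1 := fun e => by
    have := orderOf_dvd_of_pow_eq_one e
    rw [hx] at this
    omega
  have hx1 : x ≠ 1 := by rintro rfl; simp at hx
  have hA : ε x = 1 := eps_of_odd (by decide) hx5
  have p : ∀ k : ℕ, k.Coprime 5 → χ (x ^ k) = χ x := fun k hk => powA h hε h1 χ h14 hA (hx ▸ hk)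
  have hχx : χ x = 1 := by
    obtain ⟨a, ha⟩ := intA h hε h1 χ h14 hA
    obtain ⟨m, hm⟩ := mult_one χ.isCharacter hx5 (one_pow 5)
    rw [sum_five, p 2 (by decide), p 3 (by decide), p 4 (by decide), pow_zero, pow_one, hχ1,
      ha] at hm
    have e1 : 6 + 4 * a = 5 * m := by
      apply Int.cast_injective (α := ℂ)
      push_cast at hm ⊢
      linear_combination hm
    have e2 : |a| ≤ 6 := by
      have := χ.norm_le x
      rw [ha, hχ, Complex.norm_intCast] at this
      exact_mod_cast this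
    have e3 : a ≠ 6 := by
      rintro rfl
      refine ne21 h hε h1 γ hγ hx7 ?_
      rw [← hS, ← sq, p 2 (by decide), ha]
      norm_num
    have : a = 1 := by have := abs_le.mp e2; omega
    rw [ha, this]; simp
  simp only [hχx] at p
  have hγx : γ x = 1 := by rw [← hS, ← sq, p 2 (by decide), hχx]; norm_num
  have hβx : β x = -1 := by
    have := hL x
    rw [← sq, p 2 (by decide), hχx, sg_pos hA] at this
    linear_combination -this
  obtain ⟨U, V, hUV, hU, hV, h4⟩ := four h (b := ⟨_, isIrr_sg_mul ε β⟩) hβ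
    ((charDegree_sg_mul ε β.1).trans hβ) (fun e => hne (congrArg Subtype.val e).symm)
  have h4' : ∀ ψ : IrrCharacter G, charDegree ψ.1 = 14 → ψ x = -1 ∨ ψ = U ∨ ψ = V := by
    intro ψ hψ
    rcases h4 ψ hψ with rfl | rfl | e
    · exact Or.inl hβx
    · exact Or.inl (by simp [sg_pos hA, hβx])
    · exact Or.inr e
  let F : ℕ → ℂ := fun d => if d = 1 then 1 else if d = 6 then 1 else if d = 14 then -1 else
    if d = 21 then 1 else 0
  have hF : ∀ ψ : IrrCharacter G, ψ ≠ U → ψ ≠ V → ψ x = F (charDegree ψ.1) := by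
    intro ψ hu hv
    rcases deg_mem h ψ with e | e | e | e | e | e | e
    · rw [linA h hε h1 ψ e hA, e]; simp [F]
    · rw [agreeA h hε h1 (hχ.trans e.symm) h14 hA, hχx, e]; simp [F]
    · rw [(h4' ψ e).resolve_right (by tauto), e]; simp [F]
    · rw [zero5 h ψ (by omega) (by omega), e]; simp [F]
    · rw [zero5 h ψ (by omega) (by omega), e]; simp [F]
    · rw [agreeA h hε h1 (hγ.trans e.symm) (by omega) hA, hγx, e]; simp [F]
    · rw [zero5 h ψ (by omega) (by omega), e]; simp [F]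
  have hU1 : U 1 = 14 := by rw [U.apply_one, hU]; simp
  have hV1 : V 1 = 14 := by rw [V.apply_one, hV]; simp
  have s1 := sum_irr_one_mul_of_ne_one hx1
  rw [sum_deg' h (fun d => d * F d) _ hUV hU hV
    (fun ψ hu hv => by rw [hF ψ hu hv, ψ.apply_one]), hU1, hV1] at s1
  simp only [F] at s1
  norm_num at s1
  have huv : U x + V x = -2 := by linear_combination (1 / 14) * s1
  have s2 := sum_irr_mul_conj_of_isConj (IsConj.refl x)
  rw [sum_deg' h (fun d => F d * conj (F d)) _ hUV hU hV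
    (fun ψ hu hv => by rw [hF ψ hu hv]), Complex.mul_conj' (U x), Complex.mul_conj' (V x)] at s2
  simp only [F] at s2
  norm_num at s2
  obtain ⟨σ, hσ⟩ := exists_ringEquiv_pow (n := 5) (k := 2) (by norm_num) (by norm_num)
  obtain ⟨e, he⟩ := five_col U.isCharacter V.isCharacter hU1 hV1 hx5 σ hσ huv (by
    rcases h4' (σ • U) ((IrrCharacter.charDegree_gal_smul σ U).trans hU) with e | e | e
    · exact Or.inl e
    · exact Or.inr (Or.inl (congrFun (congrArg Subtype.val e) x))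
    · exact Or.inr (Or.inr (congrFun (congrArg Subtype.val e) x)))
  have hN : Nat.card (Subgroup.centralizer ({x} : Set G)) = 10 + 10 * e.natAbs ^ 2 := by
    have he' := congrArg (fun r : ℝ => (r : ℂ)) he
    push_cast at he'
    apply Nat.cast_injective (R := ℤ)
    push_cast
    rw [sq_abs]
    apply Int.cast_injective (α := ℂ)
    push_cast
    linear_combination he' - s2
  have hN20 : Nat.card (Subgroup.centralizer ({x} : Set G)) ≤ 20 := by
    have hd := (Subgroup.centralizer ({x} : Set G)).card_subgroup_dvd_card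
    have hl := cent_le h hε h1 hx7
    rw [card_eq h, hN] at hd
    rw [hN] at hl ⊢
    generalize e.natAbs = E at *
    have : E ≤ 8 := by nlinarith
    interval_cases E <;> omega
  obtain ⟨⟨y, hyx⟩, hy⟩ := exists_prime_orderOf_dvd_card' 2
    (G := Subgroup.centralizer ({x} : Set G)) (by rw [hN]; omega)
  rw [← Subgroup.orderOf_coe] at hy
  have hy2 : y ^ 2 = 1 := hy ▸ pow_orderOf_eq_one y
  have hc : Commute x y := (Subgroup.mem_centralizer_singleton_iff.mp hyx).symm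
  have hw : ∀ i : ℕ, (x ^ i * y) ^ 10 = 1 := fun i => by
    rw [(hc.pow_left i).mul_pow, ← pow_mul, show i * 10 = 5 * (2 * i) by ring, pow_mul, hx5,
      show 10 = 2 * 5 from rfl, pow_mul y, hy2]
    simp
  rcases Int.units_eq_one_or (ε y) with hεy | hεy
  · have hy7 : y ^ 7 ≠ 1 := fun e => by
      have := orderOf_dvd_of_pow_eq_one e
      rw [hy] at this
      omega
    have hAw : ε (x * y) = 1 := by rw [map_mul, hA, hεy, one_mul]
    obtain ⟨c, hc'⟩ := intA h hε h1 χ h14 hAw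
    obtain ⟨τ, hτ, hτ2, hτ6⟩ := χ.isCharacter.exists_int_of_sq_eq_one hy2
    have q : ∀ k j : ℕ, (5 * j + k).Coprime 10 → Odd (5 * j + k) → χ (x ^ k * y) = c := by
      intro k j hk ⟨l, hl⟩
      have := powA h hε h1 χ h14 hAw
        (hk.coprime_dvd_right (orderOf_dvd_of_pow_eq_one (by simpa using hw 1)))
      rw [hc.mul_pow, pow_add, pow_mul, hx5, one_pow, one_mul, hl, pow_succ, pow_mul, hy2, one_pow,
        one_mul, hc'] at this
      exact this
    obtain ⟨m, hm⟩ := mult_two χ.isCharacter hc hx5 hy2 hζ (Or.inl rfl)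
    obtain ⟨n, hn⟩ := mult_two χ.isCharacter hc hx5 hy2 hζ (Or.inr rfl)
    rw [sum_five, p 1 (by decide), p 2 (by decide), p 3 (by decide), p 4 (by decide),
      q 1 0 (by decide) (by decide), q 2 1 (by decide) (by decide), q 3 0 (by decide) (by decide),
      q 4 1 (by decide) (by decide), pow_zero, one_mul y, hχ1, hτ] at hm hn
    have e1 : 5 + (τ - c) = 10 * m := by
      apply Int.cast_injective (α := ℂ)
      push_cast at hm ⊢
      linear_combination hm - (1 + c) * hζ0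
    have e2 : 5 - (τ - c) = 10 * n := by
      apply Int.cast_injective (α := ℂ)
      push_cast at hn ⊢
      linear_combination hn - (1 - c) * hζ0
    have e3 : τ ≠ 6 ∧ τ ≠ -6 := by
      constructor <;> rintro rfl <;> refine ne21 h hε h1 γ hγ hy7 ?_ <;>
        rw [← hS, ← sq, hy2, hτ, hχ1] <;> norm_num
    have e4 : τ ≠ 4 ∧ τ ≠ -4 := by
      have := det_inv χ.isCharacter hχ hy2 (linA h hε h1 ⟨_, isIrrCharacter_detChar χ.1⟩
        (charDegree_eq_of_apply_one ((detChar_apply_one χ.1).trans Nat.cast_one.symm)) hεy)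
      constructor <;> rintro rfl
      · exact this.1 (by rw [hτ]; simp)
      · exact this.2 (by rw [hτ]; simp)
    have e5 : 9 ≤ c ^ 2 := by
      rw [hχ] at hτ2 hτ6
      have := abs_le.mp hτ6
      have h2 : τ % 2 = 0 := hτ2
      have : 3 ≤ c ∨ c ≤ -3 := by omega
      rcases this with h3 | h3 <;> nlinarith
    have e6 : γ (x * y) = (((c ^ 2 + 1) / 2 : ℝ) : ℂ) := by
      rw [← hS, ← sq, hc.mul_pow, hy2, mul_one, p 2 (by decide), hc']
      push_cast; ring
    have e7 := two_le h hε h1 γ hγ (x * y)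
    have e8 : Nat.card (Subgroup.centralizer ({x * y} : Set G)) ≤ 20 := by
      refine le_trans (Subgroup.card_le_of_le fun z hz => ?_) hN20
      rw [Subgroup.mem_centralizer_singleton_iff] at hz ⊢
      have := (show Commute z (x * y) from hz).pow_right 6
      rwa [hc.mul_pow, show 6 = 5 + 1 from rfl, pow_succ, hx5, one_mul,
        show 5 + 1 = 2 * 3 from rfl, pow_mul, hy2, one_pow, mul_one] at this
    have e9 : (Nat.card (Subgroup.centralizer ({x * y} : Set G)) : ℝ) ≤ 20 := by exact_mod_cast e8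
    have e10 : (9 : ℝ) ≤ c ^ 2 := by exact_mod_cast e5
    rw [e6, Complex.norm_real, Real.norm_eq_abs, sq_abs] at e7
    nlinarith
  · have z : ∀ i : ℕ, χ (x ^ i * y) = 0 := fun i =>
      off_zero h hε h1 χ hχ hbar (hw i) (by rw [map_mul, map_pow, hA, hεy]; simp)
    obtain ⟨m, hm⟩ := mult_two χ.isCharacter hc hx5 hy2 hζ (Or.inl rfl)
    simp only [z] at hm
    rw [sum_five, p 1 (by decide), p 2 (by decide), p 3 (by decide), p 4 (by decide), pow_zero,
      hχ1] at hm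
    have : ((2 * m : ℕ) : ℂ) = (1 : ℕ) := by
      push_cast at hm ⊢
      linear_combination (-1 / 5) * hm + (1 / 5) * hζ0
    have := Nat.cast_injective this
    omega

theorem main (χ : IrrCharacter G) (hχ : charDegree χ.1 = 6) (η : G →* ℤˣ) (hη : η = 1 ∨ η = ε)
    (hbar : star χ.1 = sg η * χ.1) : TypeI G 7 := by
  have hχ1 : χ 1 = 6 := by rw [χ.apply_one, hχ]; simp
  have hne : (⟨_, isIrr_sg_mul ε χ⟩ : IrrCharacter G) ≠ χ := fun e =>
    tw_ne h hε h1 χ (by omega) (by omega) (congrArg Subtype.val e)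
  have hip : ip χ.1 (sg ε * χ.1) = 0 := IrrCharacter.ip_of_ne hne.symm
  let H : IrrCharacter G := ⟨_, isIrr_sg η⟩
  have hsq := χ.isCharacter.mul χ.isCharacter
  have hH : ip (χ.1 * χ.1) H.1 = 1 := by
    rw [ip_mul_left, hbar]
    exact (congrArg _ (sg_mul_sg χ.1)).trans χ.ip_self
  have hθ := hsq.sub_irr H (by rw [hH]; exact one_ne_zero)
  have hθ1 : charDegree (χ.1 * χ.1 - H.1) = 35 :=
    charDegree_eq_of_apply_one (by simp [hχ1, H, sg]; norm_num)
  obtain ⟨s, hs, hd, hmem⟩ := exists_multiset hθ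
  have hlin : ∀ ψ ∈ s, charDegree ψ.1 ≠ 1 ∧ ip (χ.1 * χ.1) ψ.1 ≠ 0 := by
    intro ψ hψ
    have h0 := (hmem ψ).mp hψ
    rw [ip_sub_left] at h0
    by_cases e : H = ψ
    · rw [← e, hH, H.ip_self, sub_self] at h0
      exact absurd rfl h0
    rw [IrrCharacter.ip_of_ne e, sub_zero] at h0
    refine ⟨fun h' => h0 ?_, h0⟩
    rw [ip_mul_left, hbar]
    have e' : sg η ≠ ψ.1 := fun e' => e (Subtype.ext e')
    rcases hη with rfl | rfl <;> rcases h1 ψ h' with e1 | e1 <;> rw [e1] at e' ⊢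
    · exact absurd sg_one e'
    · rw [sg_one, one_mul, hip]
    · rw [one_mul, hip]
    · exact absurd rfl e'
  have hS := χ.isCharacter.symSq
  have hL := χ.isCharacter.altSq
  set S : G → ℂ := fun g => (χ g ^ 2 + χ (g * g)) / 2 with hSd
  set L : G → ℂ := fun g => (χ g ^ 2 - χ (g * g)) / 2 with hLd
  have hS1 : charDegree S = 21 := charDegree_eq_of_apply_one (by simp [hSd, hχ1]; norm_num)
  have hL1 : charDegree L = 15 := charDegree_eq_of_apply_one (by simp [hLd, hχ1]; norm_num)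
  have hSL : χ.1 * χ.1 = S + L := by
    funext g; simp only [hSd, hLd, Pi.mul_apply, Pi.add_apply]; ring
  have hin : ∀ ψ ∈ s, 15 < charDegree ψ.1 → ip S ψ.1 ≠ 0 := by
    intro ψ hψ h15 h0
    have h2 := (hlin ψ hψ).2
    rw [hSL, ip_add_left, h0, zero_add] at h2
    have := hL.charDegree_le_of_ip_ne_zero ψ h2
    omega
  obtain ⟨t, ht, hεt, ht6, ht14⟩ := ex_t h hε h1
  have hSt : S t = 3 := by simp only [hSd, ht, ht6 χ hχ, hχ1]; norm_num
  have hLt : L t = -3 := by simp only [hLd, ht, ht6 χ hχ, hχ1]; norm_num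
  rcases split35 (fun ψ : IrrCharacter G => charDegree ψ.1) s (fun ψ hψ => by
      have := deg_mem h ψ; have := (hlin ψ hψ).1; omega) (by rw [← hd, hθ1]) with
    ⟨a, ha, ha'⟩ | ⟨a, ha, ha'⟩ | ⟨γ, β, rfl, hγ, hβ⟩ | ⟨γ, β, ξ, rfl, hγ, hβ, hξ⟩
  · have := hS.charDegree_le_of_ip_ne_zero a (hin a ha (by omega))
    omega
  · exfalso
    have h2 := hS.sub_irr a (hin a ha (by omega))
    have h3 : (S - a.1) 1 = 1 := by
      rw [Pi.sub_apply, hS.apply_one, hS1, show a.1 1 = a 1 from rfl, a.apply_one, ha']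
      norm_num
    have h4 : a t = 0 := by
      have e := uniq20 h ha' (b := ⟨_, isIrr_sg_mul ε a⟩) ((charDegree_sg_mul ε a.1).trans ha')
      have e' : a t = sg ε t * a t := congrFun (congrArg Subtype.val e) t
      rw [sg_neg hεt] at e'
      linear_combination (1 / 2) * e'
    rcases h1 ⟨_, h2.isIrr_of_apply_one_eq_one h3⟩
      (charDegree_eq_of_apply_one (by simpa using h3)) with e | e
    · have e' : S t - a t = 1 := congrFun e t
      rw [hSt, h4] at e'
      norm_num at e'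
    · have e' : S t - a t = sg ε t := congrFun e t
      rw [hSt, h4, sg_neg hεt] at e'
      norm_num at e'
  · exfalso
    have hSγ : S = γ.1 := hS.eq_irr_of_charDegree_le γ (hin γ (by simp) (by omega)) (by omega)
    have hLβ : ∀ g, L g = sg η g + β g := by
      intro g
      have e := congrFun hs g
      rw [hSL, hSγ] at e
      simp [H] at e
      linear_combination e
    have hβt := hLβ t
    rw [hLt] at hβt
    rcases hη with rfl | rfl
    · rw [sg_one] at hβt
      exact ht14 β hβ (by simp at hβt; linear_combination -hβt)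
    · refine hard h hε h1 χ β γ hχ hβ hγ hbar (congrFun hSγ) hLβ fun e => ?_
      have e' : sg η t * β t = β t := congrFun e t
      rw [sg_neg hεt] at e' hβt
      have : (4 : ℂ) = 0 := by linear_combination e' - 2 * hβt
      norm_num at this
  · have hξ' : charDegree (sg η * ξ.1) = 6 := (charDegree_sg_mul η ξ.1).trans hξ
    refine typeI_of_mul_star (ε := ε) χ ⟨_, isIrr_sg_mul η ξ⟩ ⟨_, isIrr_sg_mul η β⟩
      ⟨_, isIrr_sg_mul η γ⟩ (a := 6) (by norm_num) hξ' ?_ ?_
      (agree h hε h1 (hχ.trans hξ'.symm) (by omega)) ?_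
    · simp only [charDegree_sg_mul]; omega
    · simp only [charDegree_sg_mul]; omega
    · funext g
      have e := congrFun hs g
      have e2 := congrFun (sg_mul_sg (ε := η) 1) g
      rw [hbar]
      simp [H] at e e2 ⊢
      linear_combination sg η g * e + e2

end Base

end Cfsg.Snd.Seven

namespace Cfsg.Snd

open Equiv Finset

variable {G : Type*} [Group G] [Finite G]

theorem typeI_seven
    (h : DegList G [1, 1, 6, 6, 14, 14, 14, 14, 15, 15, 20, 21, 21, 35, 35]) : TypeI G 7 := by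
  obtain ⟨ε, hε, h1⟩ := Seven.ex_eps h
  obtain ⟨χ, hχ⟩ := Seven.ex_deg h (Or.inl rfl)
  have hd : charDegree χ.1 = charDegree χ.bar.1 :=
    (charDegree_eq_of_apply_one (by
      rw [show χ.bar.1 1 = χ.bar 1 from rfl, IrrCharacter.bar_apply, χ.apply_one]; simp)).symm
  rcases Seven.agree h hε h1 hd (by omega) with e | e
  · exact Seven.main h hε h1 χ hχ 1 (Or.inl rfl) (by rw [Seven.sg_one, one_mul]; exact e)
  · exact Seven.main h hε h1 χ hχ ε (Or.inr rfl) e

end Cfsg.Snd
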