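import Cfsg.Agent.Snd.Tool
import Cfsg.Agent.Char.SimpleLin

/-!
# S4905 for `n = 6` and `n = 8`

**n = 6.** Odd degree gives `ε χ ≠ χ`: the degree 5 characters form two pairs `P₁, P₂`.
`χ χ̄ = 1 + 9 + 5 + 10` or `1 + 9 + 5 + 5 + 5`. Conjugation permutes the (odd number of) constituents
of degree 5, so it does not swap `P₁, P₂`: `χ̄ ∈ {χ, ε χ}`, `χ² = η χ χ̄`. Second case (`kill_five`, in `A`):
`fsInd (φ²) = 5` is the norm of `φ (g²) = 1 + β + a φ + b φ'`, but `3` is not a sum of two squares.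
First case, `ξ` the constituent of degree 5 (real): if `ξ ∈ {χ, ε χ}` use `typeI_of_mul_star`.
Otherwise do the same for `χ' = ξ`: either done, or (renaming) `χ, χ'` are real, `χ² ∋ χ'`,
`χ'² ∋ χ`, and `χ χ' = χ + χ' + (15)` with the rest made of degrees 9, 10, 16.

**n = 8.** `χ` of degree 7, `ε χ ≠ χ`, `φ = χ|A` real, `ν φ = 1`, `χ² = η χ χ̄`.
`χ χ̄ = 1 + 20 + P`, the alternating square `L` (degree 21, no linear constituent) forces
`P = 7 + 21` (`typeI_of_mul_star`), `P = 7⁴` with `L = 7³`, or `P = 7² + 14` with `L = 7 + 14`.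
`7⁴`: for `x` of order 5, `β(x^i) = 0`, so `φ(x)² = 1 + 4 φ(x)`, the same for `x²`, and
`φ(x)² - φ(x²) = 6 φ(x)`: contradiction. `7² + 14`: Frattini gives a 2-element `t ∉ A` normalising
a Sylow 7-subgroup `P`; `y = t²` centralises `P`, so `y ∈ charCenter χ`
(`mem_charCenter_of_defect_zero`, Char/SimpleLin), `φ(y) = ± 7`, and `φ ⊆ φ²` gives `φ(y) = 7`. So
`τ = χ(t)` is an odd integer, `η = 1`, `β(t) = ((τ ∓ 1)² + 4)/2 ≠ 0`, `ψ(t) = ((τ ∓ 1)² - 8)/2 ≠ 0`,
so `β|A, ψ|A` are irreducible, real, and of indicator 1 (`IsOrthChar.fsInd_eq_one_of_odd`):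
`fsInd (φ²) = 5`, but `φ(g²) = 1 + β - ψ` has norm 3.
-/

set_option autoImplicit false
set_option linter.unusedSectionVars false

namespace Cfsg.Snd

open Equiv Finset

variable {G : Type*} [Group G] [Finite G]

namespace Six

variable {ε : G →* ℤˣ}

theorem mem {l : List ℕ} (h : DegList G l) (χ : IrrCharacter G) : charDegree χ.1 ∈ l := by
  obtain ⟨e, he⟩ := h
  rw [he]
  exact List.get_mem _ _

open Classical in
theorem card_deg {l : List ℕ} (h : DegList G l) (d : ℕ) :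
    #{χ : IrrCharacter G | charDegree χ.1 = d} = #{i : Fin l.length | l.get i = d} := by
  obtain ⟨e, he⟩ := h
  refine card_equiv e fun χ => ?_
  simp only [mem_filter, mem_univ, true_and, he]

theorem eps {l : List ℕ} (h : DegList G l) (h2 : #{i : Fin l.length | l.get i = 1} = 2) :
    ∃ ε : G →* ℤˣ, ε ≠ 1 ∧ ∀ χ : IrrCharacter G, charDegree χ.1 = 1 → χ.1 = 1 ∨ χ.1 = sg ε := by
  classical
  have h3 := (card_deg h 1).trans h2
  obtain ⟨a, b, hab, h4⟩ := card_eq_two.1 h3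
  have h5 : ∀ χ : IrrCharacter G, charDegree χ.1 = 1 ↔ χ = a ∨ χ = b := fun χ => by
    have := congrArg (χ ∈ ·) h4
    simpa using this
  refine exists_eps (fun x y z hx hy hz => ?_) ⟨a, b, (h5 a).2 (Or.inl rfl), (h5 b).2 (Or.inr rfl),
    hab⟩
  rcases (h5 x).1 hx with rfl | rfl <;> rcases (h5 y).1 hy with rfl | rfl <;>
    rcases (h5 z).1 hz with rfl | rfl <;> simp

theorem split (s : Multiset (IrrCharacter G)) (d : ℕ) : ∃ s₁ s₂ : Multiset (IrrCharacter G),
    s = s₁ + s₂ ∧ (∀ ψ ∈ s₁, charDegree ψ.1 = d) ∧ (∀ ψ ∈ s₂, charDegree ψ.1 ≠ d) ∧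
      (s₁.map fun χ => charDegree χ.1).sum = d * Multiset.card s₁ := by
  classical
  refine ⟨s.filter (fun ψ => charDegree ψ.1 = d), s.filter (fun ψ => ¬ charDegree ψ.1 = d),
    (Multiset.filter_add_not _ _).symm, fun ψ h => (Multiset.mem_filter.1 h).2,
    fun ψ h => (Multiset.mem_filter.1 h).2, ?_⟩
  rw [Multiset.map_congr rfl (g := fun _ => d) fun ψ h => (Multiset.mem_filter.1 h).2]
  simp [mul_comm]

/-- Decomposition of a character whose constituents have one of four degrees. -/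
theorem dec {θ : G → ℂ} (h : IsCharacter G θ) {a b c d : ℕ}
    (hd : ∀ ψ : IrrCharacter G, ip θ ψ.1 ≠ 0 → charDegree ψ.1 = a ∨ charDegree ψ.1 = b ∨
      charDegree ψ.1 = c ∨ charDegree ψ.1 = d) :
    ∃ s₁ s₂ s₃ s₄ : Multiset (IrrCharacter G),
      θ = (s₁.map (·.1)).sum + (s₂.map (·.1)).sum + (s₃.map (·.1)).sum + (s₄.map (·.1)).sum ∧
      (∀ ψ ∈ s₁, charDegree ψ.1 = a ∧ ip θ ψ.1 ≠ 0) ∧ (∀ ψ ∈ s₂, charDegree ψ.1 = b) ∧
      (∀ ψ ∈ s₃, charDegree ψ.1 = c) ∧ (∀ ψ ∈ s₄, charDegree ψ.1 = d) ∧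
      charDegree θ = a * Multiset.card s₁ + b * Multiset.card s₂ + c * Multiset.card s₃ +
        d * Multiset.card s₄ := by
  obtain ⟨s, h1, h2, h3⟩ := exists_multiset h
  obtain ⟨s₁, t₁, rfl, a1, b1, c1⟩ := split s a
  obtain ⟨s₂, t₂, rfl, a2, b2, c2⟩ := split t₁ b
  obtain ⟨s₃, t₃, rfl, a3, b3, c3⟩ := split t₂ c
  obtain ⟨s₄, t₄, rfl, a4, b4, c4⟩ := split t₃ d
  have h0 : t₄ = 0 := by
    refine Multiset.eq_zero_of_forall_notMem fun ψ hψ => ?_
    have e1 := b1 ψ (by simp [hψ])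
    have e2 := b2 ψ (by simp [hψ])
    have e3 := b3 ψ (by simp [hψ])
    have e4 := b4 ψ hψ
    have e5 := hd ψ ((h3 ψ).1 (by simp [hψ]))
    tauto
  subst h0
  refine ⟨s₁, s₂, s₃, s₄, ?_, fun ψ hψ => ⟨a1 ψ hψ, (h3 ψ).1 (by simp [hψ])⟩, a2, a3, a4, ?_⟩
  · rw [h1]
    simp only [Multiset.map_add, Multiset.sum_add, add_zero, add_assoc]
  · rw [h2]
    simp only [Multiset.map_add, Multiset.sum_add, add_zero, add_assoc, c1, c2, c3, c4]

theorem ip_ne {χ ψ : IrrCharacter G} (h : charDegree χ.1 ≠ charDegree ψ.1) : ip χ.1 ψ.1 = 0 :=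
  IrrCharacter.ip_of_ne fun e => h (e ▸ rfl)

theorem ip_ne' {χ ψ : IrrCharacter G} (h : χ.1 ≠ ψ.1) : ip χ.1 ψ.1 = 0 :=
  IrrCharacter.ip_of_ne fun e => h (e ▸ rfl)

theorem deg_one : charDegree (1 : G → ℂ) = 1 := charDegree_eq_of_apply_one (by simp)

theorem ip_one_right {χ : IrrCharacter G} (h : charDegree χ.1 ≠ 1) : ip χ.1 1 = 0 :=
  ip_ne (ψ := IrrCharacter.one G) fun e => h (e.trans deg_one)

theorem ip_one_left {χ : IrrCharacter G} (h : charDegree χ.1 ≠ 1) : ip 1 χ.1 = 0 :=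
  ip_ne (χ := IrrCharacter.one G) fun e => h (e.symm.trans deg_one)

theorem ip11 : ip (1 : G → ℂ) 1 = 1 := (IrrCharacter.one G).ip_self

theorem sg_sq (ε : G →* ℤˣ) : sg ε * sg ε = 1 := by
  funext g
  rcases Int.units_eq_one_or (ε g) with h | h <;> simp [sg, h]

theorem star_sg (ε : G →* ℤˣ) : star (sg ε) = sg ε := by
  funext g
  simp [sg]

theorem sg_comp (ε : G →* ℤˣ) (χ : G → ℂ) :
    (sg ε * χ) ∘ ε.ker.subtype = χ ∘ ε.ker.subtype := by
  funext a
  have : ε a = 1 := a.2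
  simp [sg, this]

theorem tw (ε : G →* ℤˣ) (χ : IrrCharacter G) : ∃ ψ : IrrCharacter G, ψ.1 = sg ε * χ.1 ∧
    charDegree ψ.1 = charDegree χ.1 :=
  ⟨⟨_, isIrr_sg_mul ε χ⟩, rfl, charDegree_sg_mul ε _⟩

theorem deg_comp (χ : G → ℂ) (A : Subgroup G) : charDegree (χ ∘ A.subtype) = charDegree χ := by
  simp [charDegree]

theorem deg_bar (χ : IrrCharacter G) : charDegree χ.bar.1 = charDegree χ.1 := by
  apply charDegree_eq_of_apply_one
  rw [IrrCharacter.bar_apply, χ.apply_one]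
  simp

theorem bar_val (χ : IrrCharacter G) : χ.bar.1 = star χ.1 := rfl

theorem odd_ne (hε : ε ≠ 1) {χ : IrrCharacter G} (h : Odd (charDegree χ.1)) :
    sg ε * χ.1 ≠ χ.1 := fun e => Nat.not_even_iff_odd.2 h (even_of_sg_mul hε χ e)

theorem res (hε : ε ≠ 1) {χ : IrrCharacter G} (h : sg ε * χ.1 ≠ χ.1) :
    ∃ φ : IrrCharacter ε.ker, φ.1 = χ.1 ∘ ε.ker.subtype ∧ charDegree φ.1 = charDegree χ.1 :=
  ⟨⟨_, isIrr_comp_ker hε χ h⟩, rfl, deg_comp _ _⟩

theorem deg_sub {θ : G → ℂ} (h : IsCharacter G θ) {χ : IrrCharacter G} (hχ : ip θ χ.1 ≠ 0) :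
    charDegree (θ - χ.1) + charDegree χ.1 = charDegree θ := by
  rw [← (h.sub_irr χ hχ).charDegree_add_B χ.isCharacter, sub_add_cancel]

theorem deg_mul {θ φ : G → ℂ} (h : IsCharacter G θ) (h' : IsCharacter G φ) :
    charDegree (θ * φ) = charDegree θ * charDegree φ :=
  charDegree_eq_of_apply_one (by rw [Pi.mul_apply, h.apply_one, h'.apply_one]; simp)

theorem ip_bar {θ : G → ℂ} (h : star θ = θ) (ψ : G → ℂ) :
    ip θ (star ψ) = starRingEnd ℂ (ip θ ψ) := by
  rw [conj_ip, ← ip_star_star θ ψ, h]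

theorem norm_ne_three (φ φ' : IrrCharacter G) (a b : ℤ) :
    ip ((a : ℂ) • φ.1 + (b : ℂ) • φ'.1) ((a : ℂ) • φ.1 + (b : ℂ) • φ'.1) ≠ 3 := by
  intro h
  simp only [ip_add_left, ip_add_right, ip_smul_left, ip_smul_right, IrrCharacter.ip_self,
    map_intCast] at h
  have sq : ∀ x : ℤ, x * x % 4 = 0 ∨ x * x % 4 = 1 := fun x => by
    have : x % 4 = 0 ∨ x % 4 = 1 ∨ x % 4 = 2 ∨ x % 4 = 3 := by omega
    rcases this with e | e | e | e <;> simp [Int.mul_emod, e]
  by_cases e : φ = φ'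
  · subst e
    rw [φ.ip_self] at h
    have h1 : (a + b) * (a + b) = 3 := by
      have : (((a + b) * (a + b) : ℤ) : ℂ) = 3 := by push_cast; linear_combination h
      exact_mod_cast this
    have := sq (a + b)
    omega
  · rw [IrrCharacter.ip_of_ne e, IrrCharacter.ip_of_ne (Ne.symm e)] at h
    have h1 : a * a + b * b = 3 := by
      have : ((a * a + b * b : ℤ) : ℂ) = 3 := by push_cast; linear_combination h
      exact_mod_cast this
    have := sq a
    have := sq b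
    omega

/-- The alternating square of a character of indicator one has no trivial constituent. -/
theorem ip_alt {φ : IrrCharacter G} (hr : ∀ g, (φ g).im = 0) (h : fsInd φ.1 = 1) :
    ip (fun g => (φ.1 g ^ 2 - φ.1 (g * g)) / 2) 1 = 0 ∧
    ip (fun g => (φ.1 g ^ 2 + φ.1 (g * g)) / 2) 1 = 1 := by
  have h1 : ip (φ.1 * φ.1) 1 = 1 := by
    rw [ip_mul_left, one_mul, im_eq_zero_iff_star_eq.1 hr, φ.ip_self]
  have h2 : ip (fun g => φ.1 (g * g)) 1 = 1 := by rw [← h, fsInd_eq_ip]; rfl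
  have e1 : (fun g => (φ.1 g ^ 2 - φ.1 (g * g)) / 2) =
      (1 / 2 : ℂ) • (φ.1 * φ.1 - fun g => φ.1 (g * g)) := by
    funext g; simp; ring
  have e2 : (fun g => (φ.1 g ^ 2 + φ.1 (g * g)) / 2) =
      (1 / 2 : ℂ) • (φ.1 * φ.1 + fun g => φ.1 (g * g)) := by
    funext g; simp; ring
  rw [e1, e2, ip_smul_left, ip_smul_left, ip_sub_left, ip_add_left, h1, h2]
  norm_num

/-- The case `φ φ̄ = 1 + 9 + 5 + 5 + 5` is impossible (in the subgroup of index two). -/
theorem kill_five {φ φ' b x₁ x₂ x₃ : IrrCharacter G} (h5 : charDegree φ.1 = 5)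
    (h5' : charDegree φ'.1 = 5) (h9 : charDegree b.1 = 9)
    (hb : φ.bar = φ ∨ φ.bar = φ') (hb' : φ'.bar = φ ∨ φ'.bar = φ')
    (h₁ : x₁ = φ ∨ x₁ = φ') (h₂ : x₂ = φ ∨ x₂ = φ') (h₃ : x₃ = φ ∨ x₃ = φ')
    (h : φ.1 * star φ.1 = 1 + b.1 + x₁.1 + x₂.1 + x₃.1) : False := by
  have hr : φ.bar = φ := by
    by_contra hn
    have e := hb.resolve_left hn
    have hne : φ ≠ φ' := fun e' => hn (e.trans e'.symm)
    have e1 : star (φ.1 * star φ.1) = φ.1 * star φ.1 := by rw [star_mul, star_star]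
    have e2 : ip (φ.1 * star φ.1) φ'.1 = starRingEnd ℂ (ip (φ.1 * star φ.1) φ.1) := by
      rw [← e, bar_val, ip_bar e1]
    rw [h] at e2
    simp only [ip_add_left] at e2
    rw [ip_one_left (by omega), ip_one_left (by omega), ip_ne (χ := b) (by omega),
      ip_ne (χ := b) (by omega)] at e2
    have p1 := IrrCharacter.ip_of_ne hne
    have p2 := IrrCharacter.ip_of_ne hne.symm
    rcases h₁ with rfl | rfl <;> rcases h₂ with h₂ | h₂ <;> rcases h₃ with h₃ | h₃ <;>
      simp only [h₂, h₃, p1, p2, IrrCharacter.ip_self, map_add, map_one, map_zero] at e2 <;>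
      norm_num at e2
  have hr' : φ'.bar = φ' := by
    rcases hb' with e | e
    · have : φ' = φ := by rw [← φ'.bar_bar_eq, e, hr]
      rw [this, hr]
    · exact e
  have r1 := φ.real_iff_bar_eq.2 hr
  have r2 := φ'.real_iff_bar_eq.2 hr'
  have n1 := IrrCharacter.fsInd_eq_one_of_odd r1 (by rw [h5]; decide)
  have n2 := IrrCharacter.fsInd_eq_one_of_odd r2 (by rw [h5']; decide)
  rw [im_eq_zero_iff_star_eq.1 r1] at h
  have hx : ∀ x : IrrCharacter G, x = φ ∨ x = φ' → (∀ g, (x g).im = 0) ∧ fsInd x.1 = 1 ∧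
      ∃ a a' : ℤ, x.1 = (a : ℂ) • φ.1 + (a' : ℂ) • φ'.1 := by
    rintro x (rfl | rfl)
    · exact ⟨r1, n1, 1, 0, by simp⟩
    · exact ⟨r2, n2, 0, 1, by simp⟩
  obtain ⟨q1, m1, a1, c1, u1⟩ := hx _ h₁
  obtain ⟨q2, m2, a2, c2, u2⟩ := hx _ h₂
  obtain ⟨q3, m3, a3, c3, u3⟩ := hx _ h₃
  have r3 : ∀ g, (b g).im = 0 := fun g => by
    have := congrArg Complex.im (congrFun h g)
    simpa [r1 g, q1 g, q2 g, q3 g] using this.symm
  have n3 := IrrCharacter.fsInd_eq_one_of_odd r3 (by rw [h9]; decide)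
  have hfs : fsInd (φ.1 * φ.1) = 5 := by
    rw [h, fsInd_add, fsInd_add, fsInd_add, fsInd_add, n3, m1, m2, m3,
      show fsInd (1 : G → ℂ) = 1 from fsInd_one]
    norm_num
  have hL := φ.isCharacter.altSq
  have hS := φ.isCharacter.symSq
  have hL1 := (ip_alt r1 n1).1
  set L : G → ℂ := fun g => (φ.1 g ^ 2 - φ.1 (g * g)) / 2 with hLdef
  set S : G → ℂ := fun g => (φ.1 g ^ 2 + φ.1 (g * g)) / 2 with hSdef
  have hSL : S + L = φ.1 * φ.1 := by
    funext g; simp only [hLdef, hSdef, Pi.add_apply, Pi.mul_apply]; ring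
  have hdL : charDegree L = 10 := charDegree_eq_of_apply_one (by
    simp only [hLdef, mul_one, φ.apply_one, h5]; norm_num)
  have hcon : ∀ ψ : IrrCharacter G, ip L ψ.1 ≠ 0 → ψ = b ∨ ψ = φ ∨ ψ = φ' := by
    intro ψ hψ
    by_contra hn
    push Not at hn
    obtain ⟨k, hk⟩ := hL.exists_ip_eq_nat ψ.isCharacter
    obtain ⟨k', hk'⟩ := hS.exists_ip_eq_nat ψ.isCharacter
    have e0 : ∀ x : IrrCharacter G, x = φ ∨ x = φ' → ip x.1 ψ.1 = 0 := by
      rintro x (rfl | rfl)
      · exact IrrCharacter.ip_of_ne hn.2.1.symm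
      · exact IrrCharacter.ip_of_ne hn.2.2.symm
    have e1 : ip (1 : G → ℂ) ψ.1 = 0 := by
      refine IrrCharacter.ip_of_ne (χ := IrrCharacter.one G) ?_
      rintro rfl
      exact hψ hL1
    have e2 : ip (S + L) ψ.1 = 0 := by
      rw [hSL, h]
      simp only [ip_add_left, e1, e0 _ h₁, e0 _ h₂, e0 _ h₃, IrrCharacter.ip_of_ne hn.1.symm,
        add_zero]
    rw [ip_add_left, hk, hk'] at e2
    have e3 : k' + k = 0 := by exact_mod_cast e2
    apply hψ
    rw [hk, show k = 0 by omega, Nat.cast_zero]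
  obtain ⟨s₁, s₂, s₃, s₄, d0, d1, -, -, -, d5⟩ := dec hL (a := 5) (b := 9) (c := 9) (d := 9)
    (fun ψ hψ => by rcases hcon ψ hψ with rfl | rfl | rfl <;> simp [*])
  rw [hdL] at d5
  obtain ⟨y₁, y₂, rfl⟩ := Multiset.card_eq_two.1 (show Multiset.card s₁ = 2 by omega)
  obtain rfl := Multiset.card_eq_zero.1 (show Multiset.card s₂ = 0 by omega)
  obtain rfl := Multiset.card_eq_zero.1 (show Multiset.card s₃ = 0 by omega)
  obtain rfl := Multiset.card_eq_zero.1 (show Multiset.card s₄ = 0 by omega)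
  have hy : ∀ y ∈ ({y₁, y₂} : Multiset (IrrCharacter G)), y = φ ∨ y = φ' := fun y hy => by
    refine (hcon y (d1 y hy).2).resolve_left ?_
    rintro rfl
    have := (d1 y hy).1
    omega
  obtain ⟨-, -, a4, c4, u4⟩ := hx _ (hy y₁ (by simp))
  obtain ⟨-, -, a5, c5, u5⟩ := hx _ (hy y₂ (by simp))
  simp only [Multiset.insert_eq_cons, Multiset.map_cons, Multiset.map_singleton, Multiset.sum_cons,
    Multiset.sum_singleton, Multiset.map_zero, Multiset.sum_zero, add_zero] at d0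
  set D : G → ℂ := ((a1 + a2 + a3 - 2 * a4 - 2 * a5 : ℤ) : ℂ) • φ.1 +
    ((c1 + c2 + c3 - 2 * c4 - 2 * c5 : ℤ) : ℂ) • φ'.1 with hD
  have hψ : (fun g => φ.1 (g * g)) = 1 + b.1 + D := by
    funext g
    have v0 := congrFun h g
    have v1 := congrFun d0 g
    rw [u1, u2, u3] at v0
    rw [u4, u5] at v1
    simp only [hLdef, hD, Pi.add_apply, Pi.mul_apply, Pi.smul_apply, smul_eq_mul,
      Pi.one_apply] at v0 v1 ⊢
    push_cast
    linear_combination v0 - 2 * v1
  rw [fsInd_mul_self r1, hψ] at hfs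
  have z1 : ip D 1 = 0 := by
    rw [hD, ip_add_left, ip_smul_left, ip_smul_left, ip_one_right (by omega),
      ip_one_right (by omega)]; simp
  have z2 : ip D b.1 = 0 := by
    rw [hD, ip_add_left, ip_smul_left, ip_smul_left, ip_ne (by omega), ip_ne (by omega)]; simp
  have z3 : ip 1 D = 0 := by rw [← conj_ip, z1, map_zero]
  have z4 : ip b.1 D = 0 := by rw [← conj_ip, z2, map_zero]
  simp only [ip_add_left (1 + b.1) D, ip_add_right _ (1 + b.1) D, ip_add_left 1 b.1,
    ip_add_right _ 1 b.1, z1, z2, z3, z4, ip11, b.ip_self,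
    ip_one_left (χ := b) (by omega), ip_one_right (χ := b) (by omega)] at hfs
  exact norm_ne_three φ φ' _ _ (by linear_combination hfs)

theorem four (h : DegList G [1, 1, 5, 5, 5, 5, 9, 9, 10, 10, 16]) (hε : ε ≠ 1)
    {χ ξ : IrrCharacter G} (h1 : charDegree χ.1 = 5) (h2 : charDegree ξ.1 = 5)
    (h3 : ξ.1 ≠ χ.1) (h4 : ξ.1 ≠ sg ε * χ.1) (ψ : IrrCharacter G) (h5 : charDegree ψ.1 = 5) :
    ψ.1 = χ.1 ∨ ψ.1 = sg ε * χ.1 ∨ ψ.1 = ξ.1 ∨ ψ.1 = sg ε * ξ.1 := by
  classical
  by_contra hn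
  push Not at hn
  obtain ⟨n1, n2, n3, n4⟩ := hn
  obtain ⟨χ', a1, a2⟩ := tw ε χ
  obtain ⟨ξ', b1, b2⟩ := tw ε ξ
  have c1 := odd_ne hε (χ := χ) (by rw [h1]; decide)
  have c2 := odd_ne hε (χ := ξ) (by rw [h2]; decide)
  have c3 : sg ε * ξ.1 ≠ χ.1 := fun e => h4 (by rw [← e, ← mul_assoc, sg_sq, one_mul])
  have c4 : sg ε * ξ.1 ≠ sg ε * χ.1 := fun e => h3 (by
    rw [← one_mul ξ.1, ← sg_sq ε, mul_assoc, e, ← mul_assoc, sg_sq, one_mul])
  have hc := (card_deg h 5).trans (show _ = 4 by decide)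
  have hs : ({ψ, ξ', ξ, χ', χ} : Finset (IrrCharacter G)) ⊆
      univ.filter (fun χ : IrrCharacter G => charDegree χ.1 = 5) := by
    intro x hx
    simp only [mem_insert, mem_singleton] at hx
    rw [mem_filter]
    rcases hx with rfl | rfl | rfl | rfl | rfl <;> exact ⟨mem_univ _, by omega⟩
  have := card_le_card hs
  rw [← a1] at n2 h4 c1 c4
  rw [← b1] at n4 c2 c3 c4
  have ne : ∀ {x y : IrrCharacter G}, x.1 ≠ y.1 → x ≠ y := fun h e => h (e ▸ rfl)
  rw [hc, card_insert_of_notMem (by simp [ne n1, ne n2, ne n3, ne n4]),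
    card_insert_of_notMem (by simp [ne c2, ne c3, ne c4]),
    card_insert_of_notMem (by simp [ne h3, ne h4]),
    card_insert_of_notMem (by simp [ne c1]), card_singleton] at this
  omega

theorem mul_star_six (h : DegList G [1, 1, 5, 5, 5, 5, 9, 9, 10, 10, 16]) (hε : ε ≠ 1)
    (hl : ∀ χ : IrrCharacter G, charDegree χ.1 = 1 → χ.1 = 1 ∨ χ.1 = sg ε)
    (χ : IrrCharacter G) (h5 : charDegree χ.1 = 5) : ∃ ξ β γ : IrrCharacter G,
      charDegree ξ.1 = 5 ∧ charDegree β.1 = 9 ∧ charDegree γ.1 = 10 ∧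
        χ.1 * star χ.1 = 1 + ξ.1 + β.1 + γ.1 := by
  classical
  have hθ := χ.isCharacter.mul χ.isCharacter.star
  have c1 := odd_ne hε (χ := χ) (by rw [h5]; decide)
  obtain ⟨χ₁, a1, a2⟩ := tw ε χ
  have i1 : ip (χ.1 * star χ.1) 1 = 1 := by rw [ip_mul_left, star_star, one_mul, χ.ip_self]
  have i2 : ip (χ.1 * star χ.1) (sg ε) = 0 := by
    rw [ip_mul_left, star_star, ← a1]
    exact ip_ne' (a1 ▸ c1.symm)
  have i3 : ip (χ.1 * star χ.1) (IrrCharacter.one G).1 ≠ 0 := by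
    show ip _ 1 ≠ 0
    rw [i1]; exact one_ne_zero
  have hθ' := hθ.sub_irr _ i3
  have hd := deg_sub hθ i3
  rw [deg_mul χ.isCharacter χ.isCharacter.star, ← bar_val, deg_bar, h5,
    show charDegree (IrrCharacter.one G).1 = 1 from deg_one, bar_val] at hd
  obtain ⟨s₁, s₂, s₃, s₄, d0, d1, d2, d3, -, d5⟩ := dec hθ' (a := 5) (b := 9) (c := 10) (d := 16)
    (fun ψ hψ => by
      have hm := mem h ψ
      have : charDegree ψ.1 ≠ 1 := fun e => hψ (by
        rw [ip_sub_left]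
        rcases hl ψ e with e' | e'
        · rw [e', i1]
          show 1 - ip 1 1 = 0
          rw [ip11, sub_self]
        · rw [IrrCharacter.ip_of_ne, e', i2, sub_self]
          rintro rfl
          apply c1
          rw [← e']
          exact one_mul _)
      simp only [List.mem_cons, List.not_mem_nil, or_false] at hm
      omega)
  have d6 : 24 = 5 * Multiset.card s₁ + 9 * Multiset.card s₂ + 10 * Multiset.card s₃ +
    16 * Multiset.card s₄ := by omega
  obtain rfl := Multiset.card_eq_zero.1 (show Multiset.card s₄ = 0 by omega)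
  obtain ⟨β, rfl⟩ := Multiset.card_eq_one.1 (show Multiset.card s₂ = 1 by omega)
  have hβ := d2 β (by simp)
  rw [sub_eq_iff_eq_add'] at d0
  rcases (show Multiset.card s₃ = 1 ∨ Multiset.card s₃ = 0 by omega) with e | e
  · obtain ⟨γ, rfl⟩ := Multiset.card_eq_one.1 e
    obtain ⟨ξ, rfl⟩ := Multiset.card_eq_one.1
      (show Multiset.card s₁ = 1 by simp at d6; omega)
    refine ⟨ξ, β, γ, (d1 ξ (by simp)).1, hβ, d3 γ (by simp), ?_⟩
    rw [d0]
    simp only [Multiset.map_singleton, Multiset.sum_singleton, Multiset.map_zero,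
      Multiset.sum_zero, add_zero, add_assoc]
    rfl
  · exfalso
    obtain rfl := Multiset.card_eq_zero.1 e
    obtain ⟨y₁, y₂, y₃, rfl⟩ := Multiset.card_eq_three.1
      (show Multiset.card s₁ = 3 by simp at d6; omega)
    have hc := (card_deg h 5).trans (show _ = 4 by decide)
    obtain ⟨χ', b1, b2⟩ := exists_mem_notMem_of_card_lt_card (s := {χ, χ₁})
      (t := {χ : IrrCharacter G | charDegree χ.1 = 5}) (by rw [hc]; exact lt_of_le_of_lt card_le_two (by norm_num))
    have b3 : charDegree χ'.1 = 5 := by simpa using b1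
    simp only [mem_insert, mem_singleton, not_or] at b2
    have h4 := four h hε h5 b3 (fun e => b2.1 (Subtype.ext e))
      (fun e => b2.2 (Subtype.ext (e.trans a1.symm)))
    obtain ⟨φ, p1, p2⟩ := res hε c1
    obtain ⟨φ', q1, q2⟩ := res hε (odd_ne hε (χ := χ') (by rw [b3]; decide))
    obtain ⟨b, r1, r2⟩ := res hε (odd_ne hε (χ := β) (by rw [hβ]; decide))
    have hres : ∀ ψ : IrrCharacter G, charDegree ψ.1 = 5 →
        ψ.1 ∘ ε.ker.subtype = φ.1 ∨ ψ.1 ∘ ε.ker.subtype = φ'.1 := fun ψ hψ => by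
      rcases h4 ψ hψ with e | e | e | e <;> simp only [e, sg_comp, p1, q1, true_or, or_true]
    have hres' : ∀ ψ : IrrCharacter G, charDegree ψ.1 = 5 → ∃ x : IrrCharacter ε.ker,
        (x = φ ∨ x = φ') ∧ x.1 = ψ.1 ∘ ε.ker.subtype := fun ψ hψ => by
      rcases hres ψ hψ with e | e
      · exact ⟨φ, Or.inl rfl, e.symm⟩
      · exact ⟨φ', Or.inr rfl, e.symm⟩
    obtain ⟨x₁, u1, v1⟩ := hres' y₁ (d1 y₁ (by simp)).1
    obtain ⟨x₂, u2, v2⟩ := hres' y₂ (d1 y₂ (by simp)).1
    obtain ⟨x₃, u3, v3⟩ := hres' y₃ (d1 y₃ (by simp)).1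
    refine kill_five (b := b) (p2.trans h5) (q2.trans b3) (r2.trans hβ) ?_ ?_ u1 u2 u3 ?_
    · refine (hres χ.bar ((deg_bar χ).trans h5)).imp (fun e => Subtype.ext ?_)
        (fun e => Subtype.ext ?_) <;>
      · rw [← e, bar_val, bar_val, p1]; rfl
    · refine (hres χ'.bar ((deg_bar χ').trans b3)).imp (fun e => Subtype.ext ?_)
        (fun e => Subtype.ext ?_) <;>
      · rw [← e, bar_val, bar_val, q1]; rfl
    · rw [p1, r1, v1, v2, v3]
      funext a
      have := congrFun d0 (a : G)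
      simp only [Multiset.insert_eq_cons, Multiset.map_cons, Multiset.map_singleton,
        Multiset.sum_cons, Multiset.sum_singleton, Multiset.map_zero, Multiset.sum_zero, add_zero,
        Pi.add_apply, Pi.mul_apply, Pi.star_apply, IrrCharacter.one_apply] at this
      simp only [Pi.add_apply, Pi.mul_apply, Pi.star_apply, Function.comp_apply, Pi.one_apply,
        Subgroup.coe_subtype]
      rw [this]; ring

end Six

open Six

theorem typeI_six (h : DegList G [1, 1, 5, 5, 5, 5, 9, 9, 10, 10, 16]) : TypeI G 6 := by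
  classical
  obtain ⟨ε, hε, hl⟩ := eps h (by decide)
  obtain ⟨χ₀, h0⟩ : ∃ χ₀ : IrrCharacter G, charDegree χ₀.1 = 5 := by
    have hc := (card_deg h 5).trans (show _ = 4 by decide)
    obtain ⟨χ, hχ⟩ := card_pos.1 (hc ▸ by norm_num : 0 < #{χ : IrrCharacter G | charDegree χ.1 = 5})
    exact ⟨χ, by simpa using hχ⟩
  obtain ⟨ξ, β, γ, a1, a2, a3, a4⟩ := mul_star_six h hε hl χ₀ h0
  by_cases c1 : ξ.1 = χ₀.1 ∨ ξ.1 = sg ε * χ₀.1
  · exact typeI_of_mul_star χ₀ ξ β γ (a := 5) (by norm_num) a1 (by omega) (by omega) c1 a4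
  obtain ⟨χ, β', γ', b1, b2, b3, b4⟩ := mul_star_six h hε hl ξ a1
  by_cases c2 : χ.1 = ξ.1 ∨ χ.1 = sg ε * ξ.1
  · exact typeI_of_mul_star ξ χ β' γ' (a := 5) (by norm_num) b1 (by omega) (by omega) c2 b4
  exfalso
  push Not at c1 c2
  have h4 := four h hε h0 a1 c1.1 c1.2
  have a5 : χ.1 * star χ.1 = 1 + ξ.1 + β.1 + γ.1 := by
    rw [← a4]
    rcases h4 χ b1 with e | e | e | e
    · rw [e]
    · rw [e, star_mul, star_sg]
      linear_combination (exp := 1) (χ₀.1 * star χ₀.1) * sg_sq ε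
    · exact absurd e c2.1
    · exact absurd e c2.2
  have c3 : ξ.1 ≠ sg ε * χ.1 := fun e => c2.2 (by rw [e, ← mul_assoc, sg_sq, one_mul])
  have h4' := four h hε b1 a1 (Ne.symm c2.1) c3
  have hr : star ξ.1 = ξ.1 := by
    have e1 : star (χ.1 * star χ.1) = χ.1 * star χ.1 := by rw [star_mul, star_star]
    have e2 : ip (χ.1 * star χ.1) ξ.bar.1 = starRingEnd ℂ (ip (χ.1 * star χ.1) ξ.1) := by
      rw [bar_val, ip_bar e1]
    have e3 := deg_bar ξ
    rw [a5] at e2
    simp only [ip_add_left] at e2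
    rw [ip_one_left (by omega), ip_one_left (by omega), ip_ne (χ := β) (by omega),
      ip_ne (χ := β) (by omega), ip_ne (χ := γ) (by omega), ip_ne (χ := γ) (by omega),
      ξ.ip_self] at e2
    by_contra hn
    rw [ip_ne' (fun e => hn ((bar_val ξ).symm.trans e.symm))] at e2
    simp at e2
  obtain ⟨χ', p1, p2⟩ := tw ε χ
  obtain ⟨ξ', q1, q2⟩ := tw ε ξ
  obtain ⟨β₁, r1, r2⟩ := tw ε β
  obtain ⟨γ₁, s1, s2⟩ := tw ε γ
  obtain ⟨β₂, t1, t2⟩ := tw ε β'
  obtain ⟨γ₂, u1, u2⟩ := tw ε γ'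
  obtain ⟨o, v1, v2⟩ := tw ε (IrrCharacter.one G)
  have v3 : charDegree o.1 = 1 := v2.trans deg_one
  have v4 : o.1 = sg ε := v1.trans (mul_one _)
  have o1 := odd_ne hε (χ := χ) (by rw [b1]; decide)
  have o2 := odd_ne hε (χ := ξ) (by rw [a1]; decide)
  have hP := χ.isCharacter.mul ξ.isCharacter
  have i1 : ip (χ.1 * ξ.1) χ.1 = 1 := by
    rw [mul_comm, ip_mul_left, a5]
    simp only [ip_add_right]
    rw [ip_one_right (by omega), ξ.ip_self, ip_ne (by omega), ip_ne (by omega)]; simp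
  have i2 : ip (χ.1 * ξ.1) χ'.1 = 0 := by
    rw [mul_comm, ip_mul_left, p1, mul_assoc, a5, mul_add, mul_add, mul_add, mul_one, ← q1, ← r1,
      ← s1, ← v4]
    simp only [ip_add_right]
    rw [ip_ne (by omega), ip_ne' (q1 ▸ o2.symm), ip_ne (by omega), ip_ne (by omega)]; simp
  have i3 : ip (χ.1 * ξ.1) ξ.1 = 1 := by
    rw [ip_mul_left, b4]
    simp only [ip_add_right]
    rw [ip_one_right (by omega), χ.ip_self, ip_ne (by omega), ip_ne (by omega)]; simp
  have i4 : ip (χ.1 * ξ.1) ξ'.1 = 0 := by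
    rw [ip_mul_left, q1, mul_assoc, b4, mul_add, mul_add, mul_add, mul_one, ← p1, ← t1,
      ← u1, ← v4]
    simp only [ip_add_right]
    rw [ip_ne (by omega), ip_ne' (p1 ▸ o1.symm), ip_ne (by omega), ip_ne (by omega)]; simp
  have i5 : ip (χ.1 * ξ.1) 1 = 0 := by
    rw [ip_mul_left, one_mul, hr]; exact ip_ne' c2.1
  have i6 : ip (χ.1 * ξ.1) o.1 = 0 := by
    rw [ip_mul_left, v4, hr, ← q1]; exact ip_ne' (q1 ▸ c2.2)
  have j1 : ip (χ.1 * ξ.1) χ.1 ≠ 0 := by rw [i1]; exact one_ne_zero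
  have hP1 := hP.sub_irr χ j1
  have j2 : ip (χ.1 * ξ.1 - χ.1) ξ.1 ≠ 0 := by
    rw [ip_sub_left, i3, ip_ne' c2.1]; simp
  have hP2 := hP1.sub_irr ξ j2
  have d1 := deg_sub hP j1
  have d2 := deg_sub hP1 j2
  rw [deg_mul χ.isCharacter ξ.isCharacter] at d1
  obtain ⟨s₁, s₂, s₃, s₄, -, -, -, -, -, d5⟩ := dec hP2 (a := 9) (b := 10) (c := 16) (d := 16)
    (fun ψ hψ => by
      have hm := mem h ψ
      have e1 : charDegree ψ.1 ≠ 1 := fun e => hψ (by
        rw [ip_sub_left, ip_sub_left, ip_ne (χ := χ) (by omega), ip_ne (χ := ξ) (by omega)]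
        rcases hl ψ e with e' | e'
        · rw [e', i5]; simp
        · rw [e', ← v4, i6]; simp)
      have e5 : charDegree ψ.1 ≠ 5 := fun e => hψ (by
        rw [ip_sub_left, ip_sub_left]
        rcases h4' ψ e with e' | e' | e' | e'
        · rw [e', i1, χ.ip_self, ip_ne' (Ne.symm c2.1)]; simp
        · rw [e', ← p1, i2, ip_ne' (p1 ▸ o1.symm), ip_ne' (p1 ▸ c3)]; simp
        · rw [e', i3, ξ.ip_self, ip_ne' c2.1]; simp
        · rw [e', ← q1, i4, ip_ne' (q1 ▸ c2.2), ip_ne' (q1 ▸ o2.symm)]; simp)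
      simp only [List.mem_cons, List.not_mem_nil, or_false] at hm
      omega)
  rw [a1, b1] at d1
  have d6 : 15 = 9 * Multiset.card s₁ + 10 * Multiset.card s₂ + 16 * Multiset.card s₃ +
    16 * Multiset.card s₄ := by omega
  have d7 : Multiset.card s₃ = 0 := by omega
  have d8 : Multiset.card s₄ = 0 := by omega
  have d9 : Multiset.card s₂ = 0 ∨ Multiset.card s₂ = 1 := by omega
  omega

namespace Six

variable {ε : G →* ℤˣ}

theorem lin_zero (hε : ε ≠ 1)
    (hl : ∀ χ : IrrCharacter G, charDegree χ.1 = 1 → χ.1 = 1 ∨ χ.1 = sg ε) {θ : G → ℂ}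
    (h : IsCharacter G θ) (h0 : ip (θ ∘ ε.ker.subtype) 1 = 0) (μ : IrrCharacter G)
    (hμ : charDegree μ.1 = 1) : ip θ μ.1 = 0 := by
  have e := ip_ker hε θ 1
  obtain ⟨o, v1, -⟩ := tw ε (IrrCharacter.one G)
  obtain ⟨a, ha⟩ := h.exists_ip_eq_nat (IrrCharacter.one G).isCharacter
  obtain ⟨b, hb⟩ := h.exists_ip_eq_nat o.isCharacter
  have ha' : ip θ 1 = a := ha
  have hb' : ip θ (sg ε * 1) = b := by rw [← hb, v1]; rfl
  rw [show (1 : G → ℂ) ∘ ε.ker.subtype = 1 from rfl, h0, ha', hb'] at e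
  have e' : 0 = a + b := by exact_mod_cast e
  rcases hl μ hμ with e1 | e1
  · rw [e1, ha', show a = 0 by omega, Nat.cast_zero]
  · rw [e1, ← mul_one (sg ε), hb', show b = 0 by omega, Nat.cast_zero]

theorem lin_one (hε : ε ≠ 1) {θ : G → ℂ} (h1 : ip (θ ∘ ε.ker.subtype) 1 = 1) :
    ∃ μ : IrrCharacter G, charDegree μ.1 = 1 ∧ ip θ μ.1 ≠ 0 := by
  have e := ip_ker hε θ 1
  obtain ⟨o, v1, v2⟩ := tw ε (IrrCharacter.one G)
  rw [show (1 : G → ℂ) ∘ ε.ker.subtype = 1 from rfl, h1] at e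
  by_contra hn
  push Not at hn
  have a1 : ip θ 1 = 0 := hn (IrrCharacter.one G) deg_one
  have a2 : ip θ (sg ε * 1) = 0 := by
    have := hn o (v2.trans deg_one)
    rw [v1] at this
    exact this
  rw [a1, a2] at e
  simp at e

theorem eps_odd (ε : G →* ℤˣ) {x : G} {k : ℕ} (hk : Odd k) (hx : x ^ k = 1) : ε x = 1 := by
  have := congrArg ε hx
  rw [map_pow, map_one] at this
  rcases Int.units_eq_one_or (ε x) with h | h
  · exact h
  · rw [h, hk.neg_one_pow] at this
    exact absurd this (by decide)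

/-- An element outside `ker ε` whose square centralises a Sylow 7-subgroup and is 7-regular. -/
theorem exists_t (hε : ε ≠ 1) (hG : Nat.card G = 40320) : ∃ (t : G) (P : Subgroup G),
    ε t = -1 ∧ IsPGroup 7 P ∧ Nat.card P = 7 ∧ IsPRegular 7 (t * t) ∧
      ∀ a ∈ P, Commute (t * t) a := by
  haveI : Fact (Nat.Prime 7) := ⟨by norm_num⟩
  obtain ⟨P⟩ : Nonempty (Sylow 7 G) := inferInstance
  have hP : Nat.card P = 7 := by
    rw [P.card_eq_multiplicity, hG]
    have : (40320 : ℕ).factorization 7 = 1 := by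
      rw [show (40320 : ℕ) = 7 * 5760 by norm_num, Nat.factorization_mul (by norm_num) (by norm_num)]
      simp [Nat.Prime.factorization (show Nat.Prime 7 by norm_num),
        Nat.factorization_eq_zero_of_not_dvd (show ¬ 7 ∣ 5760 by norm_num)]
    rw [this, pow_one]
  have hle : (P : Subgroup G) ≤ ε.ker := fun x hx => by
    refine eps_odd ε (k := 7) (by decide) ?_
    have := pow_card_eq_one' (x := (⟨x, hx⟩ : (P : Subgroup G)))
    rw [hP] at this
    exact congrArg Subtype.val this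
  have hsup := P.normalizer_sup_eq_top' hle
  obtain ⟨n, hn, hn'⟩ : ∃ n ∈ Subgroup.normalizer (P : Set G), n ∉ ε.ker := by
    by_contra hc
    push Not at hc
    rw [sup_eq_right.2 (show Subgroup.normalizer (P : Set G) ≤ ε.ker from hc)] at hsup
    apply hε
    ext g
    have : g ∈ ε.ker := hsup ▸ Subgroup.mem_top g
    rw [MonoidHom.mem_ker] at this
    simp [this]
  have hεn : ε n = -1 := (Int.units_eq_one_or (ε n)).resolve_left hn'
  haveI : IsCyclic (P : Subgroup G) := isCyclic_of_prime_card hP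
  have h6 : n ^ 6 ∈ Subgroup.centralizer ((P : Subgroup G) : Set G) := by
    have h1 : (⟨n, hn⟩ : Subgroup.normalizer ((P : Subgroup G) : Set G)) ^ 6 ∈
        (P : Subgroup G).normalizerMonoidHom.ker := by
      rw [MonoidHom.mem_ker, map_pow]
      have h2 : Nat.card (MulAut (P : Subgroup G)) = 6 := by
        rw [IsCyclic.card_mulAut, hP]; decide
      rw [← h2]
      exact pow_card_eq_one'
    rw [Subgroup.normalizerMonoidHom_ker] at h1
    exact h1
  refine ⟨n ^ 21, P, by rw [map_pow, hεn]; decide, P.isPGroup', hP, ?_, fun a ha => ?_⟩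
  · intro hd
    have h1 : (n ^ 21 * n ^ 21) ^ 5760 = 1 := by
      rw [← pow_add, ← pow_mul, show (21 + 21) * 5760 = 40320 * 6 by norm_num, pow_mul, ← hG,
        pow_card_eq_one', one_pow]
    have := hd.trans (orderOf_dvd_of_pow_eq_one h1)
    omega
  · rw [← pow_add, show 21 + 21 = 6 * 7 by norm_num, pow_mul]
    exact Commute.pow_left (h6 a ha).symm 7

end Six

theorem typeI_eight (h : DegList G
    [1, 1, 7, 7, 14, 14, 20, 20, 21, 21, 28, 28, 35, 35, 42, 56, 56, 64, 64, 70, 70, 90]) :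
    TypeI G 8 := by
  classical
  obtain ⟨ε, hε, hl⟩ := eps h (by decide)
  have hG : Nat.card G = 40320 := h.card_eq.trans (by decide)
  have hc := (card_deg h 7).trans (show _ = 2 by decide)
  obtain ⟨χ, h7⟩ : ∃ χ : IrrCharacter G, charDegree χ.1 = 7 := by
    obtain ⟨χ, hχ⟩ := card_pos.1 (hc ▸ by norm_num : 0 < #{χ : IrrCharacter G | charDegree χ.1 = 7})
    exact ⟨χ, by simpa using hχ⟩
  have o1 := odd_ne hε (χ := χ) (by rw [h7]; decide)
  have two : ∀ ψ : IrrCharacter G, charDegree ψ.1 = 7 → ψ.1 = χ.1 ∨ ψ.1 = sg ε * χ.1 := by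
    intro ψ hψ
    obtain ⟨χ', a1, a2⟩ := tw ε χ
    by_contra hn
    push Not at hn
    have hs : ({ψ, χ', χ} : Finset (IrrCharacter G)) ⊆
        univ.filter (fun χ : IrrCharacter G => charDegree χ.1 = 7) := by
      intro x hx
      simp only [mem_insert, mem_singleton] at hx
      rw [mem_filter]
      rcases hx with rfl | rfl | rfl <;> exact ⟨mem_univ _, by omega⟩
    have := card_le_card hs
    rw [← a1] at hn o1
    have ne : ∀ {x y : IrrCharacter G}, x.1 ≠ y.1 → x ≠ y := fun h e => h (e ▸ rfl)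
    rw [hc, card_insert_of_notMem (by simp [ne hn.1, ne hn.2]),
      card_insert_of_notMem (by simp [ne o1]), card_singleton] at this
    omega
  have tA : ∀ ψ : IrrCharacter G, charDegree ψ.1 = 7 → ∀ g, ε g = 1 → ψ.1 g = χ.1 g := by
    intro ψ hψ g hg
    rcases two ψ hψ with e | e <;> simp [e, sg, hg]
  have lA : ∀ ψ : IrrCharacter G, charDegree ψ.1 = 1 → ∀ g, ε g = 1 → ψ.1 g = 1 := by
    intro ψ hψ g hg
    rcases hl ψ hψ with e | e <;> simp [e, sg, hg]
  obtain ⟨φ, p1, p2⟩ := res hε o1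
  have rA : ∀ g, ε g = 1 → (χ.1 g).im = 0 := fun g hg => by
    have := tA χ.bar ((deg_bar χ).trans h7) g hg
    exact Complex.conj_eq_iff_im.1 this
  have r1 : ∀ g, (φ g).im = 0 := fun g => by
    show (φ.1 g).im = 0
    rw [p1]; exact rA g g.2
  have n1 := IrrCharacter.fsInd_eq_one_of_odd r1 (by rw [p2, h7]; decide)
  obtain ⟨i1, i2⟩ := ip_alt r1 n1
  have hL := χ.isCharacter.altSq
  have hS := χ.isCharacter.symSq
  set L : G → ℂ := fun g => (χ.1 g ^ 2 - χ.1 (g * g)) / 2 with hLdef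
  set S : G → ℂ := fun g => (χ.1 g ^ 2 + χ.1 (g * g)) / 2 with hSdef
  have i1' : ip (L ∘ ε.ker.subtype) 1 = 0 := by rw [← i1, p1]; rfl
  have i2' : ip (S ∘ ε.ker.subtype) 1 = 1 := by rw [← i2, p1]; rfl
  have hdL : charDegree L = 21 := charDegree_eq_of_apply_one (by
    simp only [hLdef, mul_one, χ.apply_one, h7]; norm_num)
  have hdS : charDegree S = 28 := charDegree_eq_of_apply_one (by
    simp only [hSdef, mul_one, χ.apply_one, h7]; norm_num)
  obtain ⟨μ, m1, m2⟩ := lin_one hε i2'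
  have hS' := hS.sub_irr μ m2
  have hdS' := deg_sub hS m2
  have i3 : ip ((S - μ.1) ∘ ε.ker.subtype) 1 = 0 := by
    have : (S - μ.1) ∘ ε.ker.subtype = S ∘ ε.ker.subtype - 1 := by
      funext a
      simp [lA μ m1 a a.2]
    rw [this, ip_sub_left, i2', ip11, sub_self]
  have hdeg : ∀ {θ : G → ℂ}, IsCharacter G θ → charDegree θ ≤ 27 →
      ip (θ ∘ ε.ker.subtype) 1 = 0 → ∀ ψ : IrrCharacter G, ip θ ψ.1 ≠ 0 → charDegree ψ.1 = 7 ∨
        charDegree ψ.1 = 14 ∨ charDegree ψ.1 = 20 ∨ charDegree ψ.1 = 21 := by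
    intro θ hθ hd h0 ψ hψ
    have hm := mem h ψ
    have e1 : charDegree ψ.1 ≠ 1 := fun e => hψ (lin_zero hε hl hθ h0 ψ e)
    have e2 := hθ.charDegree_le_of_ip_ne_zero ψ hψ
    simp only [List.mem_cons, List.not_mem_nil, or_false] at hm
    omega
  obtain ⟨s₁, s₂, s₃, s₄, d0, d1, -, d3, -, d5⟩ := dec hS' (hdeg hS' (by omega) i3)
  have d6 : 27 = 7 * Multiset.card s₁ + 14 * Multiset.card s₂ + 20 * Multiset.card s₃ +
    21 * Multiset.card s₄ := by omega
  obtain ⟨β, rfl⟩ := Multiset.card_eq_one.1 (show Multiset.card s₃ = 1 by omega)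
  rw [Multiset.card_singleton] at d6
  obtain rfl := Multiset.card_eq_zero.1 (show Multiset.card s₂ = 0 by omega)
  obtain rfl := Multiset.card_eq_zero.1 (show Multiset.card s₄ = 0 by omega)
  obtain ⟨χ₂, rfl⟩ := Multiset.card_eq_one.1 (show Multiset.card s₁ = 1 by simp at d6; omega)
  have hβ := d3 β (by simp)
  have h₂ := (d1 χ₂ (by simp)).1
  simp only [Multiset.map_singleton, Multiset.sum_singleton, Multiset.map_zero, Multiset.sum_zero,
    add_zero] at d0
  rw [sub_eq_iff_eq_add'] at d0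
  have vS : ∀ g, (χ.1 g ^ 2 + χ.1 (g * g)) / 2 = μ.1 g + (χ₂.1 g + β.1 g) := congrFun d0
  clear d1 d3 d5 d6
  obtain ⟨s₁, s₂, s₃, s₄, e0, e1, e2, -, e4, e5⟩ := dec hL (hdeg hL (by omega) i1')
  rw [hdL] at e5
  obtain rfl := Multiset.card_eq_zero.1 (show Multiset.card s₃ = 0 by omega)
  rcases (show Multiset.card s₁ = 0 ∨ Multiset.card s₁ = 3 ∨ Multiset.card s₁ = 1 by
    simp at e5; omega) with c | c | c
  · -- type I
    obtain rfl := Multiset.card_eq_zero.1 c
    obtain rfl := Multiset.card_eq_zero.1 (show Multiset.card s₂ = 0 by simp at e5; omega)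
    obtain ⟨γ, rfl⟩ := Multiset.card_eq_one.1 (show Multiset.card s₄ = 1 by simp at e5; omega)
    have hγ := e4 γ (by simp)
    simp only [Multiset.map_singleton, Multiset.sum_singleton, Multiset.map_zero,
      Multiset.sum_zero, zero_add] at e0
    have hsq : χ.1 * χ.1 = μ.1 + χ₂.1 + β.1 + γ.1 := by
      rw [← e0, add_assoc μ.1, ← d0]
      funext g
      simp only [hLdef, hSdef, Pi.add_apply, Pi.mul_apply]; ring
    have fin : ∀ μ' χ' β' γ' : IrrCharacter G, charDegree χ'.1 = 7 → charDegree β'.1 = 20 →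
        charDegree γ'.1 = 21 → χ.1 * star χ.1 = μ'.1 + χ'.1 + β'.1 + γ'.1 → TypeI G 8 := by
      intro μ' χ' β' γ' b1 b2 b3 b4
      have k1 : ip (χ.1 * star χ.1) 1 = 1 := by rw [ip_mul_left, star_star, one_mul, χ.ip_self]
      rw [b4, ip_add_left, ip_add_left, ip_add_left, ip_one_right (χ := χ') (by omega),
        ip_one_right (χ := β') (by omega), ip_one_right (χ := γ') (by omega)] at k1
      have k2 : μ'.1 = 1 := by
        by_contra hn
        rw [show ip μ'.1 1 = 0 from ip_ne' (ψ := IrrCharacter.one G) hn] at k1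
        simp at k1
      rw [k2] at b4
      exact typeI_of_mul_star χ χ' β' γ' (a := 7) (by norm_num) b1 (by omega) (by omega)
        (two χ' b1) b4
    rcases two χ.bar ((deg_bar χ).trans h7) with e | e
    · exact fin μ χ₂ β γ h₂ hβ hγ (by rw [← bar_val, e, hsq])
    · obtain ⟨μ', a1, -⟩ := tw ε μ
      obtain ⟨χ', b1, b2⟩ := tw ε χ₂
      obtain ⟨β', c1, c2⟩ := tw ε β
      obtain ⟨γ', f1, f2⟩ := tw ε γ
      refine fin μ' χ' β' γ' (by omega) (by omega) (by omega) ?_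
      rw [← bar_val, e, a1, b1, c1, f1, mul_left_comm, hsq]
      ring
  · -- three constituents of degree 7
    exfalso
    obtain rfl := Multiset.card_eq_zero.1 (show Multiset.card s₂ = 0 by omega)
    obtain rfl := Multiset.card_eq_zero.1 (show Multiset.card s₄ = 0 by omega)
    obtain ⟨y₁, y₂, y₃, rfl⟩ := Multiset.card_eq_three.1 c
    simp only [Multiset.insert_eq_cons, Multiset.map_cons, Multiset.map_singleton,
      Multiset.sum_cons, Multiset.sum_singleton, Multiset.map_zero, Multiset.sum_zero,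
      add_zero] at e0
    haveI : Fact (Nat.Prime 5) := ⟨by norm_num⟩
    have h5 : (Nat.card G).factorization 5 = 1 := by
      rw [hG, show (40320 : ℕ) = 5 * 8064 by norm_num,
        Nat.factorization_mul (by norm_num) (by norm_num)]
      simp [Nat.Prime.factorization (show Nat.Prime 5 by norm_num),
        Nat.factorization_eq_zero_of_not_dvd (show ¬ 5 ∣ 8064 by norm_num)]
    have key : ∀ x : G, orderOf x = 5 → χ.1 x ^ 2 = 1 + 4 * χ.1 x ∧
        χ.1 (x * x) = 1 - 2 * χ.1 x := by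
      intro x hx
      have hε1 : ε x = 1 := eps_odd ε (k := 5) (by decide) (hx ▸ pow_orderOf_eq_one x)
      have v1 := vS x
      have v2 : (χ.1 x ^ 2 - χ.1 (x * x)) / 2 = y₁.1 x + (y₂.1 x + y₃.1 x) := congrFun e0 x
      have v3 : β.1 x = 0 := β.eq_zero_of_defect_zero 5 (by rw [h5, hβ]; norm_num) (by rw [hx])
      rw [lA μ m1 x hε1, tA χ₂ h₂ x hε1, v3] at v1
      rw [tA y₁ (e1 y₁ (by simp)).1 x hε1, tA y₂ (e1 y₂ (by simp)).1 x hε1,
        tA y₃ (e1 y₃ (by simp)).1 x hε1] at v2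
      exact ⟨by linear_combination v1 + v2, by linear_combination v1 - v2⟩
    obtain ⟨x, hx⟩ := exists_prime_orderOf_dvd_card' (G := G) 5 (by rw [hG]; norm_num)
    have hx2 : orderOf (x * x) = 5 := by
      rw [← pow_two, Nat.Coprime.orderOf_pow (by rw [hx]; norm_num), hx]
    obtain ⟨k1, k2⟩ := key x hx
    obtain ⟨k3, -⟩ := key _ hx2
    rw [k2] at k3
    have k4 : χ.1 x = 0 := by linear_combination (1 / 20 : ℂ) * k3 - (1 / 5 : ℂ) * k1
    rw [k4] at k1
    norm_num at k1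
  · -- `7 + 14`
    exfalso
    obtain ⟨χ₁, rfl⟩ := Multiset.card_eq_one.1 c
    obtain rfl := Multiset.card_eq_zero.1 (show Multiset.card s₄ = 0 by simp at e5; omega)
    obtain ⟨ψ, rfl⟩ := Multiset.card_eq_one.1 (show Multiset.card s₂ = 1 by simp at e5; omega)
    have h₁ := (e1 χ₁ (by simp)).1
    have hψ := e2 ψ (by simp)
    simp only [Multiset.map_singleton, Multiset.sum_singleton, Multiset.map_zero,
      Multiset.sum_zero, add_zero] at e0
    have vL : ∀ g, (χ.1 g ^ 2 - χ.1 (g * g)) / 2 = χ₁.1 g + ψ.1 g := congrFun e0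
    haveI : Fact (Nat.Prime 7) := ⟨by norm_num⟩
    have h71 : (Nat.card G).factorization 7 = 1 := by
      rw [hG, show (40320 : ℕ) = 7 * 5760 by norm_num,
        Nat.factorization_mul (by norm_num) (by norm_num)]
      simp [Nat.Prime.factorization (show Nat.Prime 7 by norm_num),
        Nat.factorization_eq_zero_of_not_dvd (show ¬ 7 ∣ 5760 by norm_num)]
    obtain ⟨t, P, t1, t2, t3, t4, t5⟩ := exists_t hε hG
    have hy := χ.mem_charCenter_of_defect_zero (p := 7) (by rw [h71, h7]; norm_num) t2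
      (t3.trans h7.symm) t4 t5
    have hεy : ε (t * t) = 1 := by rw [map_mul, t1]; decide
    have χ1 : χ.1 1 = 7 := by rw [χ.apply_one, h7]; norm_num
    have hy7 : χ.1 (t * t) = 7 := by
      have a1 := χ.mem_charCenter.1 hy
      have a2 := rA _ hεy
      have a3 := χ.isCharacter.apply_mul_of_mem_charCenter hy (t * t)
      have a4 : χ.1 (t * t) = ((χ.1 (t * t)).re : ℂ) := Complex.ext (by simp) (by simp [a2])
      rw [h7, show χ (t * t) = χ.1 (t * t) from rfl, a4, Complex.norm_real, Real.norm_eq_abs] at a1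
      rcases eq_or_eq_neg_of_abs_eq a1 with a5 | a5
      · rw [a4, a5]; norm_num
      · exfalso
        rw [a5] at a4
        have v1 := vS (t * t)
        rw [lA μ m1 _ hεy, tA χ₂ h₂ _ hεy] at v1
        rw [χ1] at a3
        rw [a4] at v1 a3
        have a6 : β.1 (t * t) = 34 := by
          push_cast at v1 a3
          linear_combination -v1 + (1 / 14 : ℂ) * a3
        have a7 := β.norm_le (t * t)
        rw [show β (t * t) = β.1 (t * t) from rfl, a6, hβ] at a7
        norm_num at a7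
    have hker : t * t ∈ charKer χ.1 := χ.mem_charKer.2 (hy7.trans χ1.symm)
    obtain ⟨τ, hτ⟩ := χ.isCharacter.isGen.exists_int_of_forall_pow (g := t) fun k hk => by
      have hodd : Odd k := by
        by_contra hn
        have h2 : ¬ Odd (orderOf t) := fun ho => by
          have := eps_odd ε ho (pow_orderOf_eq_one t)
          rw [t1] at this
          exact absurd this (by decide)
        rw [Nat.not_odd_iff_even, even_iff_two_dvd] at hn h2
        have := Nat.dvd_gcd hn h2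
        rw [hk] at this
        omega
      obtain ⟨j, rfl⟩ := hodd
      rw [pow_succ', pow_mul, pow_two]
      exact apply_mul_of_mem_charKer (Subgroup.pow_mem _ hker j) t
    have tt : ∀ ξ : IrrCharacter G, charDegree ξ.1 = 7 → ξ.1 t = τ ∨ ξ.1 t = -τ := fun ξ hξ => by
      rcases two ξ hξ with e | e <;> simp [e, sg, t1, hτ]
    have zt : ∀ ξ : IrrCharacter G, sg ε * ξ.1 = ξ.1 → ξ.1 t = 0 := fun ξ hξ => by
      have := congrFun hξ t
      simp only [Pi.mul_apply, sg, t1] at this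
      push_cast at this
      linear_combination (-1 / 2 : ℂ) * this
    have oβ : sg ε * β.1 ≠ β.1 := fun e => by
      have v1 := vS t
      have v2 : μ.1 t = 1 ∨ μ.1 t = -1 := by
        rcases hl μ m1 with e' | e' <;> simp [e', sg, t1]
      rw [zt β e, hy7, hτ] at v1
      rcases v2 with v2 | v2 <;> rcases tt χ₂ h₂ with v3 | v3 <;> rw [v2, v3] at v1
      · have : τ ^ 2 + 7 = 2 + 2 * τ := by
          have : ((τ ^ 2 + 7 : ℤ) : ℂ) = ((2 + 2 * τ : ℤ) : ℂ) := by
            push_cast; linear_combination 2 * v1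
          exact_mod_cast this
        nlinarith [sq_nonneg (τ - 1)]
      · have : τ ^ 2 + 7 = 2 - 2 * τ := by
          have : ((τ ^ 2 + 7 : ℤ) : ℂ) = ((2 - 2 * τ : ℤ) : ℂ) := by
            push_cast; linear_combination 2 * v1
          exact_mod_cast this
        nlinarith [sq_nonneg (τ + 1)]
      · have : τ ^ 2 + 7 = -2 + 2 * τ := by
          have : ((τ ^ 2 + 7 : ℤ) : ℂ) = ((-2 + 2 * τ : ℤ) : ℂ) := by
            push_cast; linear_combination 2 * v1
          exact_mod_cast this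
        nlinarith [sq_nonneg (τ - 1)]
      · have : τ ^ 2 + 7 = -2 - 2 * τ := by
          have : ((τ ^ 2 + 7 : ℤ) : ℂ) = ((-2 - 2 * τ : ℤ) : ℂ) := by
            push_cast; linear_combination 2 * v1
          exact_mod_cast this
        nlinarith [sq_nonneg (τ + 1)]
    have sq8 : ∀ x : ℤ, x ^ 2 ≠ 8 := fun x hx => by
      have a1 : x ≤ 2 := by nlinarith
      have a2 : -2 ≤ x := by nlinarith
      interval_cases x <;> omega
    have oψ : sg ε * ψ.1 ≠ ψ.1 := fun e => by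
      have v1 := vL t
      rw [zt ψ e, hy7, hτ] at v1
      rcases tt χ₁ h₁ with v3 | v3 <;> rw [v3] at v1
      · refine sq8 (τ - 1) ?_
        have : (((τ - 1) ^ 2 : ℤ) : ℂ) = ((8 : ℤ) : ℂ) := by
          push_cast; linear_combination 2 * v1
        exact_mod_cast this
      · refine sq8 (τ + 1) ?_
        have : (((τ + 1) ^ 2 : ℤ) : ℂ) = ((8 : ℤ) : ℂ) := by
          push_cast; linear_combination 2 * v1
        exact_mod_cast this
    obtain ⟨b, q1, q2⟩ := res hε oβ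
    obtain ⟨c', u1, u2⟩ := res hε oψ
    have wS : ∀ a : ε.ker, (φ.1 a ^ 2 + φ.1 (a * a)) / 2 = 1 + (φ.1 a + b.1 a) := fun a => by
      have := vS a
      rw [lA μ m1 a a.2, tA χ₂ h₂ a a.2] at this
      rw [p1, q1]; exact this
    have wL : ∀ a : ε.ker, (φ.1 a ^ 2 - φ.1 (a * a)) / 2 = φ.1 a + c'.1 a := fun a => by
      have := vL a
      rw [tA χ₁ h₁ a a.2] at this
      rw [p1, u1]; exact this
    have real : ∀ a : ε.ker, φ.1 a = ((φ.1 a).re : ℂ) := fun a =>
      Complex.ext (by simp) (by simp [r1 a])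
    have r2 : ∀ a, (b a).im = 0 := fun a => by
      have := wS a
      rw [real a, real (a * a)] at this
      have e : b.1 a = ((((φ.1 a).re ^ 2 + (φ.1 (a * a)).re) / 2 - 1 - (φ.1 a).re : ℝ) : ℂ) := by
        push_cast; linear_combination -this
      show (b.1 a).im = 0
      rw [e, Complex.ofReal_im]
    have r3 : ∀ a, (c' a).im = 0 := fun a => by
      have := wL a
      rw [real a, real (a * a)] at this
      have e : c'.1 a = ((((φ.1 a).re ^ 2 - (φ.1 (a * a)).re) / 2 - (φ.1 a).re : ℝ) : ℂ) := by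
        push_cast; linear_combination -this
      show (c'.1 a).im = 0
      rw [e, Complex.ofReal_im]
    have hsq : φ.1 * φ.1 = 1 + b.1 + c'.1 + φ.1 + φ.1 := by
      funext a
      simp only [Pi.add_apply, Pi.mul_apply, Pi.one_apply]
      linear_combination wS a + wL a
    have hψ2 : (fun a => φ.1 (a * a)) = 1 + b.1 - c'.1 := by
      funext a
      simp only [Pi.add_apply, Pi.sub_apply, Pi.one_apply]
      linear_combination wS a - wL a
    have ho := (IrrCharacter.isOrthChar_of_fsInd_eq_one n1).mul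
      (IrrCharacter.isOrthChar_of_fsInd_eq_one n1)
    have z1 : ip (1 : ε.ker → ℂ) b.1 = 0 := ip_one_left (by omega)
    have z2 : ip (1 : ε.ker → ℂ) c'.1 = 0 := ip_one_left (by omega)
    have z3 : ip b.1 1 = 0 := ip_one_right (by omega)
    have z4 : ip c'.1 1 = 0 := ip_one_right (by omega)
    have z5 : ip b.1 c'.1 = 0 := ip_ne (by omega)
    have z6 : ip c'.1 b.1 = 0 := ip_ne (by omega)
    have z7 : ip φ.1 b.1 = 0 := ip_ne (by omega)
    have z8 : ip φ.1 c'.1 = 0 := ip_ne (by omega)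
    have n2 := ho.fsInd_eq_one_of_odd r2 (m := 1) odd_one (by
      rw [hsq]; simp only [ip_add_left, z1, z6, z7, b.ip_self]; simp)
    have n3 := ho.fsInd_eq_one_of_odd r3 (m := 1) odd_one (by
      rw [hsq]; simp only [ip_add_left, z2, z5, z8, c'.ip_self]; simp)
    have hfs : fsInd (φ.1 * φ.1) = 5 := by
      rw [hsq, fsInd_add, fsInd_add, fsInd_add, fsInd_add, n1, n2, n3,
        show fsInd (1 : ε.ker → ℂ) = 1 from fsInd_one]
      norm_num
    rw [fsInd_mul_self r1, hψ2] at hfs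
    simp only [ip_add_left, ip_add_right, ip_sub_left, ip_sub_right, z1, z2, z3, z4, z5, z6,
      ip11, b.ip_self, c'.ip_self] at hfs
    norm_num at hfs

end Cfsg.Snd
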