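import Cfsg.Agent.Snd.Enum

/-!
# S4905: lower bounds for the degrees

* `Dk n (l+1) ≥ Dk n l ↔ (n - 2l)² ≥ n + 2`, so `Dk n` is unimodal on `[0, n/2]`;
  `Dk n l * (n - l + 1) = C(n,l) * (n - l + 1 - l)`; `Dk (n+2) ((n+2)/2) ≥ 2 Dk n (n/2)` (Catalan).
* `deep`: strong induction from `n = 13, 14` (`hi_thirteen`, `hi_fourteen`). If the exact row level
  `l` (or column level, by `Bt.tp`) has `2l ≤ n` use `exists_level`: `d ≥ Dk n l ≥ Dk n (n/2)`
  (decreasing part, `n < 2l + 4`). Otherwise both levels exceed `n/2`. Removing a box lowers each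
  level by at most one (with `N` fixed: `RowGe N (n+1) (k+1) B` gives `RowGe N n k` of a child, same
  for `ColGe`; normalise by `Bt.exists_norm`). By `dg_succ`: two removable beads give
  `d ≥ 2 En (n-1) ≥ En n`; if only one bead `y` is removable (a rectangle, at least 2 × 2: `y ≥ 2`,
  `y - 2 ∉ B`, `y + 1 ∈ B`) the child has the two removable beads `y - 1`, `y + 1`, so
  `d ≥ 2 En (n-2) = En n`.
* `low_deg`, `three_*`: `exists_param` with `N = n`; exact level `0`: degree `1`, level `1`: degree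
  `n - 1` (both bounds of `exists_level` agree, `dg ≤ 1`), and `B'` is unique (`k = 0, 1`);
  level `2`: `dg_two`; levels `≥ 3`: `hi_cases` twice resp. `hi_nine` … `hi_twelve`.
-/

set_option autoImplicit false
set_option linter.unusedSectionVars false

namespace Cfsg.Snd

open Equiv Finset

theorem Dk_mul {n l : ℕ} (h : 2 * l ≤ n + 1) :
    Dk n l * (n - l + 1) = n.choose l * (n - l + 1 - l) := by
  cases l with
  | zero => simp [Dk]
  | succ k =>
    have e : n - (k + 1) + 1 = n - k := by omega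
    rw [Dk, e, Nat.sub_mul, ← Nat.choose_succ_right_eq, Nat.mul_sub _ (n - k)]

namespace DegB

theorem Dk_succ_mul (n l : ℕ) : Dk n (l + 1) * (l + 1) = n.choose l * (n - l - (l + 1)) := by
  rw [Dk, Nat.sub_mul, Nat.choose_succ_right_eq, Nat.mul_sub _ (n - l)]

theorem Dk_cross {n l : ℕ} (h : 2 * (l + 1) ≤ n) :
    Dk n (l + 1) * ((l + 1) * (n - l + 1 - l)) = Dk n l * ((n - l + 1) * (n - l - (l + 1))) := by
  rw [← mul_assoc, ← mul_assoc, Dk_succ_mul, Dk_mul (by omega)]; ring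

theorem Dk_le_succ {n l : ℕ} (h : 2 * (l + 1) ≤ n) (h2 : n + 2 ≤ (n - 2 * l) ^ 2) :
    Dk n l ≤ Dk n (l + 1) := by
  have e := Dk_cross h
  obtain ⟨m, rfl⟩ : ∃ m, n = 2 * l + 2 + m := ⟨n - (2 * l + 2), by omega⟩
  rw [show 2 * l + 2 + m - l + 1 - l = m + 3 by omega, show 2 * l + 2 + m - l + 1 = l + m + 3 by
    omega, show 2 * l + 2 + m - l - (l + 1) = m + 1 by omega] at e
  rw [show 2 * l + 2 + m - 2 * l = m + 2 by omega] at h2
  refine Nat.le_of_mul_le_mul_right ?_ (show 0 < (l + 1) * (m + 3) by positivity)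
  rw [e]; exact Nat.mul_le_mul_left _ (by nlinarith)

theorem Dk_succ_le {n l : ℕ} (h : 2 * (l + 1) ≤ n) (h2 : (n - 2 * l) ^ 2 ≤ n + 2) :
    Dk n (l + 1) ≤ Dk n l := by
  have e := Dk_cross h
  obtain ⟨m, rfl⟩ : ∃ m, n = 2 * l + 2 + m := ⟨n - (2 * l + 2), by omega⟩
  rw [show 2 * l + 2 + m - l + 1 - l = m + 3 by omega, show 2 * l + 2 + m - l + 1 = l + m + 3 by
    omega, show 2 * l + 2 + m - l - (l + 1) = m + 1 by omega] at e
  rw [show 2 * l + 2 + m - 2 * l = m + 2 by omega] at h2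
  refine Nat.le_of_mul_le_mul_right ?_ (show 0 < (l + 1) * (m + 3) by positivity)
  rw [e]; exact Nat.mul_le_mul_left _ (by nlinarith)

theorem Dk_mono {n k l : ℕ} (h1 : k ≤ l) (h2 : 2 * l ≤ n) (h3 : n + 2 ≤ (n - 2 * l) ^ 2) :
    Dk n k ≤ Dk n l := by
  induction l, h1 using Nat.le_induction with
  | base => rfl
  | succ l hl ih =>
    have h4 : n + 2 ≤ (n - 2 * l) ^ 2 := h3.trans (Nat.pow_le_pow_left (by omega) 2)
    exact (ih (by omega) h4).trans (Dk_le_succ h2 h4)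

theorem Dk_anti {n k l : ℕ} (h1 : k ≤ l) (h2 : 2 * l ≤ n) (h3 : (n - 2 * k) ^ 2 ≤ n + 2) :
    Dk n l ≤ Dk n k := by
  induction l, h1 using Nat.le_induction with
  | base => rfl
  | succ l hl ih =>
    exact (Dk_succ_le h2 ((Nat.pow_le_pow_left (by omega) 2).trans h3)).trans (ih (by omega))

theorem Dk_even (m : ℕ) : Dk (2 * m) m * (m + 1) = m.centralBinom := by
  have := Dk_mul (n := 2 * m) (l := m) (by omega)
  rwa [show 2 * m - m + 1 = m + 1 by omega, show m + 1 - m = 1 by omega, mul_one] at this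

theorem Dk_odd (m : ℕ) : Dk (2 * m + 1) m = Dk (2 * (m + 1)) (m + 1) := by
  have h1 := Dk_mul (n := 2 * m + 1) (l := m) (by omega)
  have h2 := Dk_even (m + 1)
  rw [show 2 * m + 1 - m + 1 = m + 1 + 1 by omega, show m + 1 + 1 - m = 2 by omega] at h1
  rw [Nat.centralBinom, show 2 * (m + 1) = 2 * m + 1 + 1 by ring, Nat.choose_succ_succ',
    Nat.choose_symm_half, ← mul_two, ← h1] at h2
  exact (Nat.eq_of_mul_eq_mul_right (by omega) h2).symm

theorem le_Dk_even (m : ℕ) : 429 * 2 ^ m ≤ Dk (2 * (m + 7)) (m + 7) := by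
  induction m with
  | zero => decide
  | succ m ih =>
    have h1 := Dk_even (m + 7)
    have h2 := Dk_even (m + 7 + 1)
    have h3 := Nat.succ_mul_centralBinom_succ (m + 7)
    rw [← h1, ← h2] at h3
    rw [show m + 1 + 7 = m + 7 + 1 by ring]
    generalize Dk (2 * (m + 7)) (m + 7) = a at *
    generalize Dk (2 * (m + 7 + 1)) (m + 7 + 1) = b at *
    have h4 : b * (m + 9) = 2 * (2 * (m + 7) + 1) * a :=
      Nat.eq_of_mul_eq_mul_left (show 0 < m + 8 by omega) (by linarith)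
    have h5 : 2 * a * (m + 9) ≤ b * (m + 9) := by rw [h4]; nlinarith
    have := Nat.le_of_mul_le_mul_right h5 (by omega)
    rw [pow_succ]; omega

end DegB

open DegB

theorem min_le_Dk {n k l : ℕ} (h1 : k ≤ l) (h2 : 2 * l ≤ n) :
    min (Dk n k) (Dk n (n / 2)) ≤ Dk n l := by
  rcases le_total (n + 2) ((n - 2 * l) ^ 2) with h | h
  · exact (min_le_left _ _).trans (Dk_mono h1 h2 h)
  · exact (min_le_right _ _).trans (Dk_anti (by omega) (by omega) h)

theorem En_le {n : ℕ} (h : 13 ≤ n) : En n ≤ Dk n (n / 2) := by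
  rcases Nat.even_or_odd' n with ⟨m, rfl | rfl⟩
  · obtain ⟨m, rfl⟩ : ∃ k, m = k + 7 := ⟨m - 7, by omega⟩
    rw [En, show (2 * (m + 7) - 13) / 2 = m by omega, show 2 * (m + 7) / 2 = m + 7 by omega]
    exact le_Dk_even m
  · obtain ⟨m, rfl⟩ : ∃ k, m = k + 6 := ⟨m - 6, by omega⟩
    rw [En, show (2 * (m + 6) + 1 - 13) / 2 = m by omega,
      show (2 * (m + 6) + 1) / 2 = m + 6 by omega, Dk_odd]
    exact le_Dk_even m

namespace DegB

theorem tri_eq (N : ℕ) : Sym.tri N = ∑ i ∈ range N, i := by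
  rw [Sym.tri, Fin.sum_univ_eq_sum_range (fun i => i)]

theorem tri_succ (N : ℕ) : Sym.tri (N + 1) = Sym.tri N + N := by
  rw [tri_eq, tri_eq, sum_range_succ]

theorem eq_range_of_down {S : Finset ℕ} (h : ∀ x ∈ S, 1 ≤ x → x - 1 ∈ S) : S = range #S := by
  have h1 : ∀ x ∈ S, ∀ c ≤ x, c ∈ S := by
    intro x hx c hc
    induction x with
    | zero => rwa [Nat.le_zero.1 hc]
    | succ x ih =>
      rcases hc.eq_or_lt with rfl | hc
      · exact hx
      · exact ih (h _ hx (by omega)) (by omega)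
  refine eq_of_subset_of_card_le (fun x hx => mem_range.2 ?_) (by simp)
  have : range (x + 1) ⊆ S := fun c hc => h1 x hx c (by simpa [Nat.lt_succ_iff] using hc)
  simpa using card_le_card this

theorem Hi.mono {n k l d : ℕ} (h : Hi n k d) (hl : l ≤ k) : Hi n l d := by
  obtain ⟨B, h1, h2, h3, h4⟩ := h
  exact ⟨B, h1, fun x hx => by have := h2 x hx; omega, fun c hc => h3 c (by omega), h4⟩

variable {N n k y : ℕ} {B : Finset ℕ}

theorem bt_child (h : Bt N (n + 1) B) (hy : y ∈ B) (h1 : 1 ≤ y) (h2 : y - 1 ∉ B) :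
    Bt N n (insert (y - 1) (B.erase y)) := by
  have h3 : y - 1 ∉ B.erase y := fun h => h2 (mem_of_mem_erase h)
  have h4 := add_sum_erase B (fun x => x) hy
  have h5 := card_erase_add_one hy
  refine ⟨by rw [card_insert_of_notMem h3, h5, h.1], ?_⟩
  rw [sum_insert h3]
  have := h.2
  omega

theorem row_child (h : RowGe N (n + 1) (k + 1) B) (hy : y ∈ B) :
    RowGe N n k (insert (y - 1) (B.erase y)) := by
  intro x hx
  rcases mem_insert.1 hx with rfl | hx
  · have := h y hy; omega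
  · have := h x (mem_of_mem_erase hx); omega

theorem col_child (h : ColGe N (n + 1) (k + 1) B) (h2 : y - 1 ∉ B) :
    ColGe N n k (insert (y - 1) (B.erase y)) := by
  intro c hc
  refine mem_insert_of_mem (mem_erase.2 ⟨?_, h c (by omega)⟩)
  rintro rfl
  exact h2 (h _ (by omega))

theorem card_mul_le_dg {E : ℕ} (h : Bt N (n + 1) B)
    (hE : ∀ y ∈ B, 1 ≤ y → y - 1 ∉ B → E ≤ dg n (insert (y - 1) (B.erase y))) :
    #{y ∈ B | 1 ≤ y ∧ y - 1 ∉ B} * E ≤ dg (n + 1) B := by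
  rw [dg_succ h, ← smul_eq_mul]
  exact card_nsmul_le_sum _ _ _ fun y hy => by
    rw [mem_filter] at hy; exact hE y hy.1 hy.2.1 hy.2.2

theorem exists_removable (h : Bt N (n + 1) B) : ∃ y ∈ B, 1 ≤ y ∧ y - 1 ∉ B := by
  have := dg_pos h
  rw [dg_succ h] at this
  obtain ⟨y, hy, -⟩ := exists_ne_zero_of_sum_ne_zero this.ne'
  exact ⟨y, (mem_filter.1 hy).1, (mem_filter.1 hy).2⟩

theorem succ_mem_of_unique (h : Bt N n B) (hr : RowGe N n 1 B) (hy : y ∈ B)
    (hu : ∀ x ∈ B, 1 ≤ x → x - 1 ∉ B → x = y) : y + 1 ∈ B := by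
  by_contra hn
  have h1 := eq_range_of_down (S := B.erase y) fun x hx h1 => by
    rw [mem_erase] at hx ⊢
    refine ⟨fun h => hn ?_, by_contra fun h => hx.1 (hu x hx.2 h1 h)⟩
    rw [← h, Nat.sub_add_cancel h1]; exact hx.2
  have h4 := add_sum_erase B (fun x => x) hy
  have h5 := card_erase_add_one hy
  rw [h1, ← tri_eq, h.2, ← h.1, ← h5, tri_succ] at h4
  have := hr y hy
  have := h.1
  omega

theorem pred_notMem_of_unique (h : Bt N n B) (hc : ColGe N n 1 B) (hy : y ∈ B) (h1 : 1 ≤ y)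
    (h2 : y - 1 ∉ B) (hu : ∀ x ∈ B, 1 ≤ x → x - 1 ∉ B → x = y) : 2 ≤ y ∧ y - 1 - 1 ∉ B := by
  by_contra hn
  have h3 := eq_range_of_down (S := insert (y - 1) B) fun x hx h3 => by
    rcases mem_insert.1 hx with rfl | hx
    · exact mem_insert_of_mem (by_contra fun h => hn ⟨by omega, h⟩)
    · by_cases h4 : x - 1 ∈ B
      · exact mem_insert_of_mem h4
      · rw [hu x hx h3 h4]; exact mem_insert_self _ _
  have h4 : ∑ x ∈ insert (y - 1) B, x = y - 1 + ∑ x ∈ B, x := sum_insert h2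
  rw [h3, card_insert_of_notMem h2, ← tri_eq, tri_succ, h.1, h.2] at h4
  exact h2 (hc _ (by omega))

/-- The exact row or column level. -/
theorem level_cases {d : ℕ} (hd : Hi n k d) (hn : k + 1 ≤ n) : Hi n (k + 1) d ∨
    ∃ B', Bt (n - 1) k B' ∧ dg k B' * n.choose k * (n - k + 1 - k) ≤ d * (n - k + 1) ∧
      d * n ≤ dg k B' * n.choose k * (n - k) := by
  obtain ⟨B, h1, h2, h3, rfl⟩ := hd
  obtain ⟨N, rfl⟩ : ∃ N, n = N + 1 := ⟨n - 1, by omega⟩
  by_cases hr : RowGe (N + 1) (N + 1) (k + 1) B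
  · by_cases hc : ColGe (N + 1) (N + 1) (k + 1) B
    · exact .inl ⟨B, h1, hr, hc, rfl⟩
    · obtain ⟨t1, t2, -, t4⟩ := h1.tp
      obtain ⟨B', e1, -, e2⟩ := exists_level t1 ((t4 k (by omega)).2 h3) (mt (t4 _ hn).1 hc)
      rw [show dg (N + 1) (tp (N + 1) B) = dg (N + 1) B by rw [dg, dg, t2]] at e2
      exact .inr ⟨B', e1, e2⟩
  · obtain ⟨B', e1, -, e2⟩ := exists_level h1 h2 hr
    exact .inr ⟨B', e1, e2⟩

theorem level_Dk {d : ℕ} (hd : Hi n k d) (hn : k + 1 ≤ n) (hk : 2 * k ≤ n) :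
    Hi n (k + 1) d ∨ Dk n k ≤ d := by
  refine (level_cases hd hn).imp_right fun ⟨B', h1, h2, _⟩ => ?_
  refine Nat.le_of_mul_le_mul_right (le_trans ?_ h2) (by omega)
  rw [Dk_mul (by omega), mul_assoc]
  exact Nat.le_mul_of_pos_left _ (dg_pos h1)

theorem deep_aux (n : ℕ) : 13 ≤ n → ∀ {N k : ℕ} {B : Finset ℕ}, n ≤ N → Bt N n B →
    RowGe N n k B → ColGe N n k B → n < 2 * k + 4 → En n ≤ dg n B := by
  induction n using Nat.strong_induction_on with
  | _ n ih =>
  intro h N k B hN hB hr hc hk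
  obtain ⟨B₀, b1, b2, b3⟩ := hB.exists_norm hN
  have hd : Hi n k (dg n B) := ⟨B₀, b1, (b3 k).1 hr, (b3 k).2 hc, by rw [dg, dg, b2]⟩
  generalize dg n B = d at hd
  clear b1 b2 b3 hB hr hc hN B B₀ N
  rcases (by omega : n = 13 ∨ n = 14 ∨ 15 ≤ n) with rfl | rfl | h15
  · exact hi_thirteen (Hi.mono hd (by omega))
  · exact hi_fourteen (Hi.mono hd (by omega))
  have key : ∀ j, k + j ≤ n / 2 + 1 → En n ≤ d ∨ Hi n (k + j) d := fun j => by
    induction j with
    | zero => exact fun _ => .inr hd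
    | succ j ihj =>
      intro hj
      refine (ihj (by omega)).elim .inl fun h1 => (level_Dk h1 (by omega) (by omega)).symm.imp_left
        fun h2 => (En_le h).trans ((Dk_anti (by omega) (by omega) ?_).trans h2)
      exact (Nat.pow_le_pow_left (show n - 2 * (k + j) ≤ 3 by omega) 2).trans (by omega)
  have hK : En n ≤ d ∨ Hi n (n / 2 + 1) d := by
    rcases le_total k (n / 2 + 1) with h1 | h1
    · have := key (n / 2 + 1 - k) (by omega)
      rwa [show k + (n / 2 + 1 - k) = n / 2 + 1 by omega] at this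
    · exact .inr (Hi.mono hd h1)
  refine hK.elim id ?_
  rintro ⟨B, hB, hr, hc, rfl⟩
  obtain ⟨m, rfl⟩ : ∃ m, n = m + 1 + 1 := ⟨n - 2, by omega⟩
  obtain ⟨K, hK⟩ : ∃ K, (m + 1 + 1) / 2 = K + 1 := ⟨(m + 1 + 1) / 2 - 1, by omega⟩
  rw [hK] at hr hc
  by_cases h2 : 2 ≤ #{y ∈ B | 1 ≤ y ∧ y - 1 ∉ B}
  · refine le_trans ?_ (card_mul_le_dg (E := En (m + 1)) hB fun y y1 y2 y3 =>
      ih _ (by omega) (by omega) (by omega) (bt_child hB y1 y2 y3) (row_child hr y1)
        (col_child hc y3) (by omega))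
    refine le_trans ?_ (Nat.mul_le_mul_right _ h2)
    rw [En, En, mul_left_comm, ← pow_succ']
    exact Nat.mul_le_mul_left _ (Nat.pow_le_pow_right (by omega) (by omega))
  obtain ⟨y, y1, y2, y3⟩ := exists_removable hB
  have hu : ∀ x ∈ B, 1 ≤ x → x - 1 ∉ B → x = y := fun x x1 x2 x3 =>
    card_le_one.1 (show #{y ∈ B | 1 ≤ y ∧ y - 1 ∉ B} ≤ 1 by omega) x
      (mem_filter.2 ⟨x1, x2, x3⟩) y (mem_filter.2 ⟨y1, y2, y3⟩)
  have s1 := succ_mem_of_unique hB (fun x hx => by have := hr x hx; omega) y1 hu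
  have s2 := pred_notMem_of_unique hB (fun c h => hc c (by omega)) y1 y2 y3 hu
  have hB' := bt_child hB y1 y2 y3
  have hr' := row_child hr y1
  have hc' := col_child hc y3
  have e : dg (m + 1) (insert (y - 1) (B.erase y)) ≤ dg (m + 1 + 1) B := by
    rw [dg_succ hB]
    exact single_le_sum (f := fun y => dg (m + 1) (insert (y - 1) (B.erase y)))
      (fun _ _ => Nat.zero_le _) (mem_filter.2 ⟨y1, y2, y3⟩)
  refine le_trans ?_ e
  generalize hB₁ : insert (y - 1) (B.erase y) = B₁ at hB' hr' hc'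
  refine le_trans ?_ (card_mul_le_dg (E := En m) hB' fun x x1 x2 x3 =>
    ih _ (by omega) (by omega) (by omega) (bt_child hB' x1 x2 x3) (row_child hr' x1)
      (col_child hc' x3) (by omega))
  have h3 : 1 < #{x ∈ B₁ | 1 ≤ x ∧ x - 1 ∉ B₁} := by
    refine one_lt_card.2 ⟨y - 1, ?_, y + 1, ?_, by omega⟩ <;>
      simp only [← hB₁, mem_filter, mem_insert, mem_erase, not_or, not_and]
    · exact ⟨.inl trivial, by omega, by omega, fun _ => s2.2⟩
    · exact ⟨.inr ⟨by omega, s1⟩, by omega, by omega, fun h => (h (by omega)).elim⟩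
  refine le_trans ?_ (Nat.mul_le_mul_right _ h3)
  rw [En, En, mul_left_comm, Nat.succ_eq_add_one, ← pow_succ']
  exact Nat.mul_le_mul_left _ (Nat.pow_le_pow_right (by omega) (by omega))

end DegB

theorem deep {n k d : ℕ} (h : 13 ≤ n) (hd : Hi n k d) (hk : n < 2 * k + 4) : En n ≤ d := by
  obtain ⟨B, h1, h2, h3, rfl⟩ := hd
  exact deep_aux n h le_rfl h1 h2 h3 hk

theorem DegB.min_le_of_hi {n k d : ℕ} (h : 13 ≤ n) (hk : 2 * k ≤ n) (hd : Hi n k d) :
    min (Dk n k) (En n) ≤ d := by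
  obtain ⟨j, hj⟩ : ∃ j, k + j = n / 2 := ⟨n / 2 - k, by omega⟩
  induction j generalizing k with
  | zero => exact (min_le_right _ _).trans (deep h hd (by omega))
  | succ j ih =>
    refine (level_Dk hd (by omega) hk).elim (fun h1 => ?_) fun h1 => (min_le_left _ _).trans h1
    refine le_trans (le_min ?_ (min_le_right _ _)) (ih (by omega) h1 (by omega))
    exact (min_le_min_left _ (En_le h)).trans (min_le_Dk (by omega) (by omega))

theorem hi_cases {n j d : ℕ} (h : 13 ≤ n) (hj : 2 * (j + 1) ≤ n) (hd : Hi n j d) :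
    min (Dk n (j + 1)) (En n) ≤ d ∨ ∃ f, 1 ≤ f ∧
      f * n.choose j * (n - j + 1 - j) ≤ d * (n - j + 1) ∧ d * n ≤ f * n.choose j * (n - j) :=
  (level_cases hd (by omega)).imp (min_le_of_hi h hj) fun ⟨_, h1, h2⟩ => ⟨_, dg_pos h1, h2⟩

namespace DegB

variable {N n d : ℕ} {B : Finset ℕ}

theorem dg_le_one {k : ℕ} (h : Bt N k B) (hk : k ≤ 1) : dg k B = 1 := by
  have := dg_mul_hk h
  interval_cases k <;> exact Nat.eq_one_of_mul_eq_one_right this

theorem level_zero (hn : 1 ≤ n) (h1 : Bt N 0 B)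
    (h2 : dg 0 B * n.choose 0 * (n - 0 + 1 - 0) ≤ d * (n - 0 + 1))
    (h3 : d * n ≤ dg 0 B * n.choose 0 * (n - 0)) : d = 1 := by
  rw [dg_le_one h1 (by omega)] at h2 h3
  simp only [Nat.choose_zero_right, Nat.sub_zero] at h2 h3
  have := Nat.le_of_mul_le_mul_right h2 (by omega)
  have := Nat.le_of_mul_le_mul_right h3 (by omega)
  omega

theorem level_one (hn : 1 ≤ n) (h1 : Bt N 1 B)
    (h2 : dg 1 B * n.choose 1 * (n - 1 + 1 - 1) ≤ d * (n - 1 + 1))
    (h3 : d * n ≤ dg 1 B * n.choose 1 * (n - 1)) : d + 1 = n := by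
  rw [dg_le_one h1 (by omega), one_mul, Nat.choose_one_right, mul_comm n] at h2 h3
  rw [Nat.sub_add_cancel hn] at h2
  have := Nat.le_of_mul_le_mul_right h2 (by omega)
  have := Nat.le_of_mul_le_mul_right h3 (by omega)
  omega

theorem sq_lt_En (n : ℕ) : (n + 12) ^ 2 < En (n + 13) := by
  induction n using Nat.twoStepInduction with
  | zero => decide
  | one => decide
  | more n ih _ =>
    rw [En, show (n + 2 + 13 - 13) / 2 = (n + 13 - 13) / 2 + 1 by omega, pow_succ 2]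
    rw [En] at ih
    generalize 2 ^ ((n + 13 - 13) / 2) = t at ih ⊢
    nlinarith [Nat.zero_le (n * n), Nat.zero_le n]

theorem hi_two (h : 9 ≤ n) (hd : Hi n 2 d) : 2 * d = n * (n - 3) ∨
      2 * d = (n - 1) * (n - 2) ∨ (n - 1) ^ 2 < d ∨ (n = 9 ∧ d ∈ [42, 48, 56]) ∨
      (n = 10 ∧ d ∈ [42, 75]) := by
  rcases (by omega : n = 9 ∨ n = 10 ∨ n = 11 ∨ n = 12 ∨ 13 ≤ n) with rfl | rfl | rfl | rfl | h13
  · have := hi_nine hd; simp at this ⊢; omega
  · have := hi_ten hd; simp at this ⊢; omega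
  · have := hi_eleven hd; simp at this ⊢; omega
  · have := hi_twelve hd; simp at this ⊢; omega
  obtain ⟨m, rfl⟩ : ∃ m, n = m + 13 := ⟨n - 13, by omega⟩
  rcases level_cases hd (by omega) with h3 | ⟨B', h1, h2, h3⟩
  · refine .inr (.inr (.inl (lt_of_lt_of_le (lt_min ?_ (sq_lt_En m))
      (min_le_of_hi h13 (by omega) h3))))
    have e := Dk_succ_mul (m + 13) 2
    have e2 := Nat.choose_succ_right_eq (m + 13) 1
    rw [Nat.choose_one_right] at e2
    simp only [show m + 13 - 1 = m + 12 by omega, show m + 13 - 2 - (2 + 1) = m + 8 by omega]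
      at e e2 ⊢
    nlinarith
  · rw [dg_two h1 (by omega), one_mul] at h2 h3
    have e2 := Nat.choose_succ_right_eq (m + 13) 1
    rw [Nat.choose_one_right] at e2
    simp only [show m + 13 - 1 = m + 12 by omega, show m + 13 - 2 = m + 11 by omega,
      show m + 13 - 3 = m + 10 by omega, show m + 11 + 1 - 2 = m + 10 by omega] at e2 h2 h3 ⊢
    have h4 : (m + 13) * (m + 10) ≤ 2 * d :=
      Nat.le_of_mul_le_mul_right (by nlinarith) (show 0 < m + 12 by omega)
    have h5 : 2 * d ≤ (m + 12) * (m + 11) :=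
      Nat.le_of_mul_le_mul_right (by nlinarith) (show 0 < m + 13 by omega)
    have h6 : (m + 12) * (m + 11) = (m + 13) * (m + 10) + 2 := by ring
    have h7 : Even ((m + 11) * (m + 11 + 1)) := Nat.even_mul_succ_self _
    rw [mul_comm, Nat.even_iff] at h7
    simp only [show m + 11 + 1 = m + 12 by omega] at h7
    omega

theorem bt_unique {k : ℕ} {B' : Finset ℕ} (hN : 1 ≤ N) (hk : k ≤ 1) (h : Bt N k B)
    (h' : Bt N k B') : B = B' := by
  suffices H : ∀ {B : Finset ℕ}, Bt N k B →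
      B = if k = 0 then range N else (range (N + 1)).erase (N - 1) by rw [H h, H h']
  intro B h
  have h1 := h.rowGe_zero
  have h2 := h.colGe_zero
  split_ifs with h0
  · exact eq_of_subset_of_card_le (fun x hx => mem_range.2 (by have := h1 x hx; omega))
      (by simp [h.1])
  · refine eq_of_subset_of_card_le (fun x hx => mem_erase.2
      ⟨?_, mem_range.2 (by have := h1 x hx; omega)⟩)
      (by rw [card_erase_of_mem (mem_range.2 (by omega))]; simp [h.1])
    rintro rfl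
    have h3 : range N = B := eq_of_subset_of_card_le (fun c hc => by
      rcases (show c = N - 1 ∨ c + k < N + 0 by have := mem_range.1 hc; omega) with rfl | h4
      · exact hx
      · exact h2 c h4) (by simp [h.1])
    have h4 := h.2
    rw [← h3, ← tri_eq] at h4
    omega

end DegB

theorem low_deg {n : ℕ} (h : 9 ≤ n) (χ : IrrCharacter (Perm (Fin n))) {d : ℕ}
    (hd : charDegree χ.1 = d) : d = 1 ∨ d + 1 = n ∨ 2 * d = n * (n - 3) ∨
      2 * d = (n - 1) * (n - 2) ∨ (n - 1) ^ 2 < d ∨ (n = 9 ∧ d ∈ [42, 48, 56]) ∨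
      (n = 10 ∧ d ∈ [42, 75]) := by
  obtain ⟨e, he, -⟩ := exists_param (Fin n) (N := n) (by simp)
  have hB := (e χ).2
  have h1 := he χ
  generalize (e χ).1 = B at hB h1
  rw [Fintype.card_fin] at hB h1
  have h0 : Hi n 0 d := ⟨B, hB, hB.rowGe_zero, hB.colGe_zero, h1.symm.trans hd⟩
  rcases level_cases h0 (by omega) with h0 | ⟨_, b1, b2, b3⟩
  · rcases level_cases h0 (by omega) with h0 | ⟨_, b1, b2, b3⟩
    · exact .inr (.inr (hi_two h h0))
    · exact .inr (.inl (level_one (by omega) b1 b2 b3))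
  · exact .inl (level_zero (by omega) b1 b2 b3)

theorem DegB.exact_level {n d : ℕ} (h : 9 ≤ n) (hd : d = 1 ∨ d + 1 = n) : ∃ k ≤ 1, ∀ B,
    Bt n n B → dg n B = d → Hi n k d ∧ RowGe n n k B ∧ ColGe n n k B ∧
      ¬ (RowGe n n (k + 1) B ∧ ColGe n n (k + 1) B) := by
  have h2 : ¬ Hi n 2 d := fun h2 => by
    obtain ⟨m, rfl⟩ : ∃ m, n = m + 9 := ⟨n - 9, by omega⟩
    have := hi_two h h2
    simp only [show m + 9 - 1 = m + 8 by omega, show m + 9 - 2 = m + 7 by omega,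
      show m + 9 - 3 = m + 6 by omega, List.mem_cons, List.not_mem_nil, or_false] at this
    have h3 : d ≤ m + 8 := by omega
    rcases this with h | h | h | h | h
    · nlinarith
    · nlinarith
    · nlinarith
    · omega
    · omega
  rcases hd with rfl | hd
  · refine ⟨0, by omega, fun B h1 h3 => ⟨⟨B, h1, h1.rowGe_zero, h1.colGe_zero, h3⟩,
      h1.rowGe_zero, h1.colGe_zero, fun h4 => ?_⟩⟩
    rcases level_cases (⟨B, h1, h4.1, h4.2, h3⟩ : Hi n 1 1) (by omega) with h0 | ⟨_, b1, b2, b3⟩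
    · exact h2 h0
    · have := level_one (by omega) b1 b2 b3; omega
  · refine ⟨1, le_rfl, fun B h1 h3 => ?_⟩
    obtain ⟨N, rfl⟩ : ∃ N, n = N + 1 := ⟨n - 1, by omega⟩
    have hr : ∀ B, Bt (N + 1) (N + 1) B → dg (N + 1) B = d → RowGe (N + 1) (N + 1) 1 B :=
      fun B h1 h3 => by_contra fun h4 => by
        obtain ⟨B', e1, -, e2, e3⟩ := exists_level h1 h1.rowGe_zero h4
        have := level_zero (by omega) e1 e2 e3
        omega
    obtain ⟨t1, t2, -, t4⟩ := h1.tp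
    have hc := (t4 1 (by omega)).1 (hr _ t1 (by rw [← h3, dg, dg, t2]))
    exact ⟨⟨B, h1, hr B h1 h3, hc, h3⟩, hr B h1 h3, hc, fun h4 => h2 ⟨B, h1, h4.1, h4.2, h3⟩⟩

theorem three_deg {n : ℕ} (h : 9 ≤ n) {d : ℕ} (hd : d = 1 ∨ d + 1 = n)
    (χ₁ χ₂ χ₃ : IrrCharacter (Perm (Fin n))) (h₁ : charDegree χ₁.1 = d)
    (h₂ : charDegree χ₂.1 = d) (h₃ : charDegree χ₃.1 = d) : χ₁ = χ₂ ∨ χ₁ = χ₃ ∨ χ₂ = χ₃ := by
  obtain ⟨e, he, -⟩ := exists_param (Fin n) (N := n) (by simp)
  obtain ⟨k, hk, H⟩ := exact_level h hd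
  obtain ⟨N, rfl⟩ : ∃ N, n = N + 1 := ⟨n - 1, by omega⟩
  have hB : ∀ χ, Bt (N + 1) (N + 1) (e χ).1 := fun χ => by simpa using (e χ).2
  have row : ∀ B B', Bt (N + 1) (N + 1) B → Bt (N + 1) (N + 1) B' → RowGe (N + 1) (N + 1) k B →
      RowGe (N + 1) (N + 1) k B' → ¬ RowGe (N + 1) (N + 1) (k + 1) B →
      ¬ RowGe (N + 1) (N + 1) (k + 1) B' → B = B' := fun B B' b b' r r' s s' => by
    obtain ⟨C, c1, rfl, -⟩ := exists_level b r s
    obtain ⟨C', c1', rfl, -⟩ := exists_level b' r' s'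
    rw [bt_unique (by omega) hk c1 c1']
  have key : ∀ χ ψ, charDegree χ.1 = d → charDegree ψ.1 = d →
      (RowGe (N + 1) (N + 1) (k + 1) (e χ).1 ↔ RowGe (N + 1) (N + 1) (k + 1) (e ψ).1) → χ = ψ := by
    intro χ ψ c c' hi
    obtain ⟨-, r, l, s⟩ := H _ (hB χ) (by simpa [he] using c)
    obtain ⟨-, r', l', s'⟩ := H _ (hB ψ) (by simpa [he] using c')
    refine e.injective (Subtype.ext ?_)
    by_cases h0 : RowGe (N + 1) (N + 1) (k + 1) (e χ).1
    · obtain ⟨t1, -, t3, t4⟩ := (hB χ).tp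
      obtain ⟨t1', -, t3', t4'⟩ := (hB ψ).tp
      rw [← t3, ← t3', row _ _ t1 t1' ((t4 k (by omega)).2 l) ((t4' k (by omega)).2 l')
        (fun h => s ⟨h0, (t4 _ (by omega)).1 h⟩) (fun h => s' ⟨hi.1 h0, (t4' _ (by omega)).1 h⟩)]
    · exact row _ _ (hB χ) (hB ψ) r r' h0 (mt hi.2 h0)
  have k12 := key _ _ h₁ h₂
  have k13 := key _ _ h₁ h₃
  have k23 := key _ _ h₂ h₃
  tauto

end Cfsg.Snd
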