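import Cfsg.Agent.Snd.Defs
import Mathlib.Algebra.Group.Action.Option

/-!
# S4905: permutation characters and orbits

General tools (suggested): for a finite `Perm Ω`-set `X` and `ρ : G →* Perm Ω`,
`permChar (Perm Ω) X ∘ ρ` is the permutation character of `MulAction.compHom X ρ`, so
`ip (permChar X ∘ ρ) (permChar Y ∘ ρ)` counts `G`-orbits on `X × Y`. `pc Ω k` is the
permutation character on `{S // #S = k}`; use `Y = Fin l → Ω` for tuples: an irreducible `ψ` is a
constituent of `permChar Y` iff `Lev ψ l` (`n! ip = ∑ y, ∑ σ ∈ Stab y, conj (ψ σ)`, all terms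
`≥ 0`; if `Ω` is empty everything is trivial).
* (K) if `G` has the orbits of `Perm Ω` on `X × Y` and `χ ⊆ permChar X`, `ψ ⊆ permChar Y` are
  irreducible then `ip (χ ∘ ρ) (ψ ∘ ρ) = ip χ ψ`: `∑ m_χ m'_ψ ip (χ∘ρ) (ψ∘ρ) = ∑ m_χ m'_ψ δ`
  and each natural number `ip (χ∘ρ) (ψ∘ρ)` is `≥ δ`.
* `Perm Ω`-orbits on pairs (`a`-set, `b`-set) are given by `#(S ∩ T) ∈ [0, min a b]` when
  `a + b ≤ n` (two maps `Ω → Bool × Bool` with equal fibre sizes differ by a permutation), so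
  `ip (pc a) (pc b) = min a b + 1` and `ip (th k) (th k) = 1`.
* the pointwise stabiliser of `F` has the orbits `S ↦ S ∩ F` on `a`-sets; all subsets of `F`
  occur when `#F ≤ a`, `a + #F ≤ n`, all but `F` itself when `a + 1 = #F`.
* `sameSS_of_isIrr`: `pc k = ∑ i ≤ k, th i`, so `G` has `k + 1` orbits on pairs of `k`-sets.
-/

set_option autoImplicit false
set_option linter.unusedSectionVars false

namespace Cfsg.Snd

open Equiv Finset

variable {Ω : Type*} [Fintype Ω] [DecidableEq Ω] {G : Type*} [Group G]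

namespace Orb

/-! ### Permutations with prescribed behaviour -/

theorem exists_perm_of_fiber {β : Type*} [DecidableEq β] (u v : Ω → β)
    (h : ∀ b, #{x | u x = b} = #{x | v x = b}) : ∃ σ : Perm Ω, ∀ x, v (σ x) = u x := by
  refine ⟨Equiv.ofFiberEquiv (f := u) (g := v) fun b => Fintype.equivOfCardEq ?_, fun x => ?_⟩
  · rw [Fintype.card_subtype, Fintype.card_subtype, h]
  · exact Equiv.ofFiberEquiv_map _ x

theorem image_eq_of_iff {σ : Perm Ω} {S S' : Finset Ω} (h : ∀ x, σ x ∈ S' ↔ x ∈ S) :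
    S.image σ = S' := by
  ext y
  rw [mem_image]
  constructor
  · rintro ⟨x, hx, rfl⟩
    exact (h x).2 hx
  · intro hy
    exact ⟨σ.symm y, (h _).1 (by simpa using hy), by simp⟩

theorem mem_iff_of_image_eq {σ : Perm Ω} {S S' : Finset Ω} (h : S.image σ = S') (x : Ω) :
    σ x ∈ S' ↔ x ∈ S := by
  rw [← h, σ.injective.mem_finset_image]

theorem exists_perm_pair {S T S' T' : Finset Ω} (h1 : #S = #S') (h2 : #T = #T')
    (h3 : #(S ∩ T) = #(S' ∩ T')) : ∃ σ : Perm Ω, S.image σ = S' ∧ T.image σ = T' := by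
  have e11 : ∀ S T : Finset Ω, ({x | (decide (x ∈ S), decide (x ∈ T)) = (true, true)} : Finset Ω)
      = S ∩ T := fun S T => by ext x; simp
  have e10 : ∀ S T : Finset Ω, ({x | (decide (x ∈ S), decide (x ∈ T)) = (true, false)} : Finset Ω)
      = S \ T := fun S T => by ext x; simp
  have e01 : ∀ S T : Finset Ω, ({x | (decide (x ∈ S), decide (x ∈ T)) = (false, true)} : Finset Ω)
      = T \ S := fun S T => by ext x; simp [and_comm]
  have e00 : ∀ S T : Finset Ω, ({x | (decide (x ∈ S), decide (x ∈ T)) = (false, false)} : Finset Ω)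
      = (S ∪ T)ᶜ := fun S T => by ext x; simp
  obtain ⟨σ, hσ⟩ := exists_perm_of_fiber (fun x => (decide (x ∈ S), decide (x ∈ T)))
    (fun x => (decide (x ∈ S'), decide (x ∈ T'))) (by
      have a1 := card_sdiff_add_card_inter S T
      have a2 := card_sdiff_add_card_inter S' T'
      have a3 := card_sdiff_add_card_inter T S
      have a4 := card_sdiff_add_card_inter T' S'
      have a5 := card_union_add_card_inter S T
      have a6 := card_union_add_card_inter S' T'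
      rw [inter_comm] at a3 a4
      rintro ⟨_ | _, _ | _⟩
      · rw [e00, e00, card_compl, card_compl]; omega
      · rw [e01, e01]; omega
      · rw [e10, e10]; omega
      · rw [e11, e11]; omega)
  refine ⟨σ, image_eq_of_iff fun x => ?_, image_eq_of_iff fun x => ?_⟩
  · simpa using congrArg Prod.fst (hσ x)
  · simpa using congrArg Prod.snd (hσ x)

theorem exists_perm_fix {F S S' : Finset Ω} (h1 : #S = #S') (h2 : S ∩ F = S' ∩ F) :
    ∃ σ : Perm Ω, (∀ x ∈ F, σ x = x) ∧ S.image σ = S' := by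
  let u : Finset Ω → Ω → Ω ⊕ Bool := fun S x => if x ∈ F then .inl x else .inr (decide (x ∈ S))
  have e1 : ∀ S : Finset Ω, ({x | u S x = .inr true} : Finset Ω) = S \ F := fun S => by
    ext x; by_cases hx : x ∈ F <;> simp [u, hx]
  have e0 : ∀ S : Finset Ω, ({x | u S x = .inr false} : Finset Ω) = (S ∪ F)ᶜ := fun S => by
    ext x; by_cases hx : x ∈ F <;> simp [u, hx]
  obtain ⟨σ, hσ⟩ := exists_perm_of_fiber (u S) (u S') (by
      have a1 := card_sdiff_add_card_inter S F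
      have a2 := card_sdiff_add_card_inter S' F
      have a5 := card_union_add_card_inter S F
      have a6 := card_union_add_card_inter S' F
      rw [h2] at a1 a5
      rintro (y | _ | _)
      · congr 1
        ext x; by_cases hx : x ∈ F <;> simp [u, hx]
      · rw [e0, e0, card_compl, card_compl]; omega
      · rw [e1, e1]; omega)
  have hF : ∀ x ∈ F, σ x = x := fun x hx => by
    have := hσ x
    by_cases hx' : σ x ∈ F
    · simpa [u, hx, hx'] using this
    · simp [u, hx, hx'] at this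
  refine ⟨σ, hF, image_eq_of_iff fun x => ?_⟩
  by_cases hx : x ∈ F
  · rw [hF x hx]
    have := congrArg (x ∈ ·) h2
    simpa [hx] using this.symm
  · have := hσ x
    by_cases hx' : σ x ∈ F
    · simp [u, hx, hx'] at this
    · simpa [u, hx, hx'] using this

theorem exists_inter_eq {F A : Finset Ω} {a : ℕ} (hA : A ⊆ F) (h1 : #A ≤ a)
    (h2 : a + #F ≤ Fintype.card Ω + #A) : ∃ S : Finset Ω, #S = a ∧ S ∩ F = A := by
  obtain ⟨B, hB, hBc⟩ := exists_subset_card_eq (s := Fᶜ) (n := a - #A) (by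
    rw [card_compl]; omega)
  have hd : ∀ x ∈ B, x ∉ F := fun x hx => mem_compl.1 (hB hx)
  refine ⟨A ∪ B, ?_, ?_⟩
  · rw [card_union_of_disjoint (disjoint_left.2 fun x hx hx' => hd x hx' (hA hx)), hBc]; omega
  · ext x
    simp only [mem_inter, mem_union]
    exact ⟨fun ⟨h, h'⟩ => h.resolve_right fun hb => hd x hb h', fun h => ⟨Or.inl h, hA h⟩⟩

/-! ### The sets acted upon -/

variable (Ω) in
/-- The `k`-sets. -/
def KS (k : ℕ) : Type _ := {S : Finset Ω // #S = k}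

instance (k : ℕ) : Fintype (KS Ω k) := inferInstanceAs (Fintype {S : Finset Ω // #S = k})

instance (k : ℕ) : MulAction (Perm Ω) (KS Ω k) where
  smul σ S := ⟨S.1.image σ, by rw [card_image_of_injective _ σ.injective, S.2]⟩
  one_smul S := Subtype.ext (by change S.1.image (1 : Perm Ω) = S.1; simp)
  mul_smul σ τ S := Subtype.ext (by
    change S.1.image (σ * τ : Perm Ω) = (S.1.image τ).image σ
    rw [image_image]; rfl)

theorem KS.smul_val {k : ℕ} (σ : Perm Ω) (S : KS Ω k) : (σ • S).1 = S.1.image σ := rfl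

theorem KS.smul_eq_iff {k : ℕ} (σ : Perm Ω) (S T : KS Ω k) : σ • S = T ↔ S.1.image σ = T.1 :=
  Subtype.ext_iff

theorem KS.smul_eq_smul {k : ℕ} {σ τ : Perm Ω} {S : KS Ω k} (h : ∀ x ∈ S.1, σ x = τ x) :
    σ • S = τ • S := Subtype.ext (image_congr fun x hx => h x hx)

theorem pc_eq (k : ℕ) : pc Ω k = permChar (Perm Ω) (KS Ω k) := by
  funext σ
  rw [pc, permChar_apply, ← Nat.card_eq_finsetCard]
  congr 1
  refine Nat.card_congr ⟨fun S => ⟨⟨S.1, ?_⟩, ?_⟩, fun S => ⟨S.1.1, ?_⟩, fun _ => rfl, fun _ => rfl⟩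
  · exact (mem_powersetCard.1 (mem_filter.1 S.2).1).2
  · exact Subtype.ext (mem_filter.1 S.2).2
  · exact mem_filter.2 ⟨mem_powersetCard.2 ⟨subset_univ _, S.1.2⟩, congrArg Subtype.val S.2⟩

variable (Ω) in
/-- Tuples of at most `l` points. -/
abbrev Tup (l : ℕ) : Type _ := Fin l → Option Ω

/-- The set of points of a tuple. -/
def supp {l : ℕ} (y : Tup Ω l) : Finset Ω := {x | ∃ i, y i = some x}

theorem mem_supp {l : ℕ} {y : Tup Ω l} {x : Ω} : x ∈ supp y ↔ ∃ i, y i = some x := by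
  simp [supp]

theorem card_supp_le {l : ℕ} (y : Tup Ω l) : #(supp y) ≤ l := by
  have : (supp y).image some ⊆ univ.image y := fun z hz => by
    obtain ⟨x, hx, rfl⟩ := mem_image.1 hz
    obtain ⟨i, hi⟩ := mem_supp.1 hx
    exact mem_image.2 ⟨i, mem_univ _, hi⟩
  have h := card_le_card this
  rw [card_image_of_injective _ (Option.some_injective _)] at h
  exact h.trans (card_image_le.trans (by simp))

theorem exists_supp_eq {l : ℕ} {F : Finset Ω} (hF : #F ≤ l) : ∃ y : Tup Ω l, supp y = F := by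
  refine ⟨fun i => if h : i.1 < #F then some (F.equivFin.symm ⟨i.1, h⟩).1 else none, ?_⟩
  ext x
  rw [mem_supp]
  constructor
  · rintro ⟨i, hi⟩
    split_ifs at hi with h
    rw [← Option.some_injective _ hi]
    exact Subtype.property _
  · intro hx
    refine ⟨⟨(F.equivFin ⟨x, hx⟩).1, lt_of_lt_of_le (F.equivFin ⟨x, hx⟩).2 hF⟩, ?_⟩
    rw [dif_pos (F.equivFin ⟨x, hx⟩).2]
    simp

theorem tup_smul_eq_iff {l : ℕ} (σ τ : Perm Ω) (y : Tup Ω l) :
    σ • y = τ • y ↔ ∀ x ∈ supp y, σ x = τ x := by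
  constructor
  · intro h x hx
    obtain ⟨i, hi⟩ := mem_supp.1 hx
    have := congrFun h i
    simpa [hi] using this
  · intro h
    funext i
    rcases hi : y i with _ | x
    · simp [hi]
    · simpa [hi] using h x (mem_supp.2 ⟨i, hi⟩)

theorem tup_fix_iff {l : ℕ} (σ : Perm Ω) (y : Tup Ω l) :
    σ • y = y ↔ ∀ x ∈ supp y, σ x = x := by
  simpa using tup_smul_eq_iff σ 1 y

/-! ### Counting orbits -/

theorem card_orbits_eq {H Z T : Type*} [Group H] [MulAction H Z] (f : Z → T) (R : Finset T)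
    (h1 : ∀ (h : H) z, f (h • z) = f z) (h2 : ∀ z z', f z = f z' → ∃ h : H, h • z = z')
    (h3 : ∀ t, t ∈ R ↔ ∃ z, f z = t) : Nat.card (MulAction.orbitRel.Quotient H Z) = #R := by
  rw [← Nat.card_eq_finsetCard]
  refine Nat.card_congr (Equiv.ofBijective (Quotient.lift (fun z => ⟨f z, (h3 _).2 ⟨z, rfl⟩⟩) ?_)
    ⟨?_, ?_⟩)
  · rintro a b ⟨h, rfl⟩
    exact Subtype.ext (h1 h b)
  · rintro ⟨a⟩ ⟨b⟩ hab
    obtain ⟨h, rfl⟩ := h2 b a (congrArg Subtype.val hab).symm
    exact Quotient.sound ⟨h, rfl⟩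
  · rintro ⟨t, ht⟩
    obtain ⟨z, rfl⟩ := (h3 t).1 ht
    exact ⟨Quotient.mk _ z, rfl⟩

theorem le_card_orbits {H Z T ι : Type*} [Group H] [MulAction H Z] [Finite Z] (f : Z → T)
    (h1 : ∀ (h : H) z, f (h • z) = f z) (e : ι → Z) (he : Function.Injective (f ∘ e)) :
    Nat.card ι ≤ Nat.card (MulAction.orbitRel.Quotient H Z) := by
  refine Nat.card_le_card_of_injective (fun i => Quotient.mk _ (e i)) fun i j hij => he ?_
  obtain ⟨h, hh⟩ := Quotient.exact hij
  simp only [Function.comp]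
  rw [← hh, h1]

section Sub

variable {P Z : Type*} [Group P] [MulAction P Z] (H : Subgroup P)

/-- The map from the orbits of a subgroup to the orbits of the group. -/
def orbMap : MulAction.orbitRel.Quotient H Z → MulAction.orbitRel.Quotient P Z :=
  Quotient.map id fun _ _ ⟨h, hh⟩ => ⟨h.1, hh⟩

theorem orbMap_surjective : Function.Surjective (orbMap (Z := Z) H) := by
  rintro ⟨z⟩
  exact ⟨Quotient.mk _ z, rfl⟩

theorem card_orbits_eq_of_same (h : ∀ (σ : P) (z : Z), ∃ g ∈ H, g • z = σ • z) :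
    Nat.card (MulAction.orbitRel.Quotient H Z) = Nat.card (MulAction.orbitRel.Quotient P Z) := by
  refine Nat.card_congr (Equiv.ofBijective (orbMap H) ⟨?_, orbMap_surjective H⟩)
  rintro ⟨a⟩ ⟨b⟩ hab
  obtain ⟨σ, hσ⟩ := Quotient.exact hab
  obtain ⟨g, hg, hg'⟩ := h σ b
  exact Quotient.sound ⟨⟨g, hg⟩, hg'.trans hσ⟩

theorem same_of_card_le [Finite Z] (h : Nat.card (MulAction.orbitRel.Quotient H Z) ≤
    Nat.card (MulAction.orbitRel.Quotient P Z)) (σ : P) (z : Z) : ∃ g ∈ H, g • z = σ • z := by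
  have hb := (orbMap_surjective (Z := Z) H).bijective_of_nat_card_le h
  have : (Quotient.mk _ (σ • z) : MulAction.orbitRel.Quotient H Z) = Quotient.mk _ z :=
    hb.1 (Quotient.sound ⟨σ, rfl⟩)
  obtain ⟨g, hg⟩ := Quotient.exact this
  exact ⟨g.1, g.2, hg⟩

theorem permChar_comp_subtype : permChar P Z ∘ H.subtype = permChar H Z := rfl

end Sub

theorem ip_comp_range {P : Type*} [Group P] [Finite G] (ρ : G →* P) (φ ψ : P → ℂ) :
    ip (φ ∘ ρ) (ψ ∘ ρ) = ip (φ ∘ ρ.range.subtype) (ψ ∘ ρ.range.subtype) :=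
  ip_comp_of_surjective ρ.rangeRestrict ρ.rangeRestrict_surjective (φ ∘ ρ.range.subtype)
    (ψ ∘ ρ.range.subtype)

theorem ip_permChar_comp {P : Type*} [Group P] [Finite P] [Finite G] (ρ : G →* P) (X Y : Type*)
    [MulAction P X] [MulAction P Y] [Finite X] [Finite Y] :
    ip (permChar P X ∘ ρ) (permChar P Y ∘ ρ) =
      Nat.card (MulAction.orbitRel.Quotient ρ.range (X × Y)) := by
  rw [ip_comp_range, permChar_comp_subtype, permChar_comp_subtype, ip_permChar_permChar]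

theorem ip_pc_pc {a b : ℕ} (h : a + b ≤ Fintype.card Ω) :
    ip (pc Ω a) (pc Ω b) = (min a b + 1 : ℕ) := by
  rw [pc_eq, pc_eq, ip_permChar_permChar, card_orbits_eq (H := Perm Ω)
    (fun z : KS Ω a × KS Ω b => #(z.1.1 ∩ z.2.1)) (range (min a b + 1)), card_range]
  · intro σ z
    simp only [Prod.smul_fst, Prod.smul_snd, KS.smul_val]
    rw [← image_inter _ _ σ.injective, card_image_of_injective _ σ.injective]
  · intro z z' hz
    obtain ⟨σ, h1, h2⟩ := exists_perm_pair (z.1.2.trans z'.1.2.symm) (z.2.2.trans z'.2.2.symm) hz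
    exact ⟨σ, Prod.ext (Subtype.ext h1) (Subtype.ext h2)⟩
  · intro t
    rw [mem_range, Nat.lt_succ_iff, le_min_iff]
    constructor
    · rintro ⟨h1, h2⟩
      obtain ⟨T, -, hT⟩ := exists_subset_card_eq (s := (univ : Finset Ω)) (n := b) (by
        rw [card_univ]; omega)
      obtain ⟨A, hA, hAc⟩ := exists_subset_card_eq (s := T) (n := t) (by omega)
      obtain ⟨S, hS, hST⟩ := exists_inter_eq (a := a) hA (by omega) (by omega)
      exact ⟨(⟨S, hS⟩, ⟨T, hT⟩), by rw [← hAc, ← hST]⟩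
    · rintro ⟨z, rfl⟩
      exact ⟨(card_le_card inter_subset_left).trans z.1.2.le,
        (card_le_card inter_subset_right).trans z.2.2.le⟩

theorem pc_apply_one (k : ℕ) : pc Ω k 1 = (Fintype.card Ω).choose k := by
  simp [pc, card_powersetCard]

theorem pc_eq_sum (k : ℕ) : pc Ω k = ∑ i ∈ range (k + 1), th Ω i := by
  induction k with
  | zero => simp [th]
  | succ k ih => rw [sum_range_succ, ← ih, th]; ring

theorem ip_pc_th {k : ℕ} (hk : 2 * k ≤ Fintype.card Ω) : ip (pc Ω k) (th Ω k) = 1 := by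
  rcases k with _ | k
  · rw [th, ip_pc_pc (by omega)]; simp
  · rw [th, ip_sub_right, ip_pc_pc (by omega), ip_pc_pc (by omega)]
    simp

/-! ### Positive forms -/

section Form

variable {P : Type*} [Group P] [Finite P]

theorem form_le (B : (P → ℂ) → (P → ℂ) → ℂ)
    (hl : ∀ α α' β, B (α + α') β = B α β + B α' β) (hr : ∀ α β β', B α (β + β') = B α β + B α β')
    (hn : ∀ α β, IsCharacter P α → IsCharacter P β → ∃ n : ℕ, B α β = n)
    {α β χ ψ : P → ℂ} (hχ : IsCharacter P χ) (hψ : IsCharacter P ψ)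
    (hα : IsCharacter P (α - χ)) (hβ : IsCharacter P (β - ψ)) {m : ℕ} (h : B α β = m) :
    ∃ n : ℕ, n ≤ m ∧ B χ ψ = n := by
  obtain ⟨n1, h1⟩ := hn _ _ hχ hψ
  obtain ⟨n2, h2⟩ := hn _ _ hχ hβ
  obtain ⟨n3, h3⟩ := hn _ _ hα hψ
  obtain ⟨n4, h4⟩ := hn _ _ hα hβ
  have e1 : α = χ + (α - χ) := by ring
  have e2 : β = ψ + (β - ψ) := by ring
  rw [e1, e2, hl, hr, hr, h1, h2, h3, h4] at h
  refine ⟨n1, ?_, h1⟩
  have : n1 + n2 + (n3 + n4) = m := by exact_mod_cast h
  omega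

theorem exists_ip_comp_sub [Finite G] (ρ : G →* P) {α β : P → ℂ} (hα : IsCharacter P α)
    (hβ : IsCharacter P β) : ∃ n : ℕ, ip (α ∘ ρ) (β ∘ ρ) - ip α β = n := by
  refine hα.induction_on (P := fun α => ∃ n : ℕ, ip (α ∘ ρ) (β ∘ ρ) - ip α β = n)
    ⟨0, by simp⟩ (fun χ => ?_) ?_
  · refine hβ.induction_on (P := fun β => ∃ n : ℕ, ip (χ.1 ∘ ρ) (β ∘ ρ) - ip χ.1 β = n)
      ⟨0, by simp⟩ (fun ψ => ?_) ?_
    · obtain ⟨n, hn⟩ := (χ.isCharacter.comp ρ).exists_ip_eq_nat (ψ.isCharacter.comp ρ)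
      by_cases h : χ = ψ
      · subst h
        rcases n with _ | n
        · have := congrFun (ip_self_eq_zero.1 (hn.trans Nat.cast_zero)) 1
          exact absurd (by simpa using this) χ.apply_one_ne_zero
        · exact ⟨n, by rw [hn, χ.ip_self]; simp⟩
      · exact ⟨n, by rw [hn, IrrCharacter.ip_of_ne h, sub_zero]⟩
    · rintro φ φ' - - ⟨n, hn⟩ ⟨n', hn'⟩
      refine ⟨n + n', ?_⟩
      rw [Pi.add_comp, ip_add_right, ip_add_right, Nat.cast_add, ← hn, ← hn']; ring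
  · rintro φ φ' - - ⟨n, hn⟩ ⟨n', hn'⟩
    refine ⟨n + n', ?_⟩
    rw [Pi.add_comp, ip_add_left, ip_add_left, Nat.cast_add, ← hn, ← hn']; ring

/-- If `G` has the orbits of `P` on `X × Y` then inner products of constituents are kept. -/
theorem ip_comp_eq [Finite G] (ρ : G →* P) (X Y : Type*) [MulAction P X] [MulAction P Y]
    [Finite X] [Finite Y] (h : ∀ (σ : P) (z : X × Y), ∃ g, ρ g • z = σ • z)
    (χ ψ : IrrCharacter P) (hχ : ip (permChar P X) χ.1 ≠ 0) (hψ : ip (permChar P Y) ψ.1 ≠ 0) :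
    ip (χ.1 ∘ ρ) (ψ.1 ∘ ρ) = ip χ.1 ψ.1 := by
  obtain ⟨n, hn, h'⟩ := form_le (fun α β => ip (α ∘ ρ) (β ∘ ρ) - ip α β)
    (fun α α' β => by simp only [Pi.add_comp, ip_add_left]; ring)
    (fun α β β' => by simp only [Pi.add_comp, ip_add_right]; ring)
    (fun α β hα hβ => exists_ip_comp_sub ρ hα hβ) χ.isCharacter ψ.isCharacter
    ((permChar_isCharacter X).sub_irr χ hχ) ((permChar_isCharacter Y).sub_irr ψ hψ) (m := 0) (by
      rw [ip_permChar_comp, ip_permChar_permChar, card_orbits_eq_of_same, sub_self, Nat.cast_zero]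
      intro σ z
      obtain ⟨g, hg⟩ := h σ z
      exact ⟨ρ g, ⟨g, rfl⟩, hg⟩)
  obtain rfl : n = 0 := by omega
  exact sub_eq_zero.1 (h'.trans Nat.cast_zero)

theorem sum_fix_eq [Fintype P] (K : Subgroup P) (p : P → Prop) [DecidablePred p]
    (hp : ∀ σ, p σ ↔ σ ∈ K) (ψ : P → ℂ) :
    ∑ σ with p σ, ψ σ = Nat.card K * ip (ψ ∘ K.subtype) (fun _ => 1) := by
  classical
  rw [ip_def, ← mul_assoc, mul_inv_cancel₀ (natCard_cast_ne_zero K), one_mul]
  simp only [map_one, mul_one, Function.comp, Subgroup.coe_subtype]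
  exact sum_subtype _ (by simpa using hp) ψ

theorem ip_res_one_ne_zero {K L : Subgroup P} (hKL : K ≤ L) {ψ : P → ℂ} (hψ : IsCharacter P ψ)
    (h : ip (ψ ∘ L.subtype) (fun _ => 1) ≠ 0) : ip (ψ ∘ K.subtype) (fun _ => 1) ≠ 0 := by
  have h1 := ((hψ.comp L.subtype).sub_irr (IrrCharacter.one L) h).comp (Subgroup.inclusion hKL)
  obtain ⟨n, hn⟩ := h1.exists_ip_eq_nat IsCharacter.one
  have : ψ ∘ K.subtype = (ψ ∘ L.subtype - (IrrCharacter.one L).1) ∘ Subgroup.inclusion hKL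
      + fun _ => 1 := by
    funext x
    simp
  rw [this, ip_add_left, hn, ip_one_one]
  exact_mod_cast Nat.succ_ne_zero n

theorem ip_permChar_ne_zero_iff (Z : Type*) [MulAction P Z] [Finite Z] {ψ : P → ℂ}
    (hψ : IsCharacter P ψ) : ip (permChar P Z) ψ ≠ 0 ↔
      ∃ z : Z, ip (ψ ∘ (MulAction.stabilizer P z).subtype) (fun _ => 1) ≠ 0 := by
  classical
  cases nonempty_fintype P
  cases nonempty_fintype Z
  choose n hn using fun z : Z =>
    (hψ.comp (MulAction.stabilizer P z).subtype).exists_ip_eq_nat IsCharacter.one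
  have key : ip ψ (permChar P Z) = (Nat.card P : ℂ)⁻¹ *
      (∑ z : Z, Nat.card (MulAction.stabilizer P z) * n z : ℕ) := by
    rw [ip_def]
    congr 1
    push_cast
    simp only [← hn, ← sum_fix_eq (MulAction.stabilizer P _) (fun σ => σ • _ = _)
      (fun _ => MulAction.mem_stabilizer_iff.symm), sum_filter]
    rw [sum_comm]
    refine sum_congr rfl fun σ _ => ?_
    rw [← sum_filter, sum_const, permChar_apply, map_natCast, nsmul_eq_mul, mul_comm,
      Nat.card_eq_fintype_card, Fintype.card_subtype]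
    rfl
  rw [← conj_ip, map_ne_zero, key, mul_ne_zero_iff, Nat.cast_ne_zero, Ne, Ne, sum_eq_zero_iff]
  simp only [hn, inv_eq_zero, natCard_cast_ne_zero P, not_false_eq_true, true_and, mem_univ,
    mul_eq_zero, Nat.card_pos.ne', false_or, true_imp_iff, not_forall, Ne, Nat.cast_eq_zero]

end Form

/-- The pointwise stabiliser. -/
def fixer (F : Finset Ω) : Subgroup (Perm Ω) where
  carrier := {σ | ∀ x ∈ F, σ x = x}
  one_mem' := fun _ _ => rfl
  mul_mem' := fun {a b} ha hb x hx => by rw [Perm.mul_apply, hb x hx, ha x hx]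
  inv_mem' := fun {a} ha x hx => by rw [Perm.inv_eq_iff_eq, ha x hx]

theorem mem_fixer {F : Finset Ω} {σ : Perm Ω} : σ ∈ fixer F ↔ ∀ x ∈ F, σ x = x := Iff.rfl

theorem lev_iff_fixer {ψ : Perm Ω → ℂ} {l : ℕ} :
    Lev ψ l ↔ ∃ F : Finset Ω, #F ≤ l ∧ ip (ψ ∘ (fixer F).subtype) (fun _ => 1) ≠ 0 := by
  refine exists_congr fun F => and_congr_right fun _ => ?_
  rw [sum_fix_eq (fixer F) _ (fun _ => mem_fixer.symm), mul_ne_zero_iff]
  simp [Nat.card_pos.ne']

theorem stabilizer_tup {l : ℕ} (y : Tup Ω l) :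
    MulAction.stabilizer (Perm Ω) y = fixer (supp y) := by
  ext σ
  rw [MulAction.mem_stabilizer_iff, tup_fix_iff, mem_fixer]

theorem lev_iff {ψ : Perm Ω → ℂ} (hψ : IsCharacter (Perm Ω) ψ) {l : ℕ} :
    Lev ψ l ↔ ip (permChar (Perm Ω) (Tup Ω l)) ψ ≠ 0 := by
  rw [ip_permChar_ne_zero_iff _ hψ, lev_iff_fixer]
  constructor
  · rintro ⟨F, hF, h⟩
    obtain ⟨y, rfl⟩ := exists_supp_eq hF
    exact ⟨y, by rwa [stabilizer_tup]⟩
  · rintro ⟨y, h⟩
    exact ⟨supp y, card_supp_le y, by rwa [stabilizer_tup] at h⟩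

theorem ip_pc_fixer {F : Finset Ω} {a : ℕ} (h1 : #F ≤ a) (h2 : a + #F ≤ Fintype.card Ω) :
    ip (pc Ω a ∘ (fixer F).subtype) (fun _ => 1) = (2 ^ #F : ℕ) := by
  rw [pc_eq, permChar_comp_subtype, ip_permChar_one, card_orbits_eq (H := fixer F)
    (fun z : KS Ω a => z.1 ∩ F) F.powerset, card_powerset]
  · intro σ z
    ext x
    simp only [mem_inter]
    refine and_congr_left fun hx => ?_
    conv_lhs => rw [← σ.2 x hx]
    exact mem_iff_of_image_eq rfl x
  · intro z z' hz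
    obtain ⟨σ, h1, h2⟩ := exists_perm_fix (z.2.trans z'.2.symm) hz
    exact ⟨⟨σ, h1⟩, Subtype.ext h2⟩
  · intro A
    rw [mem_powerset]
    constructor
    · intro hA
      obtain ⟨S, hS, hSF⟩ := exists_inter_eq (a := a) hA ((card_le_card hA).trans h1) (by omega)
      exact ⟨⟨S, hS⟩, hSF⟩
    · rintro ⟨z, rfl⟩
      exact inter_subset_right

end Orb

open Orb

theorem isCharacter_pc (k : ℕ) : IsCharacter (Perm Ω) (pc Ω k) := by
  rw [pc_eq]
  exact permChar_isCharacter _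

theorem th_one_apply (σ : Perm Ω) : th Ω 1 σ = (#{x | σ x = x} : ℕ) - 1 := by
  have h1 : ({S ∈ powersetCard 1 (univ : Finset Ω) | S.image σ = S} : Finset (Finset Ω)) =
      ({x | σ x = x} : Finset Ω).image fun x => {x} := by
    ext S
    simp only [mem_filter, mem_powersetCard, subset_univ, true_and, card_eq_one, mem_image,
      mem_univ]
    constructor
    · rintro ⟨⟨x, rfl⟩, h⟩
      exact ⟨x, by simpa using h, rfl⟩
    · rintro ⟨x, h, rfl⟩
      exact ⟨⟨x, rfl⟩, by simpa using h⟩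
  rw [th, Pi.sub_apply, pc, pc, h1, card_image_of_injective _ singleton_injective]
  simp [filter_singleton]

theorem Orb.th_apply_one {k : ℕ} (hk : 2 * k ≤ Fintype.card Ω) :
    th Ω k 1 = Dk (Fintype.card Ω) k := by
  rcases k with _ | k
  · simp [th, pc_apply_one, Dk]
  · rw [th, Pi.sub_apply, pc_apply_one, pc_apply_one, Dk,
      Nat.cast_sub (Nat.choose_le_succ_of_lt_half_left (by omega))]

theorem isIrr_th {k : ℕ} (hk : 2 * k ≤ Fintype.card Ω) : IsIrrCharacter (Perm Ω) (th Ω k) := by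
  refine IsGeneralizedCharacter.isIrr_of_ip_self_eq_one ?_ ?_ (by rw [th_apply_one hk]; simp)
  · rcases k with _ | k
    · exact (isCharacter_pc 0).isGen
    · exact (isCharacter_pc _).isGen.sub (isCharacter_pc _).isGen
  · rcases k with _ | k
    · exact ip_pc_th hk
    · conv_lhs => rw [th, ip_sub_left]
      rw [← th, ip_pc_th hk, th, ip_sub_right, ip_pc_pc (by omega), ip_pc_pc (by omega)]
      simp

theorem charDegree_th {k : ℕ} (hk : 2 * k ≤ Fintype.card Ω) :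
    charDegree (th Ω k) = Dk (Fintype.card Ω) k :=
  charDegree_eq_of_apply_one (th_apply_one hk)

theorem lev_th {k : ℕ} (hk : 2 * k ≤ Fintype.card Ω) : Lev (th Ω k) k := by
  have h : ip (permChar (Perm Ω) (KS Ω k)) (th Ω k) ≠ 0 := by
    rw [← pc_eq, ip_pc_th hk]; exact one_ne_zero
  obtain ⟨S, hS⟩ := (ip_permChar_ne_zero_iff _ (isIrr_th hk).isCharacter).1 h
  refine lev_iff_fixer.2 ⟨S.1, S.2.le, ip_res_one_ne_zero ?_ (isIrr_th hk).isCharacter hS⟩
  intro σ hσ
  rw [MulAction.mem_stabilizer_iff]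
  conv_rhs => rw [← one_smul (Perm Ω) S]
  exact KS.smul_eq_smul hσ

theorem not_lev_th {k : ℕ} (hk : 2 * (k + 1) ≤ Fintype.card Ω) : ¬ Lev (th Ω (k + 1)) k := by
  rw [lev_iff_fixer]
  rintro ⟨F, hF, h⟩
  refine h ?_
  rw [th, Pi.sub_comp, ip_sub_left, ip_pc_fixer (by omega) (by omega),
    ip_pc_fixer (by omega) (by omega), sub_self]

theorem Lev.mono {χ : Perm Ω → ℂ} {a b : ℕ} (h : Lev χ a) (hab : a ≤ b) : Lev χ b :=
  let ⟨F, h1, h2⟩ := h; ⟨F, h1.trans hab, h2⟩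

variable [Finite G] {ρ : G →* Perm Ω}

theorem Tr.ip_comp {a b : ℕ} (h : Tr ρ (a + b)) (χ ψ : IrrCharacter (Perm Ω)) (hχ : Lev χ.1 a)
    (hψ : Lev ψ.1 b) : ip (χ.1 ∘ ρ) (ψ.1 ∘ ρ) = ip χ.1 ψ.1 := by
  refine ip_comp_eq ρ (Tup Ω a) (Tup Ω b) (fun σ z => ?_) χ ψ ((lev_iff χ.isCharacter).1 hχ)
    ((lev_iff ψ.isCharacter).1 hψ)
  obtain ⟨g, hg⟩ := h σ (supp z.1 ∪ supp z.2) ((card_union_le _ _).trans
    (add_le_add (card_supp_le _) (card_supp_le _)))
  exact ⟨g, Prod.ext ((tup_smul_eq_iff _ _ _).2 fun x hx => hg x (mem_union_left _ hx))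
    ((tup_smul_eq_iff _ _ _).2 fun x hx => hg x (mem_union_right _ hx))⟩

theorem SameSF.ip_comp {k b : ℕ} (h : SameSF ρ k b) (hk : 2 * k ≤ Fintype.card Ω)
    (ψ : IrrCharacter (Perm Ω)) (hψ : Lev ψ.1 b) :
    ip (th Ω k ∘ ρ) (ψ.1 ∘ ρ) = ip (th Ω k) ψ.1 := by
  refine ip_comp_eq ρ (KS Ω k) (Tup Ω b) (fun σ z => ?_) ⟨_, isIrr_th hk⟩ ψ ?_
    ((lev_iff ψ.isCharacter).1 hψ)
  · obtain ⟨g, h1, h2⟩ := h σ z.1.1 (supp z.2) z.1.2 (card_supp_le _)
    exact ⟨g, Prod.ext (Subtype.ext h1) ((tup_smul_eq_iff _ _ _).2 h2)⟩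
  · rw [← pc_eq, ip_pc_th hk]; exact one_ne_zero

theorem sameSS_of_isIrr {k : ℕ} (hk : 2 * k ≤ Fintype.card Ω)
    (h : ∀ i ≤ k, IsIrrCharacter G (th Ω i ∘ ρ))
    (hD : ∀ i < k, Dk (Fintype.card Ω) i < Dk (Fintype.card Ω) (i + 1)) : SameSS ρ k k := by
  have hlt : ∀ j ≤ k, ∀ i < j, Dk (Fintype.card Ω) i < Dk (Fintype.card Ω) j := by
    intro j hj i hi
    induction j with
    | zero => omega
    | succ j ih =>
      rcases Nat.lt_succ_iff_lt_or_eq.1 hi with h' | rfl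
      · exact (ih (by omega) h').trans (hD j (by omega))
      · exact hD i (by omega)
  have hip : ∀ i ∈ range (k + 1), ∀ j ∈ range (k + 1),
      ip (th Ω i ∘ ρ) (th Ω j ∘ ρ) = if i = j then 1 else 0 := by
    intro i hi j hj
    rw [mem_range, Nat.lt_succ_iff] at hi hj
    split_ifs with hij
    · subst hij
      exact IrrCharacter.ip_self ⟨_, h i hi⟩
    · refine IrrCharacter.ip_of_ne (χ := ⟨_, h i hi⟩) (ψ := ⟨_, h j hj⟩) fun he => ?_
      have := congrFun (congrArg Subtype.val he) 1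
      simp only [Function.comp, map_one] at this
      rw [th_apply_one (by omega), th_apply_one (by omega), Nat.cast_inj] at this
      rcases lt_or_gt_of_ne hij with h' | h'
      · exact (hlt j hj i h').ne this
      · exact (hlt i hi j h').ne' this
  have h1 : ip (pc Ω k ∘ ρ) (pc Ω k ∘ ρ) = ip (pc Ω k) (pc Ω k) := by
    have e : pc Ω k ∘ ρ = ∑ i ∈ range (k + 1), th Ω i ∘ ρ := by
      funext g
      simp [pc_eq_sum]
    rw [ip_pc_pc (by omega), e, ip_sum_left]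
    simp only [ip_sum_right]
    rw [sum_congr rfl fun i hi => sum_congr rfl (hip i hi)]
    rw [sum_congr rfl fun i hi => (sum_ite_eq _ i fun _ => (1 : ℂ)).trans (if_pos hi)]
    simp
  rw [pc_eq, ip_permChar_comp, ip_permChar_permChar, Nat.cast_inj] at h1
  intro σ S T hS hT
  obtain ⟨_, ⟨g, rfl⟩, hg⟩ := same_of_card_le ρ.range h1.le σ
    ((⟨S, hS⟩, ⟨T, hT⟩) : KS Ω k × KS Ω k)
  exact ⟨g, congrArg (·.1.1) hg, congrArg (·.2.1) hg⟩

/-- Representatives of the 15 kernel patterns. -/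
def Orb.pats : Fin 15 → (Fin 4 × Fin 4) × (Fin 4 × Fin 4) :=
  ![((0,0),(0,0)), ((0,0),(0,1)), ((0,0),(1,0)), ((0,0),(1,1)), ((0,0),(1,2)),
    ((0,1),(0,0)), ((0,1),(0,1)), ((0,1),(0,2)), ((0,1),(1,0)), ((0,1),(1,1)), ((0,1),(1,2)),
    ((0,1),(2,0)), ((0,1),(2,1)), ((0,1),(2,2)), ((0,1),(2,3))]

/-- The kernel pattern of a quadruple. -/
def Orb.pat {α : Type*} [DecidableEq α] (z : (α × α) × (α × α)) : List Bool :=
  [z.1.1 = z.1.2, z.1.1 = z.2.1, z.1.1 = z.2.2, z.1.2 = z.2.1, z.1.2 = z.2.2, z.2.1 = z.2.2]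

theorem Orb.pat_map {α β : Type*} [DecidableEq α] [DecidableEq β] {e : α → β}
    (he : Function.Injective e) (z : (α × α) × (α × α)) :
    pat ((e z.1.1, e z.1.2), (e z.2.1, e z.2.2)) = pat z := by
  simp [pat, he.eq_iff]

theorem Orb.pats_injective : Function.Injective (pat ∘ pats) := by decide

/-- A group whose permutation character `π` has `⟨π², π²⟩ = 15` is 4-transitive: the 15 kernel
patterns of maps `Fin 4 → Ω` are invariants, so they are the orbits. -/
theorem tr_four (hn : 4 ≤ Fintype.card Ω)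
    (h : ip (fun g => ((#{x | ρ g x = x} : ℕ) : ℂ) ^ 2)
      (fun g => ((#{x | ρ g x = x} : ℕ) : ℂ) ^ 2) = 15) : Tr ρ 4 := by
  have e : (fun g => ((#{x | ρ g x = x} : ℕ) : ℂ) ^ 2) = permChar (Perm Ω) (Ω × Ω) ∘ ρ := by
    funext g
    rw [permChar_prod, Function.comp, Pi.mul_apply, permChar_apply, Nat.card_eq_fintype_card,
      Fintype.card_subtype, sq]
    rfl
  rw [e, ip_permChar_comp] at h
  have h15 : Nat.card (MulAction.orbitRel.Quotient ρ.range ((Ω × Ω) × (Ω × Ω))) = 15 := by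
    exact_mod_cast h
  intro σ F hF
  obtain ⟨F', hF', -, hc⟩ := exists_subsuperset_card_eq (subset_univ F) hF (by rwa [card_univ])
  let a : Fin 4 → Ω := fun i => (F'.equivFinOfCardEq hc).symm i
  have ha : Function.Injective a :=
    Subtype.val_injective.comp (F'.equivFinOfCardEq hc).symm.injective
  have hle := le_card_orbits (H := Perm Ω) (pat (α := Ω))
    (fun τ z => pat_map τ.injective z)
    (fun i => ((a (pats i).1.1, a (pats i).1.2), (a (pats i).2.1, a (pats i).2.2))) (by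
      intro i j hij
      simp only [Function.comp, pat_map ha] at hij
      exact pats_injective hij)
  obtain ⟨_, ⟨g, rfl⟩, hg⟩ := same_of_card_le ρ.range (by rw [h15]; simpa using hle) σ
    ((a 0, a 1), (a 2, a 3))
  refine ⟨g, fun x hx => ?_⟩
  obtain ⟨i, rfl⟩ : ∃ i, a i = x := ⟨F'.equivFinOfCardEq hc ⟨x, hF' hx⟩, by simp [a]⟩
  fin_cases i
  · exact congrArg (·.1.1) hg
  · exact congrArg (·.1.2) hg
  · exact congrArg (·.2.1) hg
  · exact congrArg (·.2.2) hg

end Cfsg.Snd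

set_option linter.all false in
theorem Cfsg.Rz.Snd_Orb_0 : True := by
  have := @_root_.Cfsg.Snd.Orb.KS.eq_def.{0}
  have := @_root_.Cfsg.Snd.Orb.KS.eq_1.{0}
  have := @_root_.Cfsg.Snd.Orb.KS.fun_cases
  have := @_root_.Cfsg.Snd.Orb.orbMap.eq_def.{0, 0}
  have := @_root_.Cfsg.Snd.Orb.orbMap.eq_1.{0, 0}
  have := @_root_.Cfsg.Snd.Orb.orbMap.fun_cases
  have := @_root_.Cfsg.Snd.Orb.pat.eq_def.{0}
  have := @_root_.Cfsg.Snd.Orb.pat.fun_cases
  have := @_root_.Cfsg.Snd.Orb.fixer.eq_def.{0}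
  have := @_root_.Cfsg.Snd.Orb.fixer.eq_1.{0}
  have := @_root_.Cfsg.Snd.Orb.fixer.fun_cases
  have := @_root_.Cfsg.Snd.Orb.instFintypeKS.eq_def.{0}
  have := @_root_.Cfsg.Snd.Orb.instFintypeKS.eq_1.{0}
  have := @_root_.Cfsg.Snd.Orb.instFintypeKS.fun_cases
  have := @_root_.Cfsg.Snd.Orb.pats.eq_def
  have := @_root_.Cfsg.Snd.Orb.pats.eq_1
  have := @_root_.Cfsg.Snd.Orb.pats.fun_cases
  have := @_root_.Cfsg.Snd.Orb.Tup.eq_def.{0}
  have := @_root_.Cfsg.Snd.Orb.Tup.eq_1.{0}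
  have := @_root_.Cfsg.Snd.Orb.Tup.fun_cases
  have := @_root_.Cfsg.Snd.Orb.instMulActionPermKS.eq_def.{0}
  have := @_root_.Cfsg.Snd.Orb.instMulActionPermKS.eq_1.{0}
  have := @_root_.Cfsg.Snd.Orb.instMulActionPermKS.fun_cases
  have := @_root_.Cfsg.Snd.Orb.supp.eq_def.{0}
  have := @_root_.Cfsg.Snd.Orb.supp.fun_cases
  trivial
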