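import Cfsg.Agent.Snd.Tool
import Cfsg.Agent.Snd.DegB
import Cfsg.Agent.Snd.Orb

/-!
# S4905: the character of degree `n - 1` for `n ≥ 9`

`a = n - 1`, `b = n(n-3)/2`, `c = b + 1`. `exists_eps_of`: transport `three_deg`; the sign
character of `Perm (Fin n)` is a second linear character. A character `χ` of degree `a` exists
(`th 1`). `ε χ ≠ χ` by `half_kill` and `low_deg` (`a² - 4 = 2(x a + y b + z c)` is impossible; `n = 10`:
`even_of_sg_mul`), so `χ, ε χ` are the characters of degree `a` (`three_deg`).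
`χ χ̄ = 1 + ∑ s` with `ε ∉ s`, `a² - 1 = x a + y b + z c` gives `(1,1,1)`
(`typeI_of_mul_star`) or `a` odd, `y = 1`, `z = 0`, `x = m = (a+1)/2`. In the second case let
`φ = χ|A` (real, irreducible, odd degree, so `ν φ = 1`): `φ² = 1 + β|A + m φ`, the alternating
square has degree `c` and does not contain `1`, so it is `(m-1) φ` and
`φ(g²) = 1 + β - (m-2) φ` has norm `1 + ⟨β|A, β|A⟩ + (m-2)²`, while
`fsInd (φ²) = 1 + fsInd (β|A) + m ≤ 1 + ⟨β|A, β|A⟩ + m`; so `(m-2)² ≤ m`, `m ≤ 4`, `n ≤ 8`.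
-/

set_option autoImplicit false
set_option linter.unusedSectionVars false

namespace Cfsg.Snd

open Equiv Finset

variable {G : Type*} [Group G] [Finite G] {n : ℕ}

namespace Start

theorem arith1 {a b x y z : ℕ} (ha : 8 ≤ a) (hb : 2 * b + a + 2 = a * a)
    (h : 2 * (x * a + y * b + z * (b + 1)) + 4 = a * a) : False := by
  have h1 : 8 * a ≤ a * a := Nat.mul_le_mul_right _ ha
  rcases (by omega : 2 ≤ y + z ∨ (y = 1 ∧ z = 0) ∨ (y = 0 ∧ z = 1) ∨ (y = 0 ∧ z = 0)) with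
    h2 | ⟨rfl, rfl⟩ | ⟨rfl, rfl⟩ | ⟨rfl, rfl⟩
  · have := Nat.mul_le_mul_right b h2
    nlinarith [Nat.zero_le (x * a)]
  · rcases x with _ | x
    · omega
    · rw [add_mul] at h
      omega
  · rcases x with _ | x
    · omega
    · rw [add_mul] at h
      omega
  · have : a ∣ 4 := (Nat.dvd_add_right (Dvd.intro_left (2 * x) rfl)).1
      (Dvd.intro a (by rw [← h]; ring))
    have := Nat.le_of_dvd (by norm_num) this
    omega

theorem arith2 {a b x y z : ℕ} (ha : 8 ≤ a) (hb : 2 * b + a + 2 = a * a)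
    (h : x * a + y * b + z * (b + 1) + 1 = a * a) :
    (x = 1 ∧ y = 1 ∧ z = 1) ∨ (2 * x = a + 1 ∧ y = 1 ∧ z = 0) := by
  have h1 : 8 * a ≤ a * a := Nat.mul_le_mul_right _ ha
  rcases (by omega : 3 ≤ y + z ∨ y + z = 2 ∨ (y = 1 ∧ z = 0) ∨ (y = 0 ∧ z = 1) ∨
    (y = 0 ∧ z = 0)) with h2 | h2 | ⟨rfl, rfl⟩ | ⟨rfl, rfl⟩ | ⟨rfl, rfl⟩
  · have := Nat.mul_le_mul_right b h2
    nlinarith [Nat.zero_le (x * a)]
  · have h3 : x * a + z = a + 1 := by
      have : y * b + z * b = 2 * b := by rw [← h2]; ring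
      nlinarith
    rcases (by omega : x = 0 ∨ x = 1 ∨ 2 ≤ x) with rfl | rfl | h4
    · omega
    · omega
    · have := Nat.mul_le_mul_right a h4
      omega
  · exact Or.inr ⟨Nat.eq_of_mul_eq_mul_right (by omega : 0 < a) (by nlinarith), rfl, rfl⟩
  · have : a ∣ 2 := (Nat.dvd_add_right (Dvd.intro_left (2 * x) rfl)).1
      (Dvd.intro (a + 1) (by nlinarith))
    have := Nat.le_of_dvd (by norm_num) this
    omega
  · have : a ∣ 1 := (Nat.dvd_add_right (Dvd.intro_left x rfl)).1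
      (Dvd.intro a (by rw [← h]; ring))
    have := Nat.le_of_dvd (by norm_num) this
    omega

theorem split3 {α : Type*} {P Q R : α → Prop} (s : Multiset α) (h : ∀ x ∈ s, P x ∨ Q x ∨ R x) :
    ∃ s₁ s₂ s₃ : Multiset α, s = s₁ + s₂ + s₃ ∧ (∀ x ∈ s₁, P x) ∧ (∀ x ∈ s₂, Q x) ∧
      ∀ x ∈ s₃, R x := by
  induction s using Multiset.induction_on with
  | empty => exact ⟨0, 0, 0, rfl, by simp, by simp, by simp⟩
  | cons y s ih =>
    obtain ⟨s₁, s₂, s₃, rfl, h1, h2, h3⟩ := ih fun x hx => h x (Multiset.mem_cons_of_mem hx)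
    rcases h y (Multiset.mem_cons_self _ _) with e | e | e
    · exact ⟨y ::ₘ s₁, s₂, s₃, by simp, Multiset.forall_mem_cons.2 ⟨e, h1⟩, h2, h3⟩
    · exact ⟨s₁, y ::ₘ s₂, s₃, by simp, h1, Multiset.forall_mem_cons.2 ⟨e, h2⟩, h3⟩
    · exact ⟨s₁, s₂, y ::ₘ s₃, by simp, h1, h2, Multiset.forall_mem_cons.2 ⟨e, h3⟩⟩

theorem sum_map_eq {α M : Type*} [AddCommMonoid M] {s : Multiset α} {f : α → M} {v : M}
    (h : ∀ x ∈ s, f x = v) : (s.map f).sum = Multiset.card s • v := by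
  rw [Multiset.map_congr rfl h, Multiset.map_const', Multiset.sum_replicate]

theorem sum_apply_eq {s : Multiset (IrrCharacter G)} {g : G} {v : ℂ} (h : ∀ ψ ∈ s, ψ.1 g = v) :
    (s.map (·.1)).sum g = Multiset.card s * v := by
  rw [Pi.multiset_sum_apply, Multiset.map_map, ← nsmul_eq_mul]
  exact sum_map_eq h

theorem exists_comb {a b c : ℕ} {t : Multiset ℕ} (h : ∀ d ∈ t, d = a ∨ d = b ∨ d = c) :
    ∃ x y z : ℕ, t.sum = x * a + y * b + z * c := by
  obtain ⟨s₁, s₂, s₃, rfl, h1, h2, h3⟩ := split3 t h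
  refine ⟨Multiset.card s₁, Multiset.card s₂, Multiset.card s₃, ?_⟩
  rw [Multiset.sum_add, Multiset.sum_add, ← Multiset.map_id' s₁, ← Multiset.map_id' s₂,
    ← Multiset.map_id' s₃, sum_map_eq h1, sum_map_eq h2, sum_map_eq h3]
  simp

/-- The small degrees. -/
def Low (a b d : ℕ) : Prop := d = a ∨ d = b ∨ d = b + 1 ∨ a * a < d ∨
  (a = 8 ∧ (d = 42 ∨ d = 48 ∨ d = 56)) ∨ (a = 9 ∧ (d = 42 ∨ d = 75))

theorem low {a b : ℕ} (ha : 8 ≤ a) (hb : 2 * b + a + 2 = a * a) (h : SameDeg G (a + 1))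
    (χ : IrrCharacter G) (h1 : 1 < charDegree χ.1) : Low a b (charDegree χ.1) := by
  obtain ⟨f, hf⟩ := h
  have h2 := low_deg (by omega) (f χ) (hf χ)
  generalize charDegree χ.1 = d at h1 h2
  obtain ⟨k, rfl⟩ : ∃ k, a = k + 2 := ⟨a - 2, by omega⟩
  simp only [show k + 2 + 1 - 3 = k from rfl, show k + 2 + 1 - 1 = k + 2 from rfl,
    show k + 2 + 1 - 2 = k + 1 from rfl, List.mem_cons, List.not_mem_nil, or_false, sq] at h2
  have e1 : (k + 2 + 1) * k = 2 * b := by nlinarith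
  have e2 : (k + 2) * (k + 1) = 2 * b + 2 := by nlinarith
  unfold Low
  omega

theorem of_low {a b : ℕ} (hb : 2 * b + a + 2 = a * a) {t : Multiset ℕ}
    (h : ∀ d ∈ t, Low a b d) (hs : t.sum + 1 = a * a) : ∀ d ∈ t, d = a ∨ d = b ∨ d = b + 1 := by
  intro d hd
  by_contra hn
  obtain ⟨t, rfl⟩ := Multiset.exists_cons_of_mem hd
  rw [Multiset.sum_cons] at hs
  have h1 := h d hd
  unfold Low at h1
  obtain ⟨x, y, z, e⟩ := exists_comb (t := t) (a := a) (b := b) (c := b + 1) fun d' hd' => by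
    have h2 := h d' (Multiset.mem_cons_of_mem hd')
    have h3 := Multiset.le_sum_of_mem hd'
    unfold Low at h2
    rcases (by omega : a = 8 ∨ a = 9) with rfl | rfl <;> omega
  rcases (by omega : a = 8 ∨ a = 9) with rfl | rfl
  · obtain rfl : b = 27 := by omega
    omega
  · obtain rfl : b = 35 := by omega
    omega

theorem three {d : ℕ} (hn : 9 ≤ n) (h : SameDeg G n) (hd : d = 1 ∨ d + 1 = n)
    (χ₁ χ₂ χ₃ : IrrCharacter G) (h₁ : charDegree χ₁.1 = d) (h₂ : charDegree χ₂.1 = d)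
    (h₃ : charDegree χ₃.1 = d) : χ₁ = χ₂ ∨ χ₁ = χ₃ ∨ χ₂ = χ₃ := by
  obtain ⟨f, hf⟩ := h
  simpa using three_deg hn hd (f χ₁) (f χ₂) (f χ₃) ((hf _).trans h₁) ((hf _).trans h₂)
    ((hf _).trans h₃)

theorem sg_ker (ε : G →* ℤˣ) (g : ε.ker) : sg ε g = 1 := by
  simp [sg, MonoidHom.mem_ker.1 g.2]

theorem res_eq {ε : G →* ℤˣ} (hε : ε ≠ 1) (ξ ψ : IrrCharacter G)
    (h : ip (ξ.1 ∘ ε.ker.subtype) (ψ.1 ∘ ε.ker.subtype) ≠ 0) (g : ε.ker) : ψ.1 g = ξ.1 g := by
  rw [ip_ker hε] at h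
  by_cases e : ξ = ψ
  · rw [e]
  rw [IrrCharacter.ip_of_ne e, zero_add] at h
  have e' : ξ = ⟨_, isIrr_sg_mul ε ψ⟩ := by
    by_contra e'
    exact h (IrrCharacter.ip_of_ne e')
  rw [e']
  simp [sg_ker]

theorem ip_res_zero {ε : G →* ℤˣ} (hε : ε ≠ 1) (ξ ψ : IrrCharacter G)
    (h : charDegree ξ.1 ≠ charDegree ψ.1) :
    ip (ξ.1 ∘ ε.ker.subtype) (ψ.1 ∘ ε.ker.subtype) = 0 := by
  by_contra e
  have := res_eq hε ξ ψ e 1
  rw [OneMemClass.coe_one, ψ.apply_one, ξ.apply_one] at this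
  exact h (Nat.cast_injective this).symm

theorem ip_altSq {ψ : G → ℂ} (h : star ψ = ψ) :
    ip (fun g => (ψ g ^ 2 - ψ (g * g)) / 2) (fun _ => 1) = (ip ψ ψ - fsInd ψ) / 2 := by
  have e : (fun g => (ψ g ^ 2 - ψ (g * g)) / 2) =
      (2⁻¹ : ℂ) • (ψ * ψ - fun g => ψ (g * g)) := by
    funext g
    simp only [Pi.smul_apply, Pi.sub_apply, Pi.mul_apply, smul_eq_mul]
    ring
  have e2 : (fun _ => (1 : ℂ)) * ψ = ψ := by
    funext g
    simp
  rw [e, ip_smul_left, ip_sub_left, ip_mul_left, h, e2, ← fsInd_eq_ip]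
  ring

theorem second {ε : G →* ℤˣ} (hε : ε ≠ 1) {a b m : ℕ} (ha : 8 ≤ a) (hb : 2 * b + a + 2 = a * a)
    (hm : 2 * m = a + 1) (χ β : IrrCharacter G) (hχ : charDegree χ.1 = a)
    (hβ : charDegree β.1 = b) (hne : sg ε * χ.1 ≠ χ.1)
    (hr : ∀ g : ε.ker, (starRingEnd ℂ) (χ.1 g) = χ.1 g)
    (h : ∀ g : ε.ker, χ.1 g * χ.1 g = 1 + β.1 g + m * χ.1 g) : False := by
  have h8 : 8 * a ≤ a * a := Nat.mul_le_mul_right _ ha
  have h1 : charDegree (IrrCharacter.one G).1 = 1 := charDegree_eq_of_apply_one (by simp)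
  obtain ⟨φ, hφ⟩ : ∃ φ, φ = χ.1 ∘ ε.ker.subtype := ⟨_, rfl⟩
  obtain ⟨B, hB⟩ : ∃ B, B = β.1 ∘ ε.ker.subtype := ⟨_, rfl⟩
  obtain ⟨U, hU⟩ : ∃ U, U = (IrrCharacter.one G).1 ∘ ε.ker.subtype := ⟨_, rfl⟩
  have hU' : U = fun _ => 1 := hU
  have φa : ∀ g, φ g = χ.1 g := fun g => by rw [hφ]; rfl
  have Ba : ∀ g, B g = β.1 g := fun g => by rw [hB]; rfl
  have Ua : ∀ g, U g = 1 := fun g => by rw [hU']
  have iφ : IsIrrCharacter ε.ker φ := hφ ▸ isIrr_comp_ker hε χ hne
  have sφ : star φ = φ := funext fun g => by rw [Pi.star_apply, φa]; exact hr g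
  have sB : star B = B := funext fun g => by
    have e : B g = χ.1 g * χ.1 g - 1 - m * χ.1 g := by rw [h, Ba]; ring
    rw [Pi.star_apply, e]
    simp [hr]
  have eUU : ip U U = 1 := hU' ▸ (IrrCharacter.one ε.ker).ip_self
  have eφφ : ip φ φ = 1 := IrrCharacter.ip_self ⟨φ, iφ⟩
  have eUB : ip U B = 0 := by rw [hU, hB]; exact ip_res_zero hε _ _ (by omega)
  have eBU : ip B U = 0 := by rw [hU, hB]; exact ip_res_zero hε _ _ (by omega)
  have eUφ : ip U φ = 0 := by rw [hU, hφ]; exact ip_res_zero hε _ _ (by omega)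
  have eφU : ip φ U = 0 := by rw [hU, hφ]; exact ip_res_zero hε _ _ (by omega)
  have eBφ : ip B φ = 0 := by rw [hB, hφ]; exact ip_res_zero hε _ _ (by omega)
  have eφB : ip φ B = 0 := by rw [hB, hφ]; exact ip_res_zero hε _ _ (by omega)
  have nφ : fsInd φ = 1 := IrrCharacter.fsInd_eq_one_of_odd (χ := ⟨φ, iφ⟩)
    (im_eq_zero_iff_star_eq.2 sφ) (by
      have : charDegree φ = a :=
        charDegree_eq_of_apply_one (by rw [φa, OneMemClass.coe_one, χ.apply_one, hχ])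
      change Odd (charDegree φ)
      rw [this]
      exact ⟨m - 1, by omega⟩)
  have hsq : φ * φ = U + B + (m : ℂ) • φ := funext fun g => by
    simp only [Pi.mul_apply, Pi.add_apply, Pi.smul_apply, smul_eq_mul, φa, Ba, Ua, h]
  obtain ⟨L, hL⟩ : ∃ L : G → ℂ, L = fun g => (χ.1 g ^ 2 - χ.1 (g * g)) / 2 := ⟨_, rfl⟩
  have cL : IsCharacter G L := hL ▸ χ.isCharacter.altSq
  have hL' : L ∘ ε.ker.subtype = fun g => (φ g ^ 2 - φ (g * g)) / 2 := by
    rw [hL, hφ]
    rfl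
  obtain ⟨u, hu, -, hu'⟩ := exists_multiset cL
  obtain ⟨s₁, s₂, s₃, rfl, k1, k2, k3⟩ := split3 (P := fun ψ => ∀ g : ε.ker, ψ.1 g = U g)
    (Q := fun ψ => ∀ g : ε.ker, ψ.1 g = B g) (R := fun ψ => ∀ g : ε.ker, ψ.1 g = φ g) u
    fun ψ hψ => by
      have cψ := ψ.isCharacter.comp ε.ker.subtype
      obtain ⟨i, hi⟩ := cL.exists_ip_eq_nat ψ.isCharacter
      obtain ⟨j, hj⟩ := cL.exists_ip_eq_nat (isIrr_sg_mul ε ψ).isCharacter
      obtain ⟨k, hk⟩ := iφ.isCharacter.symSq.exists_ip_eq_nat cψ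
      have hi0 : i ≠ 0 := fun e => (hu' ψ).1 hψ (by rw [hi, e, Nat.cast_zero])
      have e1 : φ * φ = (fun g => (φ g ^ 2 + φ (g * g)) / 2) + L ∘ ε.ker.subtype := by
        rw [hL']
        funext g
        simp only [Pi.mul_apply, Pi.add_apply]
        ring
      have e2 : ip (φ * φ) (ψ.1 ∘ ε.ker.subtype) = ((k + (i + j) : ℕ) : ℂ) := by
        rw [e1, ip_add_left, hk, ip_ker hε, hi, hj]
        push_cast
        rfl
      by_contra hn
      simp only [not_or] at hn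
      have z : ∀ ξ : IrrCharacter G, ¬ (∀ g : ε.ker, ψ.1 g = (ξ.1 ∘ ε.ker.subtype) g) →
          ip (ξ.1 ∘ ε.ker.subtype) (ψ.1 ∘ ε.ker.subtype) = 0 := fun ξ hξ => by
        by_contra e
        exact hξ (res_eq hε ξ ψ e)
      rw [hsq, ip_add_left, ip_add_left, ip_smul_left, hU, hB, hφ, z _ (hU ▸ hn.1),
        z _ (hB ▸ hn.2.1), z _ (hφ ▸ hn.2.2)] at e2
      have e3 : k + (i + j) = 0 := by exact_mod_cast (by rw [← e2]; simp :
        ((k + (i + j) : ℕ) : ℂ) = 0)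
      omega
  have hLg : L ∘ ε.ker.subtype = (Multiset.card s₁ : ℂ) • U + (Multiset.card s₂ : ℂ) • B +
      (Multiset.card s₃ : ℂ) • φ := funext fun g => by
    rw [Function.comp_apply, hu, Multiset.map_add, Multiset.map_add, Multiset.sum_add,
      Multiset.sum_add, Pi.add_apply, Pi.add_apply, Subgroup.subtype_apply,
      sum_apply_eq fun ψ hψ => k1 ψ hψ g, sum_apply_eq fun ψ hψ => k2 ψ hψ g,
      sum_apply_eq fun ψ hψ => k3 ψ hψ g]
    rfl
  generalize Multiset.card s₁ = i, Multiset.card s₂ = j, Multiset.card s₃ = k at hLg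
  have i0 : (i : ℂ) = 0 := by
    have e := ip_altSq sφ
    rw [← hL', ← hU', hLg, ip_add_left, ip_add_left, ip_smul_left, ip_smul_left, ip_smul_left,
      eUU, eBU, eφU, eφφ, nφ] at e
    simpa using e
  have hd : 2 * (j * b + k * a) + a = a * a := by
    have e := congrFun (hL'.symm.trans hLg) 1
    simp only [Pi.add_apply, Pi.smul_apply, smul_eq_mul, mul_one, φa, Ba, Ua, OneMemClass.coe_one,
      i0, IrrCharacter.apply_one, hχ, hβ] at e
    have e' : ((2 * (j * b + k * a) + a : ℕ) : ℂ) = ((a * a : ℕ) : ℂ) := by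
      push_cast
      linear_combination (-2) * e
    exact_mod_cast e'
  have j0 : j = 0 := by
    rcases (by omega : j = 0 ∨ j = 1 ∨ 2 ≤ j) with e | rfl | e
    · exact e
    · rcases k with _ | k
      · omega
      · rw [add_mul] at hd
        omega
    · have := Nat.mul_le_mul_right b e
      omega
  subst j0
  have hk : k + 1 = m := by
    have : 2 * k + 1 = a := Nat.eq_of_mul_eq_mul_right (by omega : 0 < a) (by nlinarith)
    omega
  subst hk
  have hQ : (fun g => φ (g * g)) = U + B + (1 - k : ℂ) • φ := funext fun g => by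
    have e1 := congrFun (hL'.symm.trans hLg) g
    have e2 := congrFun hsq g
    simp only [Pi.add_apply, Pi.smul_apply, Pi.mul_apply, smul_eq_mul, i0] at e1 e2 ⊢
    push_cast at e1 e2
    linear_combination e2 - 2 * e1
  have e := fsInd_mul_self (im_eq_zero_iff_star_eq.2 sφ)
  obtain ⟨r, hr'⟩ := (hB ▸ β.isCharacter.comp ε.ker.subtype :
    IsCharacter ε.ker B).altSq.exists_ip_eq_nat IsCharacter.one
  rw [ip_altSq sB] at hr'
  have nU : fsInd U = 1 := hU' ▸ fsInd_one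
  rw [hQ, hsq, fsInd_add, fsInd_add, fsInd_smul, nφ, nU] at e
  simp only [ip_add_left, ip_add_right, ip_smul_left, ip_smul_right, eUU, eφφ, eUB, eBU, eUφ, eφU,
    eBφ, eφB, map_sub, map_one, map_natCast] at e
  have e' : (((k : ℤ) + 1 : ℤ) : ℂ) = (((1 - k) ^ 2 + 2 * r : ℤ) : ℂ) := by
    push_cast at e ⊢
    linear_combination e + 2 * hr'
  have e'' : (k : ℤ) + 1 = (1 - k) ^ 2 + 2 * r := by exact_mod_cast e'
  have : (4 : ℤ) ≤ k := by omega
  nlinarith

end Start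

open Start

theorem exists_eps_of (hn : 9 ≤ n) (h : SameDeg G n) :
    ∃ ε : G →* ℤˣ, ε ≠ 1 ∧ ∀ χ : IrrCharacter G, charDegree χ.1 = 1 → χ.1 = 1 ∨ χ.1 = sg ε := by
  refine exists_eps (three hn h (Or.inl rfl)) ?_
  obtain ⟨f, hf⟩ := h
  have h1 : charDegree (IrrCharacter.one (Perm (Fin n))).1 = 1 :=
    charDegree_eq_of_apply_one (by simp)
  refine ⟨f.symm (IrrCharacter.one _),
    f.symm ⟨_, isIrr_sg_mul Perm.sign (IrrCharacter.one (Perm (Fin n)))⟩, ?_, ?_, fun e => ?_⟩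
  · rw [← hf, f.apply_symm_apply, h1]
  · rw [← hf, f.apply_symm_apply, charDegree_sg_mul, h1]
  · have e1 := congrFun (congrArg Subtype.val (f.symm.injective e))
      (swap ⟨0, by omega⟩ ⟨1, by omega⟩)
    have e2 : (⟨0, by omega⟩ : Fin n) ≠ ⟨1, by omega⟩ := by simp
    simp only [Pi.mul_apply, sg, Perm.sign_swap e2] at e1
    norm_num [IrrCharacter.one] at e1

theorem typeI_of_nine_le (hn : 9 ≤ n) (h : SameDeg G n) : TypeI G n := by
  obtain ⟨ε, hε, hlin⟩ := exists_eps_of hn h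
  obtain ⟨a, rfl⟩ : ∃ a, n = a + 1 := ⟨n - 1, by omega⟩
  have ha : 8 ≤ a := by omega
  have h8 : 8 * a ≤ a * a := Nat.mul_le_mul_right _ ha
  obtain ⟨b, hb⟩ : ∃ b, 2 * b + a + 2 = a * a := by
    obtain ⟨r, hr⟩ := Nat.even_mul_succ_self a
    exact ⟨r - a - 1, by rw [mul_add] at hr; omega⟩
  obtain ⟨χ, hχ⟩ : ∃ χ : IrrCharacter G, charDegree χ.1 = a := by
    obtain ⟨f, hf⟩ := h
    have h2 : 2 * 1 ≤ Fintype.card (Fin (a + 1)) := by rw [Fintype.card_fin]; omega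
    refine ⟨f.symm ⟨_, isIrr_th h2⟩, ?_⟩
    rw [← hf, f.apply_symm_apply, charDegree_th h2]
    simp [Dk]
  have hne : sg ε * χ.1 ≠ χ.1 := fun e => by
    obtain ⟨t, ht, hs⟩ := half_kill hε hlin χ e
    rw [hχ, sq] at hs
    obtain ⟨x, y, z, e⟩ := exists_comb (t := t) (a := a) (b := b) (c := b + 1) fun d hd => by
      obtain ⟨k1, ψ, rfl⟩ := ht d hd
      have h2 := low ha hb h ψ k1
      have h3 := Multiset.le_sum_of_mem hd
      unfold Low at h2
      rcases (by omega : a = 8 ∨ a = 9 ∨ 10 ≤ a) with rfl | rfl | h4 <;> omega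
    exact arith1 ha hb (e ▸ hs)
  have hda : ∀ ψ : IrrCharacter G, charDegree ψ.1 = a → ψ.1 = χ.1 ∨ ψ.1 = sg ε * χ.1 := by
    intro ψ hψ
    rcases three hn h (Or.inr rfl) ψ χ ⟨_, isIrr_sg_mul ε χ⟩ hψ hχ
      ((charDegree_sg_mul ε _).trans hχ) with e | e | e
    · exact Or.inl (congrArg Subtype.val e)
    · exact Or.inr (congrArg Subtype.val e)
    · exact absurd (congrArg Subtype.val e).symm hne
  have hres : ∀ ψ : IrrCharacter G, charDegree ψ.1 = a → ∀ g : ε.ker, ψ.1 g = χ.1 g := by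
    intro ψ hψ g
    rcases hda ψ hψ with e | e
    · rw [e]
    · rw [e, Pi.mul_apply, sg_ker, one_mul]
  have e1 : ip (χ.1 * star χ.1) (IrrCharacter.one G).1 = 1 := by
    rw [ip_mul_left, star_star, ← χ.ip_self]
    exact congrArg _ (one_mul _)
  have cθ := (χ.isCharacter.mul χ.isCharacter.star).sub_irr (IrrCharacter.one G)
    (e1 ▸ one_ne_zero)
  obtain ⟨s, hs, hsd, hs'⟩ := exists_multiset cθ
  have hdeg : charDegree (χ.1 * star χ.1 - (IrrCharacter.one G).1) + 1 = a * a := by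
    have e := cθ.apply_one
    simp only [Pi.sub_apply, Pi.mul_apply, Pi.star_apply, IrrCharacter.one_apply, χ.apply_one, hχ,
      star_natCast] at e
    have e' : ((charDegree (χ.1 * star χ.1 - (IrrCharacter.one G).1) + 1 : ℕ) : ℂ) =
        ((a * a : ℕ) : ℂ) := by
      push_cast
      linear_combination -e
    exact_mod_cast e'
  have hlt : ∀ ψ ∈ s, 1 < charDegree ψ.1 := fun ψ hψ => by
    by_contra hn1
    have := ψ.charDegree_pos
    apply (hs' ψ).1 hψ
    rw [ip_sub_left]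
    rcases hlin ψ (by omega) with e | e
    · rw [show ψ = IrrCharacter.one G from Subtype.ext e, e1, IrrCharacter.ip_self, sub_self]
    · have e2 : IrrCharacter.one G ≠ ψ := fun e2 => hε (MonoidHom.ext fun g => by
        have e3 := congrFun ((congrArg Subtype.val e2).trans e) g
        simp only [IrrCharacter.one_apply, sg] at e3
        exact Units.val_eq_one.1 (by exact_mod_cast e3.symm))
      rw [IrrCharacter.ip_of_ne e2, ip_mul_left, star_star, e, sub_zero]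
      exact IrrCharacter.ip_of_ne (ψ := ⟨_, isIrr_sg_mul ε χ⟩)
        fun e3 => hne (congrArg Subtype.val e3).symm
  rw [hsd] at hdeg
  have hc := of_low hb (t := s.map fun ψ => charDegree ψ.1) (fun d hd => by
    obtain ⟨ψ, hψ, rfl⟩ := Multiset.mem_map.1 hd
    exact low ha hb h ψ (hlt ψ hψ)) hdeg
  obtain ⟨s₁, s₂, s₃, rfl, k1, k2, k3⟩ := split3 s
    fun ψ hψ => hc _ (Multiset.mem_map_of_mem _ hψ)
  rw [Multiset.map_add, Multiset.map_add, Multiset.sum_add, Multiset.sum_add, sum_map_eq k1,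
    sum_map_eq k2, sum_map_eq k3] at hdeg
  rcases arith2 ha hb hdeg with ⟨c1, c2, c3⟩ | ⟨c1, c2, c3⟩
  · obtain ⟨ξ, rfl⟩ := Multiset.card_eq_one.1 c1
    obtain ⟨β, rfl⟩ := Multiset.card_eq_one.1 c2
    obtain ⟨γ, rfl⟩ := Multiset.card_eq_one.1 c3
    have d1 := k1 ξ (Multiset.mem_singleton_self _)
    have d2 := k2 β (Multiset.mem_singleton_self _)
    have d3 := k3 γ (Multiset.mem_singleton_self _)
    refine typeI_of_mul_star (ε := ε) χ ξ β γ (by omega) d1 (by omega) ?_ (hda ξ d1) ?_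
    · rw [d3, Nat.mul_sub_one]
      omega
    · simp only [Multiset.map_add, Multiset.map_singleton, Multiset.sum_add,
        Multiset.sum_singleton] at hs
      rw [sub_eq_iff_eq_add'] at hs
      rw [hs, ← add_assoc, ← add_assoc]
      rfl
  · obtain ⟨β, rfl⟩ := Multiset.card_eq_one.1 c2
    obtain rfl := Multiset.card_eq_zero.1 c3
    have hr : ∀ g : ε.ker, (starRingEnd ℂ) (χ.1 g) = χ.1 g := fun g =>
      hres χ.bar (charDegree_eq_of_apply_one (by
        rw [IrrCharacter.bar_apply, χ.apply_one, hχ, map_natCast])) g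
    refine (second hε ha hb c1 χ β hχ (k2 β (Multiset.mem_singleton_self _)) hne hr
      fun g => ?_).elim
    have e := congrFun hs g
    rw [add_zero, Multiset.map_add, Multiset.sum_add, Pi.add_apply,
      sum_apply_eq fun ψ hψ => hres ψ (k1 ψ hψ) g] at e
    simp only [Pi.sub_apply, Pi.mul_apply, Pi.star_apply, IrrCharacter.one_apply,
      Multiset.map_singleton, Multiset.sum_singleton, Function.comp_apply, nsmul_eq_mul,
      RCLike.star_def, hr] at e
    linear_combination e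

end Cfsg.Snd

set_option linter.all false in
theorem Cfsg.Rz.Snd_Start_0 : True := by
  have := @_root_.Cfsg.Snd.Start.Low.eq_def
  have := @_root_.Cfsg.Snd.Start.Low.eq_1
  have := @_root_.Cfsg.Snd.Start.Low.fun_cases
  trivial
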