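import Cfsg.Agent.Snd.Par

/-!
# S4905: degrees by the length of the first row; transposition; removing beads

* `prod_bounds`: induction on `k`. For `k > 0` some `t ∈ T` has `1 ≤ t - 1 ∉ T`; replace `t` by
  `t - 1`. Every element is `≤ m + k` and every positive gap below an element is `≥ m + 1 - k`
  (the elements above the gap each contribute to the excess `k`), which bounds `t / (t - 1)`.
* `exists_level`: `x = N + n - k - 1` is the largest bead, `B' = B.erase x`,
  `hk B = hk B' * ∏ T` for `T = {x - c | c < x, c ∉ B}`, `#T = n - k`, excess `k`.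
* `tp`: the pairs `(x ∈ B, c ∉ B, c < x)` correspond to `(2n-1-c, 2n-1-x)`; beads are `< 2n`.
* `exists_norm`: if `n < N` then `0 ∈ B` (`Sym.exists_apply_eq` or directly); erase it and
  subtract 1 from the others.
-/

set_option autoImplicit false
set_option linter.unusedSectionVars false

namespace Cfsg.Snd

open Equiv Finset

namespace DegA

theorem tri_succ (N : ℕ) : Sym.tri (N + 1) = Sym.tri N + N := by
  simp [Sym.tri, Fin.sum_univ_castSucc]

theorem tri_zero : Sym.tri 0 = 0 := by simp [Sym.tri]

theorem two_tri (N : ℕ) : 2 * Sym.tri N + N = N * N := by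
  induction N with
  | zero => simp [tri_zero]
  | succ N ih => rw [tri_succ]; nlinarith

theorem tri_eq (N : ℕ) : Sym.tri N = ∑ i ∈ range N, i := by
  induction N with
  | zero => simp [tri_zero]
  | succ N ih => rw [tri_succ, sum_range_succ, ih]

theorem low (B : Finset ℕ) : Sym.tri #B ≤ ∑ x ∈ B, x := by
  induction B using Finset.induction_on_max with
  | empty => simp [tri_zero]
  | insert a s h ih =>
    have ha : a ∉ s := fun h' => lt_irrefl _ (h a h')
    rw [card_insert_of_notMem ha, sum_insert ha, tri_succ]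
    have : #s ≤ a := by
      have h1 : s ⊆ range a := fun x hx => mem_range.2 (h x hx)
      simpa using card_le_card h1
    omega

theorem max_le {N n : ℕ} {B : Finset ℕ} (h : Bt N n B) {x : ℕ} (hx : x ∈ B) : x + 1 ≤ N + n := by
  obtain ⟨h1, h2⟩ := h
  have h3 := low (B.erase x)
  have h4 := card_erase_add_one hx
  have h5 := add_sum_erase B (fun y => y) hx
  have h6 := tri_succ #(B.erase x)
  rw [h4, h1] at h6
  omega

theorem gap_ge {N n : ℕ} {B : Finset ℕ} (h : Bt N n B) {c : ℕ} (hc : c ∉ B) : N ≤ c + n := by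
  obtain ⟨h1, h2⟩ := h
  have hinj : Set.InjOn (fun x => if c < x then x - 1 else x) (B : Set ℕ) := by
    intro x hx y hy hxy
    have hx' : x ≠ c := fun e => hc (e ▸ hx)
    have hy' : y ≠ c := fun e => hc (e ▸ hy)
    simp only at hxy
    split_ifs at hxy <;> omega
  have h3 := low (B.image (fun x => if c < x then x - 1 else x))
  rw [card_image_of_injOn hinj, sum_image hinj, h1] at h3
  have h4 : ∑ x ∈ B, x = ∑ x ∈ B, (if c < x then x - 1 else x) + #{x ∈ B | c < x} := by
    rw [card_filter, ← sum_add_distrib]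
    refine sum_congr rfl fun x _ => ?_
    split_ifs <;> omega
  have h5 : #{x ∈ B | ¬ c < x} ≤ c := by
    have : {x ∈ B | ¬ c < x} ⊆ range c := by
      intro x hx
      rw [mem_filter] at hx
      have hx' : x ≠ c := fun e => hc (e ▸ hx.1)
      rw [mem_range]; omega
    simpa using card_le_card this
  have h6 := card_filter_add_card_filter_not (s := B) (fun x => c < x)
  omega

theorem bt_insert {T : Finset ℕ} (h0 : 0 ∉ T) {m k : ℕ} (hm : #T = m)
    (hs : 2 * ∑ t ∈ T, t = m * (m + 1) + 2 * k) : Bt (m + 1) k (insert 0 T) := by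
  refine ⟨by rw [card_insert_of_notMem h0, hm], ?_⟩
  rw [sum_insert h0]
  have := two_tri (m + 1)
  nlinarith

theorem exists_step {N n : ℕ} {B : Finset ℕ} (h : Bt N (n + 1) B) :
    ∃ s, s + 1 ∈ B ∧ s ∉ B := by
  by_contra hn
  push Not at hn
  have h1 : ∀ x, x ∈ B → range (x + 1) ⊆ B := by
    intro x
    induction x with
    | zero => intro hx y hy; rw [mem_range] at hy; obtain rfl : y = 0 := by omega
              exact hx
    | succ x ih =>
      intro hx y hy
      rw [mem_range] at hy
      rcases Nat.lt_or_ge y (x + 1) with h2 | h2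
      · exact ih (hn x hx) (mem_range.2 h2)
      · obtain rfl : y = x + 1 := by omega
        exact hx
  have h2 : B ⊆ range N := by
    intro x hx
    have := card_le_card (h1 x hx)
    rw [card_range, h.1] at this
    exact mem_range.2 this
  have h3 : B = range N := eq_of_subset_of_card_le h2 (by rw [card_range, h.1])
  have h4 := h.2
  rw [h3, ← tri_eq] at h4
  omega

theorem hk_pos (B : Finset ℕ) : 0 < hk B :=
  prod_pos fun x _ => prod_pos fun c hc => by
    have := mem_range.1 (mem_filter.1 hc).1
    omega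

theorem mem_tp {n y : ℕ} {B : Finset ℕ} :
    y ∈ (range (2 * n) \ B).image (fun c => 2 * n - 1 - c) ↔ y < 2 * n ∧ 2 * n - 1 - y ∉ B := by
  rw [mem_image]
  constructor
  · rintro ⟨c, hc, rfl⟩
    rw [mem_sdiff, mem_range] at hc
    refine ⟨by omega, ?_⟩
    rw [show 2 * n - 1 - (2 * n - 1 - c) = c by omega]
    exact hc.2
  · rintro ⟨h1, h2⟩
    refine ⟨2 * n - 1 - y, ?_, by omega⟩
    rw [mem_sdiff, mem_range]
    exact ⟨by omega, h2⟩

theorem hk_eq {M : ℕ} {B : Finset ℕ} (h : ∀ x ∈ B, x < M) :
    hk B = ∏ x ∈ range M, ∏ c ∈ range M, if x ∈ B ∧ c ∉ B ∧ c < x then x - c else 1 := by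
  unfold hk
  have h1 : B = {x ∈ range M | x ∈ B} := by
    ext x
    simp only [mem_filter, mem_range]
    exact ⟨fun hx => ⟨h x hx, hx⟩, fun hx => hx.2⟩
  conv_lhs => rw [h1, prod_filter]
  refine prod_congr rfl fun x hx => ?_
  rw [← h1]
  split_ifs with hxB
  · rw [← prod_filter]
    refine prod_congr ?_ fun _ _ => rfl
    ext c
    have := h x hxB
    simp only [mem_filter, mem_range]
    constructor
    · rintro ⟨h2, h3⟩
      exact ⟨by omega, hxB, h3, h2⟩
    · rintro ⟨-, -, h3, h2⟩
      exact ⟨h2, h3⟩
  · symm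
    exact prod_eq_one fun c _ => if_neg fun hh => hxB hh.1

end DegA

open DegA

theorem prod_bounds {T : Finset ℕ} (h0 : 0 ∉ T) {m k : ℕ} (hm : #T = m)
    (hs : 2 * ∑ t ∈ T, t = m * (m + 1) + 2 * k) :
    m.factorial * (m + k) ≤ m * ∏ t ∈ T, t ∧ (m + 1 - k) * ∏ t ∈ T, t ≤ (m + 1).factorial := by
  induction k generalizing T with
  | zero =>
    have hB := bt_insert h0 hm hs
    have h1 : T ⊆ Ico 1 (m + 1) := by
      intro t ht
      have h2 := max_le hB (mem_insert_of_mem ht)
      have h3 : t ≠ 0 := fun e => h0 (e ▸ ht)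
      rw [mem_Ico]; omega
    have h2 : T = Ico 1 (m + 1) := eq_of_subset_of_card_le h1 (by simp [hm])
    rw [h2, prod_Ico_id_eq_factorial, Nat.factorial_succ]
    simp [mul_comm]
  | succ k ih =>
    have hB := bt_insert h0 hm hs
    obtain ⟨s, hs1, hs2⟩ := exists_step hB
    have hsT : s + 1 ∈ T := by
      rcases mem_insert.1 hs1 with h | h
      · omega
      · exact h
    have hs0 : s ≠ 0 := fun e => hs2 (e ▸ mem_insert_self _ _)
    have hsT' : s ∉ T.erase (s + 1) := fun h => hs2 (mem_insert_of_mem (mem_of_mem_erase h))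
    have h1 := max_le hB hs1
    have h2 := gap_ge hB hs2
    have h3 := add_sum_erase T (fun y => y) hsT
    have h4 := mul_prod_erase T (fun y => y) hsT
    have h5 := card_erase_add_one hsT
    obtain ⟨i1, i2⟩ := ih (T := insert s (T.erase (s + 1)))
      (by
        intro h
        rcases mem_insert.1 h with h | h
        · exact hs0 h.symm
        · exact h0 (mem_of_mem_erase h))
      (by rw [card_insert_of_notMem hsT']; omega)
      (by rw [sum_insert hsT']; omega)
    rw [prod_insert hsT'] at i1 i2
    rw [← h4]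
    set P := ∏ t ∈ T.erase (s + 1), t
    constructor
    · have h6 : m.factorial ≤ m * P := by
        have h7 : m.factorial * (m + k) ≤ (m * P) * (m + k) := by
          calc m.factorial * (m + k) ≤ m * (s * P) := i1
            _ = (m * P) * s := by ring
            _ ≤ (m * P) * (m + k) := Nat.mul_le_mul_left _ (by omega)
        exact Nat.le_of_mul_le_mul_right h7 (by omega)
      calc m.factorial * (m + (k + 1)) = m.factorial * (m + k) + m.factorial := by ring
        _ ≤ m * (s * P) + m * P := Nat.add_le_add i1 h6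
        _ = m * ((s + 1) * P) := by ring
    · refine le_trans ?_ i2
      rw [← mul_assoc, ← mul_assoc]
      apply Nat.mul_le_mul_right
      rcases Nat.lt_or_ge m k with h6 | h6
      · rw [show m + 1 - (k + 1) = 0 by omega]; simp
      · obtain ⟨a, rfl⟩ := Nat.exists_eq_add_of_le h6
        rw [show k + a + 1 - (k + 1) = a by omega, show k + a + 1 - k = a + 1 by omega]
        have : a ≤ s := by omega
        nlinarith

theorem exists_level {N n k : ℕ} {B : Finset ℕ} (h : Bt (N + 1) n B) (h1 : RowGe (N + 1) n k B)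
    (h2 : ¬ RowGe (N + 1) n (k + 1) B) : ∃ B', Bt N k B' ∧ B = insert (N + n - k) B' ∧
      dg k B' * n.choose k * (n - k + 1 - k) ≤ dg n B * (n - k + 1) ∧
      dg n B * n ≤ dg k B' * n.choose k * (n - k) := by
  unfold RowGe at h1 h2
  push Not at h2
  obtain ⟨x, hx, hx2⟩ := h2
  have hx1 := h1 x hx
  have hxe : x + k = N + n := by omega
  have hlt : ∀ y ∈ B.erase x, y < x := by
    intro y hy
    have := h1 y (mem_of_mem_erase hy)
    have := ne_of_mem_erase hy
    omega
  have hc := card_erase_add_one hx
  have hs := add_sum_erase B (fun y => y) hx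
  have hB' : Bt N k (B.erase x) := by
    refine ⟨by have := h.1; omega, ?_⟩
    have := h.2
    have := tri_succ N
    omega
  have hsub : B.erase x ⊆ range x := fun y hy => mem_range.2 (hlt y hy)
  have hNx : N ≤ x := by
    have := card_le_card hsub
    rw [card_range, hB'.1] at this
    exact this
  obtain ⟨m, rfl⟩ := Nat.exists_eq_add_of_le hNx
  obtain rfl : n = m + k := by omega
  set x := N + m with hxdef
  have hfil : {c ∈ range x | c ∉ B} = range x \ B.erase x := by
    ext c
    simp only [mem_filter, mem_range, mem_sdiff, mem_erase]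
    constructor
    · rintro ⟨a, b⟩
      exact ⟨a, fun hh => b hh.2⟩
    · rintro ⟨a, b⟩
      exact ⟨a, fun hh => b ⟨by omega, hh⟩⟩
  have hinj : Set.InjOn (fun c => x - c) ((range x \ B.erase x : Finset ℕ) : Set ℕ) := by
    intro a ha b hb hab
    have ha' := mem_range.1 (mem_sdiff.1 (mem_coe.1 ha)).1
    have hb' := mem_range.1 (mem_sdiff.1 (mem_coe.1 hb)).1
    simp only at hab
    omega
  have hT := prod_bounds (T := (range x \ B.erase x).image (fun c => x - c)) (m := m) (k := k)
    (by
      intro h0
      obtain ⟨c, hc1, hc2⟩ := mem_image.1 h0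
      have := mem_range.1 (mem_sdiff.1 hc1).1
      omega)
    (by rw [card_image_of_injOn hinj, card_sdiff_of_subset hsub, card_range, hB'.1]; omega)
    (by
      rw [sum_image hinj]
      have e1 := sum_sdiff hsub (f := fun c => x - c)
      have e2 : ∑ c ∈ range x, (x - c) + ∑ c ∈ range x, c = x * x := by
        rw [← sum_add_distrib, sum_congr rfl (g := fun _ => x)]
        · simp
        · intro c hc
          have := mem_range.1 hc
          omega
      have e3 : ∑ c ∈ B.erase x, (x - c) + ∑ c ∈ B.erase x, c = N * x := by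
        rw [← sum_add_distrib, sum_congr rfl (g := fun _ => x)]
        · simp [hB'.1]
        · intro c hc
          have := hlt c hc
          omega
      rw [← tri_eq] at e2
      rw [hB'.2] at e3
      have e4 := two_tri x
      have e5 := two_tri N
      have e6 : x * x + N * N = m * m + 2 * (N * x) := by rw [hxdef]; ring
      have e7 : m * (m + 1) = m * m + m := by ring
      omega)
  rw [prod_image hinj] at hT
  set Q := ∏ c ∈ range x \ B.erase x, (x - c) with hQ
  have hhk : hk B = Q * hk (B.erase x) := by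
    unfold hk
    rw [← mul_prod_erase B _ hx, hfil]
    congr 1
    refine prod_congr rfl fun y hy => prod_congr ?_ fun _ _ => rfl
    ext c
    have := hlt y hy
    simp only [mem_filter, mem_range, mem_erase]
    constructor
    · rintro ⟨a, b⟩
      exact ⟨a, fun hh => b hh.2⟩
    · rintro ⟨a, b⟩
      exact ⟨a, fun hh => b ⟨by omega, hh⟩⟩
  have d1 := dg_mul_hk h
  have d2 := dg_mul_hk hB'
  have d3 : (m + k).choose k * k.factorial * m.factorial = (m + k).factorial := by
    have := Nat.choose_mul_factorial_mul_factorial (n := m + k) (k := k) (by omega)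
    rwa [show m + k - k = m by omega] at this
  set d := dg (m + k) B
  set f := dg k (B.erase x)
  set C := (m + k).choose k
  have d4 : d * Q = f * C * m.factorial := by
    apply Nat.eq_of_mul_eq_mul_right (hk_pos (B.erase x))
    calc d * Q * hk (B.erase x) = d * hk B := by rw [hhk]; ring
      _ = C * (f * hk (B.erase x)) * m.factorial := by rw [d1, d2, d3]
      _ = f * C * m.factorial * hk (B.erase x) := by ring
  refine ⟨B.erase x, hB', ?_, ?_, ?_⟩
  · rw [show N + (m + k) - k = x by omega, insert_erase hx]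
  · rw [show m + k - k = m by omega]
    apply Nat.le_of_mul_le_mul_right _ m.factorial_pos
    calc f * C * (m + 1 - k) * m.factorial = d * ((m + 1 - k) * Q) := by
          rw [mul_right_comm, ← d4]; ring
      _ ≤ d * (m + 1).factorial := Nat.mul_le_mul_left _ hT.2
      _ = d * (m + 1) * m.factorial := by rw [Nat.factorial_succ]; ring
  · rw [show m + k - k = m by omega]
    apply Nat.le_of_mul_le_mul_right _ m.factorial_pos
    calc d * (m + k) * m.factorial = d * (m.factorial * (m + k)) := by ring
      _ ≤ d * (m * Q) := Nat.mul_le_mul_left _ hT.1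
      _ = (d * Q) * m := by ring
      _ = f * C * m * m.factorial := by rw [d4]; ring

theorem Bt.rowGe_zero {N n : ℕ} {B : Finset ℕ} (h : Bt N n B) : RowGe N n 0 B :=
  fun _ hx => max_le h hx

theorem Bt.colGe_zero {N n : ℕ} {B : Finset ℕ} (h : Bt N n B) : ColGe N n 0 B := by
  intro c hc
  by_contra hn
  have := gap_ge h hn
  omega

/-- The transposed partition. -/
def tp (n : ℕ) (B : Finset ℕ) : Finset ℕ := (range (2 * n) \ B).image (fun c => 2 * n - 1 - c)

theorem Bt.tp {n : ℕ} {B : Finset ℕ} (h : Bt n n B) : Bt n n (tp n B) ∧ hk (tp n B) = hk B ∧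
    tp n (tp n B) = B ∧ ∀ k ≤ n, (RowGe n n k (tp n B) ↔ ColGe n n k B) := by
  have hlt : ∀ x ∈ B, x < 2 * n := fun x hx => by have := max_le h hx; omega
  have hsub : B ⊆ range (2 * n) := fun x hx => mem_range.2 (hlt x hx)
  have hmem : ∀ (B : Finset ℕ) y, y ∈ Snd.tp n B ↔ y < 2 * n ∧ 2 * n - 1 - y ∉ B :=
    fun B y => mem_tp
  have hinj : Set.InjOn (fun c => 2 * n - 1 - c) ((range (2 * n) \ B : Finset ℕ) : Set ℕ) := by
    intro a ha b hb hab
    have ha' := mem_range.1 (mem_sdiff.1 (mem_coe.1 ha)).1
    have hb' := mem_range.1 (mem_sdiff.1 (mem_coe.1 hb)).1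
    simp only at hab
    omega
  refine ⟨⟨?_, ?_⟩, ?_, ?_, ?_⟩
  · unfold Snd.tp
    rw [card_image_of_injOn hinj, card_sdiff_of_subset hsub, card_range, h.1]
    omega
  · unfold Snd.tp
    rw [sum_image hinj]
    have e1 := sum_sdiff hsub (f := fun c => 2 * n - 1 - c)
    have e2 : ∑ c ∈ range (2 * n), (2 * n - 1 - c) = ∑ c ∈ range (2 * n), c :=
      sum_range_reflect (fun c => c) (2 * n)
    have e3 : ∑ c ∈ B, (2 * n - 1 - c) + ∑ c ∈ B, c + n = n * (2 * n) := by
      rw [← h.1, card_eq_sum_ones, ← sum_add_distrib, ← sum_add_distrib, ← card_eq_sum_ones, h.1,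
        sum_congr rfl (g := fun _ => 2 * n)]
      · simp [h.1]
      · intro c hc
        have := hlt c hc
        omega
    rw [← tri_eq] at e2
    rw [h.2] at e3
    have e4 := two_tri (2 * n)
    have e5 := two_tri n
    have e6 : 2 * n * (2 * n) = 4 * (n * n) := by ring
    have e7 : n * (2 * n) = 2 * (n * n) := by ring
    omega
  · rw [hk_eq hlt, hk_eq (M := 2 * n) (fun x hx => ((hmem B x).1 hx).1), prod_comm,
      ← prod_range_reflect]
    refine prod_congr rfl fun x hx => ?_
    rw [← prod_range_reflect]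
    refine prod_congr rfl fun c hc => ?_
    have hx' := mem_range.1 hx
    have hc' := mem_range.1 hc
    simp only [hmem]
    rw [show 2 * n - 1 - (2 * n - 1 - c) = c by omega, show 2 * n - 1 - (2 * n - 1 - x) = x by omega]
    by_cases h1 : x ∈ B ∧ c ∉ B ∧ c < x
    · rw [if_pos h1, if_pos]
      · omega
      · exact ⟨⟨by omega, h1.2.1⟩, fun hh => hh.2 h1.1, by omega⟩
    · rw [if_neg h1, if_neg]
      rintro ⟨⟨-, a⟩, b, c'⟩
      apply h1
      refine ⟨?_, a, by omega⟩
      by_contra hn
      exact b ⟨by omega, hn⟩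
  · ext y
    rw [hmem, hmem]
    constructor
    · rintro ⟨a, b⟩
      by_contra hn
      apply b
      refine ⟨by omega, ?_⟩
      rwa [show 2 * n - 1 - (2 * n - 1 - y) = y by omega]
    · intro hy
      have := hlt y hy
      refine ⟨this, fun hh => hh.2 ?_⟩
      rwa [show 2 * n - 1 - (2 * n - 1 - y) = y by omega]
  · intro k hk
    constructor
    · intro hr c hc
      by_contra hn
      have := hr (2 * n - 1 - c) ((hmem _ _).2 ⟨by omega, by
        rwa [show 2 * n - 1 - (2 * n - 1 - c) = c by omega]⟩)
      omega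
    · intro hr y hy
      obtain ⟨a, b⟩ := (hmem _ _).1 hy
      by_contra hn
      exact b (hr _ (by omega))

theorem Bt.exists_norm {N n : ℕ} {B : Finset ℕ} (h : Bt N n B) (hN : n ≤ N) :
    ∃ B', Bt n n B' ∧ hk B' = hk B ∧
      ∀ k, (RowGe N n k B → RowGe n n k B') ∧ (ColGe N n k B → ColGe n n k B') := by
  induction N, hN using Nat.le_induction generalizing B with
  | base => exact ⟨B, h, rfl, fun k => ⟨id, id⟩⟩
  | succ N hN ih =>
    have h0 : 0 ∈ B := h.colGe_zero 0 (by omega)
    set B1 := (B.erase 0).image (fun x => x - 1) with hB1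
    have hmem : ∀ y, y ∈ B1 ↔ y + 1 ∈ B := by
      intro y
      rw [hB1, mem_image]
      constructor
      · rintro ⟨x, hx, rfl⟩
        have := ne_of_mem_erase hx
        rw [show x - 1 + 1 = x by omega]
        exact mem_of_mem_erase hx
      · intro hy
        exact ⟨y + 1, mem_erase.2 ⟨by omega, hy⟩, by omega⟩
    have hB : B = insert 0 (B1.image (fun y => y + 1)) := by
      ext x
      rw [mem_insert, mem_image]
      constructor
      · intro hx
        rcases Nat.eq_zero_or_pos x with h1 | h1
        · exact Or.inl h1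
        · refine Or.inr ⟨x - 1, (hmem _).2 ?_, by omega⟩
          rwa [show x - 1 + 1 = x by omega]
      · rintro (rfl | ⟨y, hy, rfl⟩)
        · exact h0
        · exact (hmem _).1 hy
    have hn0 : 0 ∉ B1.image (fun y => y + 1) := by simp
    have hinj : Set.InjOn (fun y => y + 1) (B1 : Set ℕ) := fun a _ b _ hab => by
      simpa using hab
    have hc : #B1 = N := by
      have := h.1
      rw [hB, card_insert_of_notMem hn0, card_image_of_injOn hinj] at this
      omega
    have hBt : Bt N n B1 := by
      refine ⟨hc, ?_⟩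
      have := h.2
      rw [hB, sum_insert hn0, sum_image hinj, sum_add_distrib, ← card_eq_sum_ones, hc,
        tri_succ] at this
      omega
    have hhk : hk B1 = hk B := by
      have e : hk B = ∏ x ∈ insert 0 (B1.image (fun y => y + 1)),
          ∏ c ∈ range x with c ∉ B, (x - c) := by rw [← hB]; rfl
      rw [e, prod_insert hn0, prod_image hinj]
      simp only [range_zero, filter_empty, prod_empty, one_mul]
      unfold hk
      refine prod_congr rfl fun y _ => ?_
      rw [prod_filter, prod_filter, prod_range_succ', if_neg (not_not.2 h0), mul_one]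
      refine prod_congr rfl fun c _ => ?_
      simp only [hmem, Nat.add_sub_add_right]
    obtain ⟨B', b1, b2, b3⟩ := ih hBt
    refine ⟨B', b1, b2.trans hhk, fun k => ⟨fun hr => (b3 k).1 ?_, fun hr => (b3 k).2 ?_⟩⟩
    · intro y hy
      have := hr _ ((hmem y).1 hy)
      omega
    · intro c hc
      exact (hmem c).2 (hr _ (by omega))

theorem exists_tau (Ω : Type*) [Fintype Ω] [DecidableEq Ω] :
    ∃ τ : IrrCharacter (Perm Ω) → IrrCharacter (Perm Ω), Function.Injective τ ∧
      (∀ χ, charDegree (τ χ).1 = charDegree χ.1) ∧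
      ∀ χ l, l < Fintype.card Ω → ¬ Lev χ.1 l → ¬ Lev (τ χ).1 l →
        Hi (Fintype.card Ω) (l + 1) (charDegree χ.1) := by
  obtain ⟨e, he1, he2⟩ := exists_param Ω (N := Fintype.card Ω) le_rfl
  refine ⟨fun χ => e.symm ⟨tp _ (e χ).1, (e χ).2.tp.1⟩, ?_, ?_, ?_⟩
  · intro χ ψ hh
    have h1 := congrArg Subtype.val (e.symm.injective hh)
    simp only at h1
    apply e.injective
    apply Subtype.ext
    rw [← (e χ).2.tp.2.2.1, h1, (e ψ).2.tp.2.2.1]
  · intro χ
    rw [he1, he1, Equiv.apply_symm_apply]
    unfold dg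
    rw [(e χ).2.tp.2.1]
  · intro χ l hl h1 h2
    have h3 := he2 _ l h2
    rw [Equiv.apply_symm_apply] at h3
    exact ⟨(e χ).1, (e χ).2, he2 χ l h1, ((e χ).2.tp.2.2.2 (l + 1) hl).1 h3, (he1 χ).symm⟩

end Cfsg.Snd

set_option linter.all false in
theorem Cfsg.Rz.Snd_DegA_0 : True := by
  have := @_root_.Cfsg.Snd.tp.eq_def
  have := @_root_.Cfsg.Snd.tp.eq_1
  have := @_root_.Cfsg.Snd.tp.fun_cases
  trivial
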