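import Cfsg.Agent.Snd.Defs
import Cfsg.Agent.Char.Det
import Cfsg.Agent.Char.Galois
import Cfsg.Agent.Char.Central
import Cfsg.Agent.Char.CliffordBasic

/-!
# S4905: character tools for a group with a sign character `ε`, `A = ker ε`

* `ip_ker`: `∑ over A = ∑ (1 + ε)/2`.
* `half_kill`: `χ|A` has norm 2, so it is `φ₁ + φ₂`, conjugate, of degree `a/2`. Write
  `φ₁ φ̄₁ = 1 + ∑ θ i`. Each `θ i ≠ 1` lies under some `ψ ∈ Irr G`, which is not linear, and `ψ|A`
  has norm 1 or 2, so `2 θ(1) ∈ {ψ(1), 2 ψ(1)}`.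
* `fsInd_mul_self`: both sides are the average of `χ (g²) ²`.
* `typeI_of_sq`: `S + L = χ²` is multiplicity free (`S`, `L` the symmetric and alternating
  squares), so `S - L = (g ↦ χ (g²))` has norm 4 `= fsInd (χ²) = 1 + ν χ + ν β + ν γ`, so `ν χ = 1`
  and `1 ⊆ S`. Then `L` is a partial sum of `χ, β, γ` of degree `c`.
* `typeI_of_mul_star`: conjugation fixes the only constituent `ξ` of degree `a`; `ξ = χ` or `ε χ`,
  so `ξ² = ξ ξ̄ = χ χ̄`.
-/

set_option autoImplicit false
set_option linter.unusedSectionVars false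

namespace Cfsg.Snd

open Equiv Finset

variable {G : Type*} [Group G] [Finite G] {ε : G →* ℤˣ}

theorem SameDeg.card_eq {n : ℕ} (h : SameDeg G n) : Nat.card G = n.factorial := by
  obtain ⟨f, hf⟩ := h
  have h2 := sum_charDegree_sq (G := Perm (Fin n))
  rw [Nat.card_perm, Nat.card_fin] at h2
  rw [← sum_charDegree_sq (G := G), ← h2]
  exact Fintype.sum_equiv f _ _ fun χ => by rw [hf]

theorem DegList.card_eq {l : List ℕ} (h : DegList G l) :
    Nat.card G = (l.map (· ^ 2)).sum := by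
  obtain ⟨e, he⟩ := h
  rw [← sum_charDegree_sq (G := G),
    Fintype.sum_equiv e _ (fun i => l.get i ^ 2) fun χ => by rw [he]]
  conv_rhs => rw [← List.ofFn_get l, List.map_ofFn, List.sum_ofFn]
  rfl

/-- The degrees of a quotient. -/
theorem DegList.exists_sublist {l : List ℕ} (h : DegList G l) (N : Subgroup G) [N.Normal] :
    ∃ s : List ℕ, s.Sublist l ∧ 1 ∈ s ∧ (s.map (· ^ 2)).sum = N.index ∧ ∀ d ∈ s, d ∣ N.index := by
  classical
  obtain ⟨e, he⟩ := h
  have hπ := QuotientGroup.mk'_surjective N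
  set F : IrrCharacter (G ⧸ N) → Fin l.length :=
    fun β => e (β.inflate (QuotientGroup.mk' N) hπ) with hF
  have hFi : Function.Injective F :=
    e.injective.comp (IrrCharacter.inflate_injective _ hπ)
  have hFd : ∀ β, l.get (F β) = charDegree β.1 := by
    intro β
    rw [hF, ← he]
    exact charDegree_comp β.1 (QuotientGroup.mk' N)
  set T : Finset (Fin l.length) := univ.image F with hT
  set u : List (Fin l.length) := (List.finRange l.length).filter (· ∈ T) with hu
  have hmem : ∀ i, i ∈ u ↔ i ∈ T := by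
    intro i
    simp [hu]
  have hnd : u.Nodup := (List.nodup_finRange _).filter _
  have htf : u.toFinset = T := by
    ext i
    rw [List.mem_toFinset, hmem]
  refine ⟨u.map l.get, ?_, ?_, ?_, ?_⟩
  · have := (List.filter_sublist (p := fun i => decide (i ∈ T))
      (l := List.finRange l.length)).map l.get
    rwa [List.map_get_finRange] at this
  · refine List.mem_map.2 ⟨F (IrrCharacter.one _), (hmem _).2 (mem_image_of_mem _ (mem_univ _)), ?_⟩
    rw [hFd]
    exact charDegree_eq_of_apply_one (by simp [IrrCharacter.one])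
  · rw [List.map_map, ← List.sum_toFinset _ hnd, htf, hT, sum_image fun a _ b _ hab => hFi hab,
      Subgroup.index_eq_card, ← sum_charDegree_sq (G := G ⧸ N)]
    exact sum_congr rfl fun β _ => by rw [Function.comp_apply, hFd]
  · intro d hd
    obtain ⟨i, hi, rfl⟩ := List.mem_map.1 hd
    obtain ⟨β, -, rfl⟩ := mem_image.1 ((hmem _).1 hi)
    rw [hFd, Subgroup.index_eq_card]
    exact β.charDegree_dvd_card

theorem exists_eps (h3 : ∀ χ₁ χ₂ χ₃ : IrrCharacter G, charDegree χ₁.1 = 1 → charDegree χ₂.1 = 1 →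
      charDegree χ₃.1 = 1 → χ₁ = χ₂ ∨ χ₁ = χ₃ ∨ χ₂ = χ₃)
    (h2 : ∃ χ₁ χ₂ : IrrCharacter G, charDegree χ₁.1 = 1 ∧ charDegree χ₂.1 = 1 ∧ χ₁ ≠ χ₂) :
    ∃ ε : G →* ℤˣ, ε ≠ 1 ∧ ∀ χ : IrrCharacter G, charDegree χ.1 = 1 → χ.1 = 1 ∨ χ.1 = sg ε := by
  classical
  have hone : charDegree (IrrCharacter.one G).1 = 1 :=
    charDegree_eq_of_apply_one (by simp [IrrCharacter.one])
  obtain ⟨lam, hl1, hlne⟩ : ∃ lam : IrrCharacter G, charDegree lam.1 = 1 ∧
      IrrCharacter.one G ≠ lam := by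
    obtain ⟨χ₁, χ₂, a1, a2, hne⟩ := h2
    by_cases h : IrrCharacter.one G = χ₁
    · exact ⟨χ₂, a2, h ▸ hne⟩
    · exact ⟨χ₁, a1, h⟩
  obtain ⟨f, hf⟩ := lam.isCharacter.exists_monoidHom (by
    have := lam.apply_one
    rw [hl1] at this
    simpa using this)
  have hsq : ∀ g, f g * f g = 1 := by
    have hd : charDegree (fun g => (((f * f) g : ℂˣ) : ℂ)) = 1 :=
      charDegree_eq_of_apply_one (by simp)
    rcases h3 _ lam ⟨_, isIrrCharacter_of_monoidHom (f * f)⟩ hone hl1 hd with h | h | h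
    · exact absurd h hlne
    · intro g
      have := congrFun (congrArg Subtype.val h) g
      apply Units.ext
      simpa [IrrCharacter.one] using this.symm
    · exfalso
      apply hlne
      apply Subtype.ext
      funext g
      have := congrFun (congrArg Subtype.val h) g
      rw [hf] at this ⊢
      have h' : f g = f g * f g := Units.ext (by simpa using this)
      have h'' : f g = 1 := by simpa using h'
      simp [IrrCharacter.one, h'']
  have hpm : ∀ g, f g = 1 ∨ f g = -1 := by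
    intro g
    have : (f g : ℂ) * f g = 1 := by rw [← Units.val_mul, hsq, Units.val_one]
    rcases mul_self_eq_one_iff.1 this with h | h
    · exact Or.inl (Units.ext h)
    · exact Or.inr (Units.ext (by simpa using h))
  have hne1 : (-1 : ℂˣ) ≠ 1 := fun h => by
    have := congrArg Units.val h
    norm_num at this
  let ε : G →* ℤˣ := MonoidHom.mk' (fun g => if f g = 1 then 1 else -1) (by
    intro a b
    rw [map_mul]
    rcases hpm a with ha | ha <;> rcases hpm b with hb | hb <;> simp [ha, hb, hne1])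
  have hε : lam.1 = sg ε := by
    rw [hf]
    funext g
    rcases hpm g with ha | ha <;> simp [sg, ε, ha, hne1]
  refine ⟨ε, fun h => hlne (Subtype.ext ?_), fun χ hχ => ?_⟩
  · rw [hε, h]
    funext g
    simp [sg, IrrCharacter.one]
  · rcases h3 _ lam χ hone hl1 hχ with h | h | h
    · exact absurd h hlne
    · exact Or.inl (by rw [← h]; rfl)
    · exact Or.inr (by rw [← h, hε])

theorem Tool.isCharacter_sg (ε : G →* ℤˣ) : IsCharacter G (sg ε) :=
  (isIrrCharacter_of_monoidHom ((Units.map (Int.castRingHom ℂ).toMonoidHom).comp ε)).isCharacter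

theorem Tool.sg_cases (ε : G →* ℤˣ) (g : G) :
    (g ∈ ε.ker ∧ sg ε g = 1) ∨ (g ∉ ε.ker ∧ sg ε g = -1) := by
  rcases Int.units_eq_one_or (ε g) with h | h
  · exact Or.inl ⟨h, by simp [sg, h]⟩
  · exact Or.inr ⟨fun h' => by rw [MonoidHom.mem_ker, h] at h'; exact absurd h' (by decide),
      by simp [sg, h]⟩

theorem Tool.index_ker_sg (hε : ε ≠ 1) : ε.ker.index = 2 := by
  obtain ⟨g, hg⟩ : ∃ g, ε g ≠ 1 := by
    by_contra h
    push Not at h
    exact hε (MonoidHom.ext h)
  have hr : ε.range = ⊤ := by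
    rw [eq_top_iff]
    intro u _
    rcases Int.units_eq_one_or u with h | h
    · exact h ▸ one_mem _
    · exact ⟨g, by rw [h]; exact (Int.units_eq_one_or _).resolve_left hg⟩
  rw [Subgroup.index_ker, hr, Subgroup.card_top, Nat.card_eq_fintype_card, Fintype.card_units_int]

theorem isIrr_sg_mul (ε : G →* ℤˣ) (χ : IrrCharacter G) : IsIrrCharacter G (sg ε * χ.1) := by
  rw [mul_comm]
  exact χ.2.mul_of_apply_one_eq_one (Tool.isCharacter_sg ε) (by simp [sg])

theorem charDegree_sg_mul (ε : G →* ℤˣ) (χ : G → ℂ) : charDegree (sg ε * χ) = charDegree χ := by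
  simp [charDegree, sg]

theorem ip_ker (hε : ε ≠ 1) (φ ψ : G → ℂ) :
    ip (φ ∘ ε.ker.subtype) (ψ ∘ ε.ker.subtype) = ip φ ψ + ip φ (sg ε * ψ) := by
  classical
  cases nonempty_fintype G
  have hc : (Nat.card G : ℂ) = Nat.card ε.ker * 2 := by
    rw [← ε.ker.card_mul_index, Tool.index_ker_sg hε]
    push_cast
    rfl
  have h0 : (Nat.card ε.ker : ℂ) ≠ 0 := natCard_cast_ne_zero _
  have hs : ∑ g : G, φ g * (starRingEnd ℂ) (ψ g) + ∑ g : G, φ g * (starRingEnd ℂ) ((sg ε * ψ) g) =
      2 * ∑ a : ε.ker, (φ ∘ ε.ker.subtype) a * (starRingEnd ℂ) ((ψ ∘ ε.ker.subtype) a) := by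
    have := sum_subtype (p := (· ∈ ε.ker)) (F := inferInstance) (univ.filter (· ∈ ε.ker))
      (by simp) fun g => φ g * (starRingEnd ℂ) (ψ g)
    rw [show (∑ a : ε.ker, (φ ∘ ε.ker.subtype) a * (starRingEnd ℂ) ((ψ ∘ ε.ker.subtype) a)) =
      ∑ g ∈ univ.filter (· ∈ ε.ker), φ g * (starRingEnd ℂ) (ψ g) from this.symm,
      ← sum_add_distrib, sum_filter, mul_sum]
    refine sum_congr rfl fun g _ => ?_
    rcases Tool.sg_cases ε g with ⟨h1, h2⟩ | ⟨h1, h2⟩
    · rw [if_pos h1, Pi.mul_apply, h2, one_mul, two_mul]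
    · rw [if_neg h1, Pi.mul_apply, h2]
      simp
  rw [ip_def, ip_def, ip_def, ← mul_add, hs, hc]
  field_simp

theorem isIrr_comp_ker (hε : ε ≠ 1) (χ : IrrCharacter G) (h : sg ε * χ.1 ≠ χ.1) :
    IsIrrCharacter ε.ker (χ.1 ∘ ε.ker.subtype) := by
  rw [(χ.isCharacter.comp _).isIrr_iff, ip_ker hε, χ.ip_self]
  have : ip χ.1 (sg ε * χ.1) = 0 :=
    IrrCharacter.ip_of_ne (χ := χ) (ψ := ⟨_, isIrr_sg_mul ε χ⟩)
      fun h' => h (congrArg Subtype.val h').symm
  rw [this, add_zero]

theorem Tool.charDegree_over_ker (hε : ε ≠ 1) {ψ : IrrCharacter G} {θ : IrrCharacter ε.ker}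
    (h : LiesOver ε.ker.subtype ψ.1 θ.1) :
    charDegree ψ.1 = charDegree θ.1 ∨ charDegree ψ.1 = 2 * charDegree θ.1 := by
  have h1 := h.charDegree_eq
  have h2 := h.sq_mul_index_le
  rw [Subgroup.range_subtype, Tool.index_ker_sg hε] at h2
  have h3 := ψ.charDegree_pos
  generalize ipNat (ψ.1 ∘ ε.ker.subtype) θ.1 = e at h1 h2
  generalize (inertia ε.ker.subtype θ).index = t at h1 h2
  have he : 0 < e := Nat.pos_of_ne_zero fun h0 => by simp [h0] at h1; omega
  have ht : 0 < t := Nat.pos_of_ne_zero fun h0 => by simp [h0] at h1; omega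
  have he1 : e = 1 := by
    by_contra hne
    have : 2 ≤ e := by omega
    nlinarith
  subst he1
  have ht2 : t ≤ 2 := by simpa using h2
  interval_cases t
  · left; simpa using h1
  · right; simpa using h1

theorem Tool.exists_half (hε : ε ≠ 1) (χ : IrrCharacter G) (h : sg ε * χ.1 = χ.1) :
    ∃ φ : IrrCharacter ε.ker, charDegree χ.1 = 2 * charDegree φ.1 := by
  obtain ⟨φ, hφ⟩ := χ.exists_liesOver_below ε.ker.subtype
  refine ⟨φ, (Tool.charDegree_over_ker hε hφ).resolve_left fun hd => ?_⟩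
  have h1 := hφ.comp_eq_of_charDegree_le χ.isCharacter hd.le
  have h2 := ip_ker hε χ.1 χ.1
  rw [h1, h, φ.ip_self, χ.ip_self] at h2
  norm_num at h2

theorem even_of_sg_mul (hε : ε ≠ 1) (χ : IrrCharacter G) (h : sg ε * χ.1 = χ.1) :
    Even (charDegree χ.1) := by
  obtain ⟨φ, hφ⟩ := Tool.exists_half hε χ h
  exact ⟨charDegree φ.1, by omega⟩

theorem Tool.multiset_sum_irr [DecidableEq (IrrCharacter G)] (s : Multiset (IrrCharacter G)) :
    IsCharacter G (s.map (·.1)).sum ∧
      charDegree (s.map (·.1)).sum = (s.map fun χ => charDegree χ.1).sum ∧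
      ∀ χ : IrrCharacter G, ip (s.map (·.1)).sum χ.1 = s.count χ := by
  induction s using Multiset.induction_on with
  | empty => exact ⟨IsCharacter.zero, by simp [charDegree], by simp⟩
  | cons a s ih =>
    obtain ⟨h1, h2, h3⟩ := ih
    simp only [Multiset.map_cons, Multiset.sum_cons]
    refine ⟨a.isCharacter.add h1, by rw [a.isCharacter.charDegree_add h1, h2], fun χ => ?_⟩
    rw [ip_add_left, h3, IrrCharacter.ip_eq, Multiset.count_cons]
    by_cases h : a = χ
    · subst h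
      simp [add_comm]
    · simp [h, Ne.symm h]

theorem exists_multiset {θ : G → ℂ} (h : IsCharacter G θ) : ∃ s : Multiset (IrrCharacter G),
    θ = (s.map (·.1)).sum ∧ charDegree θ = (s.map fun χ => charDegree χ.1).sum ∧
      ∀ χ : IrrCharacter G, χ ∈ s ↔ ip θ χ.1 ≠ 0 := by
  classical
  obtain ⟨s, rfl⟩ : ∃ s : Multiset (IrrCharacter G), θ = (s.map (·.1)).sum := by
    refine h.induction_on (P := fun θ => ∃ s : Multiset (IrrCharacter G), θ = (s.map (·.1)).sum)
      ⟨0, by simp⟩ (fun ψ => ⟨{ψ}, by simp⟩) ?_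
    rintro _ _ - - ⟨s, rfl⟩ ⟨t, rfl⟩
    exact ⟨s + t, by simp⟩
  obtain ⟨-, h2, h3⟩ := Tool.multiset_sum_irr s
  refine ⟨s, rfl, h2, fun χ => ?_⟩
  rw [h3]
  simp

theorem half_kill (hε : ε ≠ 1)
    (h1 : ∀ χ : IrrCharacter G, charDegree χ.1 = 1 → χ.1 = 1 ∨ χ.1 = sg ε) (χ : IrrCharacter G)
    (h : sg ε * χ.1 = χ.1) : ∃ t : Multiset ℕ,
      (∀ d ∈ t, 1 < d ∧ ∃ ψ : IrrCharacter G, charDegree ψ.1 = d) ∧
        2 * t.sum + 4 = charDegree χ.1 ^ 2 := by
  obtain ⟨φ, hφ⟩ := Tool.exists_half hε χ h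
  have hc : IsCharacter ε.ker (φ.1 * star φ.1) := φ.isCharacter.mul φ.isCharacter.star
  have hi : ip (φ.1 * star φ.1) (IrrCharacter.one ε.ker).1 = 1 := by
    rw [ip_mul_left, star_star]
    have : (IrrCharacter.one ε.ker).1 * φ.1 = φ.1 := by
      funext g
      simp [IrrCharacter.one]
    rw [this, φ.ip_self]
  have hθ := hc.sub_irr (IrrCharacter.one _) (by rw [hi]; exact one_ne_zero)
  have hθ0 : ip (φ.1 * star φ.1 - (IrrCharacter.one ε.ker).1) (IrrCharacter.one ε.ker).1 = 0 := by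
    rw [ip_sub_left, hi, IrrCharacter.ip_self, sub_self]
  have hdeg : charDegree (φ.1 * star φ.1 - (IrrCharacter.one ε.ker).1) + 1 =
      charDegree φ.1 ^ 2 := by
    have h1 := hθ.apply_one
    have h2 := φ.apply_one
    have h3 : (φ.1 * star φ.1 - (IrrCharacter.one ε.ker).1) 1 + 1 = (charDegree φ.1 : ℂ) ^ 2 := by
      simp only [Pi.sub_apply, Pi.mul_apply, Pi.star_apply]
      rw [show φ.1 1 = (charDegree φ.1 : ℂ) from h2]
      simp [IrrCharacter.one, sq]
    rw [h1] at h3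
    exact_mod_cast h3
  obtain ⟨s, -, hs2, hs3⟩ := exists_multiset hθ
  have key : ∀ s : Multiset (IrrCharacter ε.ker), (∀ θ ∈ s, θ ≠ IrrCharacter.one _) →
      ∃ t : Multiset ℕ, (∀ d ∈ t, 1 < d ∧ ∃ ψ : IrrCharacter G, charDegree ψ.1 = d) ∧
        t.sum = 2 * (s.map fun χ => charDegree χ.1).sum := by
    intro s
    induction s using Multiset.induction_on with
    | empty => exact fun _ => ⟨0, by simp, by simp⟩
    | cons θ s ih =>
      intro hs
      obtain ⟨t, ht1, ht2⟩ := ih fun x hx => hs x (Multiset.mem_cons_of_mem hx)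
      obtain ⟨ψ, hψ⟩ := θ.exists_liesOver_above ε.ker.subtype_injective
      have hψ1 : 1 < charDegree ψ.1 := by
        have hp := ψ.charDegree_pos
        by_contra hlt
        have hres : ψ.1 ∘ ε.ker.subtype = (IrrCharacter.one ε.ker).1 := by
          funext a
          rcases h1 ψ (by omega) with h' | h'
          · simp [h', IrrCharacter.one]
          · rcases Tool.sg_cases ε a with ⟨-, h2⟩ | ⟨h2, -⟩
            · simp [h', IrrCharacter.one, h2]
            · exact absurd a.2 h2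
        have : ip (IrrCharacter.one ε.ker).1 θ.1 ≠ 0 := by
          rw [← hres]
          exact hψ
        exact hs θ (Multiset.mem_cons_self _ _) (IrrCharacter.eq_of_ip_ne_zero this).symm
      rcases Tool.charDegree_over_ker hε hψ with hd | hd
      · refine ⟨charDegree ψ.1 ::ₘ charDegree ψ.1 ::ₘ t, ?_, ?_⟩
        · intro d hd'
          simp only [Multiset.mem_cons] at hd'
          rcases hd' with rfl | rfl | hd'
          · exact ⟨hψ1, ψ, rfl⟩
          · exact ⟨hψ1, ψ, rfl⟩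
          · exact ht1 d hd'
        · simp only [Multiset.sum_cons, Multiset.map_cons]
          omega
      · refine ⟨charDegree ψ.1 ::ₘ t, ?_, ?_⟩
        · intro d hd'
          rcases Multiset.mem_cons.1 hd' with rfl | hd'
          · exact ⟨hψ1, ψ, rfl⟩
          · exact ht1 d hd'
        · simp only [Multiset.sum_cons, Multiset.map_cons]
          omega
  obtain ⟨t, ht1, ht2⟩ := key s fun θ hθs hθ1 => (hs3 θ).1 hθs (hθ1 ▸ hθ0)
  refine ⟨t, ht1, ?_⟩
  rw [ht2, ← hs2, hφ, mul_pow, ← hdeg]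
  ring

theorem fsInd_mul_self {χ : G → ℂ} (h : ∀ g, (χ g).im = 0) :
    fsInd (χ * χ) = ip (fun g => χ (g * g)) (fun g => χ (g * g)) := by
  cases nonempty_fintype G
  rw [fsInd_def, ip_def]
  congr 1
  refine sum_congr rfl fun g _ => ?_
  rw [Complex.conj_eq_iff_im.2 (h _), Pi.mul_apply]

theorem Tool.ip_eq_zero_of_charDegree_ne {χ ψ : IrrCharacter G}
    (h : charDegree χ.1 ≠ charDegree ψ.1) : ip χ.1 ψ.1 = 0 :=
  IrrCharacter.ip_of_ne fun h' => h (by rw [h'])

theorem Tool.eq_partial_sum {L S : G → ℂ} (hL : IsCharacter G L) (hS : IsCharacter G S)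
    {α χ β γ : IrrCharacter G} (hnd : [α, χ, β, γ].Nodup) (h : S + L = α.1 + χ.1 + β.1 + γ.1) :
    ∃ i j k l : ℕ, i ≤ 1 ∧ j ≤ 1 ∧ k ≤ 1 ∧ l ≤ 1 ∧
      L = (i : ℂ) • α.1 + (j : ℂ) • χ.1 + (k : ℂ) • β.1 + (l : ℂ) • γ.1 := by
  classical
  obtain ⟨n, hn, hLn⟩ := hL.exists_eq_sum
  obtain ⟨m, hm, -⟩ := hS.exists_eq_sum
  simp only [List.nodup_cons, List.mem_cons, List.not_mem_nil, or_false, not_or,
    not_false_eq_true, List.nodup_nil, and_true] at hnd
  obtain ⟨⟨h1, h2, h3⟩, ⟨h4, h5⟩, h6⟩ := hnd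
  have key : ∀ ψ : IrrCharacter G, m ψ + n ψ = (if α = ψ then 1 else 0) + (if χ = ψ then 1 else 0)
      + (if β = ψ then 1 else 0) + (if γ = ψ then 1 else 0) := by
    intro ψ
    have := congrArg (fun θ => ip θ ψ.1) h
    simp only [ip_add_left, hn, hm, IrrCharacter.ip_eq] at this
    exact_mod_cast this
  have kα := key α
  have kχ := key χ
  have kβ := key β
  have kγ := key γ
  simp only [h1, h2, h3, h4, h5, h6, Ne.symm h1, Ne.symm h2, Ne.symm h3, Ne.symm h4, Ne.symm h5,
    Ne.symm h6, if_true, if_false] at kα kχ kβ kγ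
  refine ⟨n α, n χ, n β, n γ, by omega, by omega, by omega, by omega, ?_⟩
  have hsub : ∑ ψ ∈ ({α, χ, β, γ} : Finset (IrrCharacter G)), (n ψ : ℂ) • ψ.1 =
      ∑ ψ, (n ψ : ℂ) • ψ.1 := by
    refine sum_subset (subset_univ _) fun ψ _ hψ => ?_
    simp only [mem_insert, mem_singleton, not_or] at hψ
    have := key ψ
    simp only [Ne.symm hψ.1, Ne.symm hψ.2.1, Ne.symm hψ.2.2.1, Ne.symm hψ.2.2.2, if_false] at this
    have h0 : n ψ = 0 := by omega
    simp [h0]
  rw [hLn, ← hsub, sum_insert (by simp [h1, h2, h3]), sum_insert (by simp [h4, h5]),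
    sum_insert (by simp [h6]), sum_singleton]
  abel

theorem typeI_of_sq (χ β γ : IrrCharacter G) {a : ℕ} (ha : 4 ≤ a) (h1 : charDegree χ.1 = a)
    (h2 : charDegree β.1 + 1 = charDegree γ.1) (h3 : 2 * charDegree γ.1 = a * (a - 1))
    (hr : ∀ g, (χ.1 g).im = 0) (h : χ.1 * χ.1 = 1 + χ.1 + β.1 + γ.1) : TypeI G (a + 1) := by
  set b := charDegree β.1 with hb
  set c := charDegree γ.1 with hc
  have hab : a < b := by
    obtain ⟨k, rfl⟩ := Nat.exists_eq_add_of_le ha
    have : 4 + k - 1 = 3 + k := by omega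
    rw [this] at h3
    nlinarith
  set α := IrrCharacter.one G with hα
  have hα1 : α.1 = 1 := rfl
  have hone : charDegree α.1 = 1 := charDegree_eq_of_apply_one (by simp [hα1])
  have hnd : [1, charDegree χ.1, b, c].Nodup := by
    simp only [List.nodup_cons, List.mem_cons, List.not_mem_nil, or_false, not_or,
      not_false_eq_true, List.nodup_nil, and_true]
    omega
  have hnd' : [α, χ, β, γ].Nodup := by
    refine List.Nodup.of_map (fun ψ => charDegree ψ.1) ?_
    simpa only [List.map_cons, List.map_nil, hone] using hnd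
  have hS := χ.isCharacter.symSq
  have hL := χ.isCharacter.altSq
  have hsq : ∀ g, χ.1 g ^ 2 = 1 + χ.1 g + β.1 g + γ.1 g := fun g => by
    have := congrFun h g
    simpa [sq] using this
  obtain ⟨i, j, k, l, hi, hj, hk, hl, hLe⟩ := Tool.eq_partial_sum hL hS hnd' (by
    funext g
    simp only [Pi.add_apply, hα1, Pi.one_apply]
    rw [← hsq]
    ring)
  have hLg : ∀ g, (χ.1 g ^ 2 - χ.1 (g * g)) / 2 = i + j * χ.1 g + k * β.1 g + l * γ.1 g := by
    intro g
    have := congrFun hLe g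
    simpa [hα1] using this
  have hdeg : c = i + j * a + k * b + l * c := by
    have e := hLg 1
    have e1 : χ.1 1 = a := by rw [← h1]; exact χ.apply_one
    have e2 : β.1 1 = b := β.apply_one
    have e3 : γ.1 1 = c := γ.apply_one
    have e4 : ((a : ℂ) ^ 2 - a) / 2 = c := by
      have : (2 : ℂ) * c = a * (a - 1) := by
        have := congrArg (Nat.cast : ℕ → ℂ) h3
        rwa [Nat.cast_mul, Nat.cast_mul, Nat.cast_sub (by omega), Nat.cast_one] at this
      linear_combination (-1 / 2 : ℂ) * this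
    rw [mul_one, e1, e2, e3, e4] at e
    exact_mod_cast e
  have hcase : (i = 0 ∧ j = 0 ∧ k = 0 ∧ l = 1) ∨ (i = 1 ∧ j = 0 ∧ k = 1 ∧ l = 0) := by
    interval_cases i <;> interval_cases j <;> interval_cases k <;> interval_cases l <;> omega
  rcases hcase with ⟨rfl, rfl, rfl, rfl⟩ | ⟨rfl, rfl, rfl, rfl⟩
  · refine ⟨χ, β, γ, by rw [h1], hr, fun g => by simpa using hLg g, fun g => ?_, hnd⟩
    have e1 := hLg g
    have e2 := hsq g
    push_cast at e1
    linear_combination e2 - e1
  · exfalso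
    have hD : (fun g => χ.1 (g * g)) = χ.1 + γ.1 - α.1 - β.1 := by
      funext g
      have e1 := hLg g
      have e2 := hsq g
      push_cast at e1
      simp only [Pi.sub_apply, Pi.add_apply, hα1, Pi.one_apply]
      linear_combination e2 - 2 * e1
    have z : ∀ {ψ φ : IrrCharacter G}, charDegree ψ.1 ≠ charDegree φ.1 → ip ψ.1 φ.1 = 0 :=
      Tool.ip_eq_zero_of_charDegree_ne
    have e1 : fsInd χ.1 = -1 := by
      rw [fsInd_eq_ip, hD]
      change ip _ α.1 = _
      rw [ip_sub_left, ip_sub_left, ip_add_left, α.ip_self, z (ψ := χ) (by omega),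
        z (ψ := γ) (by omega), z (ψ := β) (by omega)]
      ring
    have e2 := fsInd_mul_self hr
    have e3 : fsInd (1 : G → ℂ) = 1 := fsInd_one
    rw [h, fsInd_add, fsInd_add, fsInd_add, e1, e3, hD] at e2
    simp only [ip_sub_left, ip_sub_right, ip_add_left, ip_add_right, IrrCharacter.ip_self] at e2
    rw [z (ψ := χ) (φ := γ) (by omega), z (ψ := χ) (φ := α) (by omega),
      z (ψ := χ) (φ := β) (by omega), z (ψ := γ) (φ := χ) (by omega),
      z (ψ := γ) (φ := α) (by omega), z (ψ := γ) (φ := β) (by omega),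
      z (ψ := α) (φ := χ) (by omega), z (ψ := α) (φ := γ) (by omega),
      z (ψ := α) (φ := β) (by omega), z (ψ := β) (φ := χ) (by omega),
      z (ψ := β) (φ := γ) (by omega), z (ψ := β) (φ := α) (by omega)] at e2
    rcases β.fsInd_cases with e4 | e4 | e4 <;> rcases γ.fsInd_cases with e5 | e5 | e5 <;>
      rw [e4, e5] at e2 <;> norm_num at e2

theorem typeI_of_mul_star (χ ξ β γ : IrrCharacter G) {a : ℕ} (ha : 4 ≤ a)
    (h1 : charDegree ξ.1 = a) (h2 : charDegree β.1 + 1 = charDegree γ.1)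
    (h3 : 2 * charDegree γ.1 = a * (a - 1)) (hξ : ξ.1 = χ.1 ∨ ξ.1 = sg ε * χ.1)
    (h : χ.1 * star χ.1 = 1 + ξ.1 + β.1 + γ.1) : TypeI G (a + 1) := by
  have hab : a < charDegree β.1 := by
    obtain ⟨k, rfl⟩ := Nat.exists_eq_add_of_le ha
    have : 4 + k - 1 = 3 + k := by omega
    rw [this] at h3
    nlinarith
  set α := IrrCharacter.one G with hα
  have hα1 : α.1 = 1 := rfl
  have hone : charDegree α.1 = 1 := charDegree_eq_of_apply_one (by simp [hα1])
  have hbar : ∀ ψ : IrrCharacter G, charDegree ψ.bar.1 = charDegree ψ.1 := fun ψ => by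
    simp [charDegree, IrrCharacter.bar]
  have z : ∀ {ψ φ : IrrCharacter G}, charDegree ψ.1 ≠ charDegree φ.1 → ip ψ.1 φ.1 = 0 :=
    Tool.ip_eq_zero_of_charDegree_ne
  have hst : α.1 + ξ.bar.1 + β.bar.1 + γ.bar.1 = α.1 + ξ.1 + β.1 + γ.1 := by
    have := congrArg star h
    rw [star_mul, star_star, h, star_add, star_add, star_add, star_one] at this
    exact this.symm
  have hreal : ξ.bar = ξ := by
    apply IrrCharacter.eq_of_ip_ne_zero
    have := congrArg (fun θ => ip θ ξ.1) hst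
    have b1 := hbar β
    have b2 := hbar γ
    simp only [ip_add_left, ξ.ip_self] at this
    rw [z (ψ := β.bar) (by omega), z (ψ := γ.bar) (by omega), z (ψ := β) (by omega),
      z (ψ := γ) (by omega)] at this
    intro h0
    rw [h0] at this
    simp at this
  have hst' : star ξ.1 = ξ.1 := congrArg Subtype.val hreal
  refine typeI_of_sq ξ β γ ha h1 h2 h3 (im_eq_zero_iff_star_eq.2 hst') ?_
  rw [← h]
  nth_rewrite 2 [← hst']
  rcases hξ with e | e
  · rw [e]
  · rw [e]
    funext g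
    rcases Tool.sg_cases ε g with ⟨-, h'⟩ | ⟨-, h'⟩ <;> simp [h']

end Cfsg.Snd
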