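import Cfsg.Agent.Snd.Twist
import Cfsg.Agent.Snd.Tool
import Cfsg.Agent.Snd.DegA

/-!
# S4905: the step `j → j + 1`

`L = {χ | Lev χ (j-1)}`. By `Tr.ip_comp` for `A` and `ip_ker`, the class functions `χ ∘ ρ` and
`sg ε * (χ ∘ ρ)`, `χ ∈ L`, are `2 #L` different irreducible characters of `G`. For `ψ ∈ Irr G` not
among them, of degree `d`: `#{deg = d}` in `G` is `≥ 2 #{χ ∈ L, deg = d} + 1`, and in
`Perm (Fin n)` it is `≤ 2 #{χ ∈ L, deg = d} + #{χ ∉ L, τ χ ∉ L, deg = d}` (`exists_tau`), so `Hi n j d`.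
`θ = th (j+1) ∘ ρ` is orthogonal to the `χ ∘ ρ` (`SameSF.ip_comp`, `not_lev_th`). By `Tw` its
constituents are outside the family (`Win.1`: one constituent), or are `sg ε * (th (j-1) ∘ ρ)` once
and others outside the family (`Win.2`: impossible).
-/

set_option autoImplicit false
set_option linter.unusedSectionVars false

namespace Cfsg.Snd

open Equiv Finset

variable {G : Type*} [Group G] [Finite G] {n j : ℕ} {ρ : G →* Perm (Fin n)} {ε : G →* ℤˣ}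

namespace Step

theorem isCharacter_sg_mul (ε : G →* ℤˣ) {θ : G → ℂ} (h : IsCharacter G θ) :
    IsCharacter G (sg ε * θ) := by
  have h1 := ((isIrr_sg_mul ε (IrrCharacter.one G)).isCharacter).mul h
  rwa [show sg ε * (IrrCharacter.one G).1 = sg ε from funext fun g => mul_one _] at h1

theorem sg_mul_sg_mul (ε : G →* ℤˣ) (θ : G → ℂ) : sg ε * (sg ε * θ) = θ := by
  funext g
  rcases Int.units_eq_one_or (ε g) with h | h <;> simp [sg, h]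

theorem ip_fam (hε : ε ≠ 1) {l : ℕ} (h1 : Tr (ρ.comp ε.ker.subtype) (l + l))
    (χ ψ : IrrCharacter (Perm (Fin n))) (hχ : Lev χ.1 l) (hψ : Lev ψ.1 l) :
    ip (χ.1 ∘ ρ) (ψ.1 ∘ ρ) = ip χ.1 ψ.1 ∧ ip (χ.1 ∘ ρ) (sg ε * (ψ.1 ∘ ρ)) = 0 := by
  have e := (ip_ker hε (χ.1 ∘ ρ) (ψ.1 ∘ ρ)).symm.trans (h1.ip_comp χ ψ hχ hψ)
  obtain ⟨a, ha⟩ := (χ.isCharacter.comp ρ).exists_ip_eq_nat (ψ.isCharacter.comp ρ)
  obtain ⟨b, hb⟩ := (χ.isCharacter.comp ρ).exists_ip_eq_nat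
    (isCharacter_sg_mul ε (ψ.isCharacter.comp ρ))
  change ip (χ.1 ∘ ρ) (ψ.1 ∘ ρ) = a at ha
  change ip (χ.1 ∘ ρ) (sg ε * (ψ.1 ∘ ρ)) = b at hb
  suffices hb0 : b = 0 by
    rw [hb, hb0, Nat.cast_zero, add_zero] at e
    exact ⟨e, by rw [hb, hb0, Nat.cast_zero]⟩
  rw [ha, hb] at e
  by_cases h : χ = ψ
  · subst h
    have h0 : a ≠ 0 := fun h0 => χ.isCharacter.comp_ne_zero χ.ne_zero ρ
      (ip_self_eq_zero.1 (by rw [← Nat.cast_zero, ← h0]; exact ha))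
    rw [χ.ip_self] at e
    have : a + b = 1 := by exact_mod_cast e
    omega
  · rw [IrrCharacter.ip_of_ne h] at e
    have : a + b = 0 := by exact_mod_cast e
    omega

theorem isIrr_fam (hε : ε ≠ 1) {l : ℕ} (h1 : Tr (ρ.comp ε.ker.subtype) (l + l))
    (χ : IrrCharacter (Perm (Fin n))) (hχ : Lev χ.1 l) : IsIrrCharacter G (χ.1 ∘ ρ) :=
  (χ.isCharacter.comp ρ).isIrr_iff.2 ((ip_fam hε h1 χ χ hχ hχ).1.trans χ.ip_self)

/-- A character outside the family has a degree of high level. -/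
theorem hi_of_notMem (h : SameDeg G n) (hε : ε ≠ 1) {l : ℕ} (hl : l < n)
    (h1 : Tr (ρ.comp ε.ker.subtype) (l + l)) (φ : IrrCharacter G)
    (hφ : ∀ χ : IrrCharacter (Perm (Fin n)), Lev χ.1 l →
      φ.1 ≠ χ.1 ∘ ρ ∧ φ.1 ≠ sg ε * (χ.1 ∘ ρ)) : Hi n (l + 1) (charDegree φ.1) := by
  classical
  obtain ⟨f, hf⟩ := h
  obtain ⟨τ, t1, t2, t3⟩ := exists_tau (Fin n)
  rw [Fintype.card_fin] at t3
  by_contra hH
  have hL : ∀ ψ : {ψ : IrrCharacter G // charDegree ψ.1 = charDegree φ.1},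
      ¬ Lev (f ψ.1).1 l → Lev (τ (f ψ.1)).1 l := fun ψ h2 => by_contra fun h3 =>
    hH (by rw [← ψ.2, ← hf]; exact t3 _ l hl h2 h3)
  have inj : ∀ χ ψ : IrrCharacter (Perm (Fin n)), Lev χ.1 l → Lev ψ.1 l →
      χ.1 ∘ ρ = ψ.1 ∘ ρ → χ = ψ := fun χ ψ hχ hψ e => IrrCharacter.eq_of_ip_ne_zero (by
    rw [← (ip_fam hε h1 χ ψ hχ hψ).1, e, (isIrr_fam hε h1 ψ hψ).ip_self]; exact one_ne_zero)
  have ne : ∀ χ ψ : IrrCharacter (Perm (Fin n)), Lev χ.1 l → Lev ψ.1 l →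
      χ.1 ∘ ρ ≠ sg ε * (ψ.1 ∘ ρ) := fun χ ψ hχ hψ e => one_ne_zero (by
    rw [← (isIrr_fam hε h1 χ hχ).ip_self, ← (ip_fam hε h1 χ ψ hχ hψ).2, ← e])
  let g : {ψ : IrrCharacter G // charDegree ψ.1 = charDegree φ.1} →
      {ψ : IrrCharacter G // charDegree ψ.1 = charDegree φ.1} := fun ψ =>
    if h2 : Lev (f ψ.1).1 l then ⟨⟨_, isIrr_fam hε h1 _ h2⟩, by simp [hf, ψ.2]⟩
    else ⟨⟨_, isIrr_sg_mul ε ⟨_, isIrr_fam hε h1 _ (hL ψ h2)⟩⟩, by
      simp [charDegree_sg_mul, t2, hf, ψ.2]⟩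
  have hg : Function.Injective g := by
    intro ψ ψ' e
    have e' : (g ψ).1.1 = (g ψ').1.1 := by rw [e]
    refine Subtype.ext (f.injective ?_)
    by_cases h2 : Lev (f ψ.1).1 l <;> by_cases h3 : Lev (f ψ'.1).1 l <;>
      simp only [g, h2, h3, dite_true, dite_false] at e'
    · exact inj _ _ h2 h3 e'
    · exact (ne _ _ h2 (hL _ h3) e').elim
    · exact (ne _ _ h3 (hL _ h2) e'.symm).elim
    · refine t1 (inj _ _ (hL _ h2) (hL _ h3) ?_)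
      rw [← sg_mul_sg_mul ε ((τ (f ψ.1)).1 ∘ ρ), e', sg_mul_sg_mul]
  obtain ⟨ψ, e⟩ := Finite.surjective_of_injective hg ⟨φ, rfl⟩
  have e' : (g ψ).1.1 = φ.1 := by rw [e]
  by_cases h2 : Lev (f ψ.1).1 l <;> simp only [g, h2, dite_true, dite_false] at e'
  · exact (hφ _ h2).1 e'.symm
  · exact (hφ _ (hL _ h2)).2 e'.symm

end Step

open Step

theorem step (h : SameDeg G n) (hε : ε ≠ 1) (hj : 2 ≤ j) (hn : 2 * (j + 1) ≤ n)
    (h1 : Tr (ρ.comp ε.ker.subtype) (2 * j - 2)) (h2 : SameSF ρ (j + 1) (j - 1)) (h3 : Tw ρ ε j)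
    (hw : Win n j) : IsIrrCharacter G (th (Fin n) (j + 1) ∘ ρ) := by
  obtain ⟨l, rfl⟩ : ∃ l, j = l + 1 := ⟨j - 1, by omega⟩
  rw [show 2 * (l + 1) - 2 = l + l by omega] at h1
  simp only [Tw, Win, Nat.add_sub_cancel] at h2 h3 hw
  have hn' : 2 * (l + 1 + 1) ≤ Fintype.card (Fin n) := by simpa using hn
  have hl' : 2 * l ≤ Fintype.card (Fin n) := by omega
  have hI := isIrr_th hn'
  have hθ := hI.isCharacter.comp ρ
  have hd : charDegree (th (Fin n) (l + 1 + 1) ∘ ρ) = Dk n (l + 1 + 1) := by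
    rw [charDegree_comp, charDegree_th hn', Fintype.card_fin]
  have h0 : ∀ χ : IrrCharacter (Perm (Fin n)), Lev χ.1 l →
      ip (th (Fin n) (l + 1 + 1) ∘ ρ) (χ.1 ∘ ρ) = 0 := fun χ hχ => by
    rw [h2.ip_comp hn' χ hχ]
    refine IrrCharacter.ip_of_ne (χ := ⟨_, hI⟩) ?_
    rintro rfl
    exact not_lev_th hn' (hχ.mono (by omega))
  generalize th (Fin n) (l + 1 + 1) ∘ ρ = θ at *
  rcases h3 with h3 | ⟨h3, h4⟩
  · obtain ⟨s, s1, s2, s3⟩ := exists_multiset hθ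
    have := hw.1 (s.map fun χ => charDegree χ.1) (fun d hd => by
      obtain ⟨φ, hφ, rfl⟩ := Multiset.mem_map.1 hd
      exact hi_of_notMem h hε (by omega) h1 φ fun χ hχ =>
        ⟨fun e => (s3 φ).1 hφ (e ▸ h0 χ hχ), fun e => (s3 φ).1 hφ (e ▸ h3 χ hχ)⟩) (s2 ▸ hd)
    rw [Multiset.card_map, Multiset.card_eq_one] at this
    obtain ⟨φ, rfl⟩ := this
    rw [s1, Multiset.map_singleton, Multiset.sum_singleton]
    exact φ.2
  · let χ₀ : IrrCharacter (Perm (Fin n)) := ⟨_, isIrr_th hl'⟩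
    let φ₀ : IrrCharacter G := ⟨_, isIrr_sg_mul ε ⟨_, isIrr_fam hε h1 χ₀ (lev_th hl')⟩⟩
    have h5 : ip θ φ₀.1 = 1 := h3
    have hθ' := hθ.sub_irr φ₀ (h5 ▸ one_ne_zero)
    obtain ⟨s, -, s2, s3⟩ := exists_multiset hθ'
    refine (hw.2 (s.map fun χ => charDegree χ.1) (fun d hd => ?_) ?_).elim
    · obtain ⟨φ, hφ, rfl⟩ := Multiset.mem_map.1 hd
      have h6 := (s3 φ).1 hφ
      rw [ip_sub_left] at h6
      have h7 : φ₀ ≠ φ := by
        rintro rfl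
        exact h6 (by rw [h5, φ₀.ip_self, sub_self])
      rw [IrrCharacter.ip_of_ne h7, sub_zero] at h6
      refine hi_of_notMem h hε (by omega) h1 φ fun χ hχ =>
        ⟨fun e => h6 (e ▸ h0 χ hχ), fun e => h6 (e ▸ h4 χ hχ fun e' => h7 (Subtype.ext ?_))⟩
      rw [e, e']
    · have h6 := hθ'.charDegree_add φ₀.isCharacter
      rw [← s2, ← hd]
      refine Eq.trans ?_ (h6.symm.trans (congrArg _ (sub_add_cancel _ _)))
      change _ = _ + charDegree (sg ε * (th (Fin n) l ∘ ρ))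
      rw [charDegree_sg_mul, charDegree_comp, charDegree_th hl', Fintype.card_fin]

end Cfsg.Snd
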