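import Cfsg.Agent.Snd.Core
import Cfsg.Agent.Snd.Babai
import Cfsg.Agent.Snd.Homog
import Cfsg.Agent.Snd.JordB
import Cfsg.Agent.Snd.Last
import Cfsg.Agent.Snd.Num
import Cfsg.Agent.Snd.Step
import Cfsg.Agent.Snd.Start
import Cfsg.Agent.Snd.Five
import Cfsg.Agent.Snd.Six
import Cfsg.Agent.Snd.Seven

/-!
# S4905: assembly
-/

set_option autoImplicit false
set_option linter.unusedSectionVars false

namespace Cfsg.Snd.Main

open Equiv Finset

variable {G : Type*} [Group G] [Finite G] {n : ℕ}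

theorem typeI (hn : 5 ≤ n) (h : SameDeg G n) : TypeI G n := by
  rcases Nat.lt_or_ge n 9 with h9 | h9
  · interval_cases n
    · exact typeI_five (degList_five h)
    · exact typeI_six (degList_six h)
    · exact typeI_seven (degList_seven h)
    · exact typeI_eight (degList_eight h)
  · exact typeI_of_nine_le h9 h

theorem exists_tr_four (hn : 4 ≤ n) (h : TypeI G n) : ∃ ρ : G →* Perm (Fin n), Tr ρ 4 := by
  obtain ⟨χ, β, γ, hd, hr, hL, hS, hnd⟩ := h
  simp only [List.nodup_cons, List.mem_cons, List.not_mem_nil, or_false, not_or,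
    not_false_eq_true, List.nodup_nil, and_true] at hnd
  set α := IrrCharacter.one G with hα
  have hα1 : α.1 = 1 := rfl
  have hone : charDegree α.1 = 1 := charDegree_eq_of_apply_one (by simp [hα1])
  have z : ∀ {ψ φ : IrrCharacter G}, charDegree ψ.1 ≠ charDegree φ.1 → ip ψ.1 φ.1 = 0 :=
    Tool.ip_eq_zero_of_charDegree_ne
  have hS' : (fun g => (χ.1 g ^ 2 + χ.1 (g * g)) / 2) = α.1 + χ.1 + β.1 := funext hS
  obtain ⟨ρ, hρ⟩ := exists_action χ γ hd hr hL (by omega) (by omega) (by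
    rw [hS', ip_add_left, ip_add_left, χ.ip_self, z (ψ := α) (by omega), z (ψ := β) (by omega)]
    norm_num)
  refine ⟨ρ, tr_four (by rwa [Fintype.card_fin]) ?_⟩
  have hsq : (fun g => ((#{x | ρ g x = x} : ℕ) : ℂ) ^ 2) =
      α.1 + α.1 + (χ.1 + χ.1 + χ.1) + β.1 + γ.1 := by
    funext g
    simp only [Pi.add_apply, hα1, Pi.one_apply]
    rw [hρ]
    linear_combination hL g + hS g
  rw [hsq]
  simp only [ip_add_left, ip_add_right, IrrCharacter.ip_self]
  rw [z (ψ := χ) (φ := γ) (by omega), z (ψ := χ) (φ := α) (by omega),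
    z (ψ := χ) (φ := β) (by omega), z (ψ := γ) (φ := χ) (by omega),
    z (ψ := γ) (φ := α) (by omega), z (ψ := γ) (φ := β) (by omega),
    z (ψ := α) (φ := χ) (by omega), z (ψ := α) (φ := γ) (by omega),
    z (ψ := α) (φ := β) (by omega), z (ψ := β) (φ := χ) (by omega),
    z (ψ := β) (φ := γ) (by omega), z (ψ := β) (φ := α) (by omega)]
  norm_num

variable {ρ : G →* Perm (Fin n)} {ε : G →* ℤˣ}

theorem oddFix_mono {s t : ℕ} (h : OddFix ρ ε t) (hs : s ≤ t) : OddFix ρ ε s :=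
  fun F hF => h F (hF.trans hs)

theorem isIrr_of_tr {i : ℕ} (h : Tr ρ (i + i)) (hi : 2 * i ≤ n) :
    IsIrrCharacter G (th (Fin n) i ∘ ρ) := by
  have hi' : 2 * i ≤ Fintype.card (Fin n) := by rwa [Fintype.card_fin]
  have h1 := isIrr_th hi'
  rw [(h1.isCharacter.comp ρ).isIrr_iff,
    h.ip_comp ⟨_, h1⟩ ⟨_, h1⟩ (lev_th hi') (lev_th hi')]
  exact IrrCharacter.ip_self ⟨_, h1⟩

theorem step_of_tr {j : ℕ} (h : SameDeg G n) (hε : ε ≠ 1) (hj : 2 ≤ j) (hn : 2 * (j + 1) ≤ n)
    (ht : Tr ρ (2 * j)) (hw : Win n j) : IsIrrCharacter G (th (Fin n) (j + 1) ∘ ρ) := by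
  have ho : OddFix ρ ε (2 * j - 1) :=
    oddFix_of_tr (ht.mono (by omega)) hε (by rw [Fintype.card_fin]; omega)
  exact step h hε hj hn ((ht.mono (by omega)).ker (oddFix_mono ho (by omega)))
    (Tr.sameSF (ht.mono (by omega))) (tw_of_tr hj (by rwa [Fintype.card_fin]) ht ho) hw

theorem climb {k : ℕ} (h : SameDeg G n) (h4 : Tr ρ 4) (hk : 2 * k + 3 ≤ n)
    (hw : ∀ j, 2 ≤ j → j < k → Win n j) (hD : ∀ i < k, Dk n i < Dk n (i + 1)) (j : ℕ)
    (hj : 2 ≤ j) (hjk : j ≤ k) :
    (∀ i ≤ j, IsIrrCharacter G (th (Fin n) i ∘ ρ)) ∧ (j ≠ 3 → Tr ρ (2 * j)) := by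
  have hSS : ∀ j ≤ k, (∀ i ≤ j, IsIrrCharacter G (th (Fin n) i ∘ ρ)) → SameSS ρ j j := by
    intro j hjk hi
    refine sameSS_of_isIrr (by rw [Fintype.card_fin]; omega) hi fun i hij => ?_
    rw [Fintype.card_fin]
    exact hD i (by omega)
  induction j, hj using Nat.le_induction with
  | base => exact ⟨fun i hi => isIrr_of_tr (h4.mono (by omega)) (by omega), fun _ => h4⟩
  | succ j hj ih =>
    obtain ⟨ih1, ih2⟩ := ih (by omega)
    obtain ⟨ε, hε, -⟩ := exists_eps_of (by omega) h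
    have hnew : IsIrrCharacter G (th (Fin n) (j + 1) ∘ ρ) := by
      by_cases h3 : j = 3
      · subst h3
        have h33 := hSS 3 (by omega) ih1
        by_cases hβ : ∀ g, ρ g = 1 → ε g = 1
        · exact step_of_tr h hε hj (by omega)
            (tr_six h4 h33 hε hβ (by rw [Fintype.card_fin]; omega)) (hw 3 hj (by omega))
        · push Not at hβ
          obtain ⟨g, hg1, hg2⟩ := hβ
          have ho : ∀ t, OddFix ρ ε t := fun t F _ =>
            ⟨g, (Int.units_eq_one_or _).resolve_left hg2, fun x _ => by rw [hg1]; rfl⟩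
          exact step h hε hj (by omega) (h4.ker (ho _)) (sameSF_four_two h4 h33)
            (tw_of_oddFix hj (by rw [Fintype.card_fin]; omega) (ho _)) (hw 3 hj (by omega))
      · exact step_of_tr h hε hj (by omega) (ih2 h3) (hw j hj (by omega))
    have hall : ∀ i ≤ j + 1, IsIrrCharacter G (th (Fin n) i ∘ ρ) := by
      intro i hi
      rcases Nat.lt_or_ge i (j + 1) with h' | h'
      · exact ih1 i (by omega)
      · rw [le_antisymm hi h']
        exact hnew
    exact ⟨hall, fun h3 => tr_of_sameSS (by omega) (by rw [Fintype.card_fin]; omega)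
      (hSS _ hjk hall)⟩

theorem alt_le (h : SameDeg G n) (h4 : Tr ρ 4) : alternatingGroup (Fin n) ≤ ρ.range := by
  rcases Nat.lt_or_ge n 8 with h8 | h8
  · exact alt_le_of_le_seven h4 (by rw [Fintype.card_fin]; omega)
  obtain ⟨k, hk2, hkn, hw, hD, hfin⟩ := plan h8
  obtain ⟨hirr, htr⟩ := climb h h4 hkn hw hD k hk2 le_rfl
  rcases hfin with ⟨p, hp, h1, h2, h3⟩ | ⟨p, hp, h1, h2⟩ | ⟨h1, h2, s, hs, h3, h5⟩
  · have hSS : SameSS ρ k k := by
      refine sameSS_of_isIrr (by rw [Fintype.card_fin]; omega) hirr fun i hi => ?_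
      rw [Fintype.card_fin]
      exact hD i hi
    refine alt_le_of_dvd (h4.mono (by omega)) hp (by rwa [Fintype.card_fin])
      (by rwa [Fintype.card_fin]) (dvd_card_range hSS ?_ hp (by omega) ?_ ?_) <;>
      rw [Fintype.card_fin] <;> omega
  · exact alt_le_of_miller h4 hp h1 (by rwa [Fintype.card_fin])
  · refine alt_le_of_primes (htr (by omega)) (by omega) ?_ ?_ hs h3 ?_ <;>
      rw [Fintype.card_fin] <;> omega

theorem main (h : SameDeg G n) : Nonempty (G ≃* Perm (Fin n)) := by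
  rcases Nat.lt_or_ge n 5 with h5 | h5
  · rcases Nat.lt_or_ge n 3 with h3 | h3
    · exact equiv_of_card_le_two (by omega) h.card_eq
    · interval_cases n
      · exact equiv_three (degList_three h)
      · exact equiv_four (degList_four h)
  · obtain ⟨ρ, hρ⟩ := exists_tr_four (by omega) (typeI h5 h)
    exact equiv_of_alt_le h h5 (alt_le h hρ)

end Cfsg.Snd.Main
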