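import Cfsg.Agent.Snd.CoreA

/-!
# S4905: a character with irreducible alternating square contained in its symmetric square
-/

set_option autoImplicit false
set_option linter.unusedSectionVars false

namespace Cfsg.Snd

open Equiv Finset Matrix
open scoped Kronecker

variable {G : Type*} [Group G] [Finite G]

namespace Core

variable {ι κ : Type*} [Fintype ι] [DecidableEq ι] [Fintype κ] [DecidableEq κ]

/-- Invariant vectors in the image of `P`. -/
def Fx (Z : G →* Matrix κ κ ℂ) (P : Matrix κ κ ℂ) : Submodule ℂ (κ → ℂ) where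
  carrier := {v | (∀ g, Z g *ᵥ v = v) ∧ P *ᵥ v = v}
  add_mem' h h' := ⟨fun g => by rw [mulVec_add, h.1, h'.1], by rw [mulVec_add, h.2, h'.2]⟩
  zero_mem' := ⟨fun g => mulVec_zero _, mulVec_zero _⟩
  smul_mem' c v h := ⟨fun g => by rw [mulVec_smul, h.1], by rw [mulVec_smul, h.2]⟩

theorem finrank_Fx (Z : G →* Matrix κ κ ℂ) {P : Matrix κ κ ℂ} (hP : P * P = P)
    (hc : ∀ g, Z g * P = P * Z g) :
    (Module.finrank ℂ (Fx Z P) : ℂ) = ip (fun g => (Z g * P).trace) (fun _ => 1) := by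
  have := Fintype.ofFinite G
  have hG : (Nat.card G : ℂ) ≠ 0 := by exact_mod_cast Nat.card_pos.ne'
  let E : Matrix κ κ ℂ := (Nat.card G : ℂ)⁻¹ • ∑ g, Z g * P
  have h : LinearMap.IsProj (Fx Z P) (toLin' E) := by
    refine ⟨fun v => ⟨fun g => ?_, ?_⟩, fun v hv => ?_⟩
    · rw [toLin'_apply, mulVec_mulVec]
      congr 1
      simp only [E, Matrix.mul_smul, Matrix.mul_sum, ← Matrix.mul_assoc, ← map_mul]
      congr 1
      exact Fintype.sum_equiv (Equiv.mulLeft g) _ _ fun _ => rfl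
    · rw [toLin'_apply, mulVec_mulVec]
      congr 1
      simp only [E, Matrix.mul_smul, Matrix.mul_sum, hc, ← Matrix.mul_assoc, hP]
    · simp [E, smul_mulVec, sum_mulVec, ← mulVec_mulVec, hv.1, hv.2, ← Nat.cast_smul_eq_nsmul ℂ,
        smul_smul, ← Nat.card_eq_fintype_card, hG]
  rw [← h.trace, trace_toLin'_eq, ip_def]
  simp [E, trace_sum]

/-- The Kronecker product of representations. -/
def kr (X : G →* Matrix κ κ ℂ) (Y : G →* Matrix ι ι ℂ) : G →* Matrix (κ × ι) (κ × ι) ℂ where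
  toFun g := X g ⊗ₖ Y g
  map_one' := by simp
  map_mul' g h := by rw [map_mul, map_mul, mul_kronecker_mul]

theorem kr_apply (X : G →* Matrix κ κ ℂ) (Y : G →* Matrix ι ι ℂ) (g : G) :
    kr X Y g = X g ⊗ₖ Y g := rfl

theorem kr_transpose {X : G →* Matrix κ κ ℂ} {Y : G →* Matrix ι ι ℂ}
    (hX : ∀ g, (X g)ᵀ = X g⁻¹) (hY : ∀ g, (Y g)ᵀ = Y g⁻¹) (g : G) :
    (kr X Y g)ᵀ = kr X Y g⁻¹ := by
  rw [kr_apply, kr_apply, ← hX, ← hY, kroneckerMap_transpose]

/-- Pure tensors. -/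
def tn (x : κ → ℂ) (y : ι → ℂ) : κ × ι → ℂ := fun p => x p.1 * y p.2

theorem kron_tn (A : Matrix κ κ ℂ) (B : Matrix ι ι ℂ) (x : κ → ℂ) (y : ι → ℂ) :
    (A ⊗ₖ B) *ᵥ tn x y = tn (A *ᵥ x) (B *ᵥ y) := by
  funext p
  simp only [mulVec, dotProduct, tn, Fintype.sum_prod_type, kroneckerMap_apply, sum_mul_sum]
  exact sum_congr rfl fun _ _ => sum_congr rfl fun _ _ => by ring

theorem tn_single (i : κ) (j : ι) :
    tn (Pi.single i 1) (Pi.single j 1) = Pi.single (i, j) 1 := by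
  funext p
  simp only [tn, Pi.single_apply, Prod.ext_iff, ite_and]
  split_ifs <;> simp

theorem dot_inv {Z : G →* Matrix κ κ ℂ} (hZ : ∀ g, (Z g)ᵀ = Z g⁻¹) (g : G) (u v : κ → ℂ) :
    (Z g *ᵥ u) ⬝ᵥ v = u ⬝ᵥ (Z g⁻¹ *ᵥ v) := by
  rw [dotProduct_mulVec, ← hZ, vecMul_transpose]

theorem expand {f : (ι → ℂ) → ℂ} (h : IsLinearMap ℂ f) (x : ι → ℂ) :
    f x = ∑ i, x i * f (Pi.single i 1) := by
  have := (h.mk' f).pi_apply_eq_sum_univ x
  simp only [IsLinearMap.mk'_apply, smul_eq_mul] at this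
  rw [this]
  refine sum_congr rfl fun i _ => ?_
  congr 2
  funext j
  simp [Pi.single_apply, eq_comm]

variable (ι) in
/-- The (anti)symmetriser. -/
noncomputable def pr (e : ℂ) : Matrix (ι × ι) (ι × ι) ℂ :=
  Matrix.of fun a b => ((if a = b then 1 else 0) + if a.swap = b then e else 0) / 2

theorem pr_mul (e : ℂ) (A : Matrix (ι × ι) κ ℂ) (a : ι × ι) (b : κ) :
    (pr ι e * A) a b = (A a b + e * A a.swap b) / 2 := by
  simp [pr, mul_apply, add_div, add_mul, sum_add_distrib, ite_div, ite_mul]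
  ring

theorem mul_pr (e : ℂ) (A : Matrix κ (ι × ι) ℂ) (a : κ) (b : ι × ι) :
    (A * pr ι e) a b = (A a b + e * A a b.swap) / 2 := by
  simp [pr, mul_apply, add_div, mul_add, sum_add_distrib, ite_div, Prod.swap_eq_iff_eq_swap]
  ring

theorem pr_pr {e : ℂ} (he : e * e = 1) : pr ι e * pr ι e = pr ι e := by
  ext a b
  rw [pr_mul]
  simp only [pr, of_apply, Prod.swap_swap]
  split_ifs
  · linear_combination (1 / 4) * he
  · linear_combination (1 / 4) * he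
  · ring
  · ring

theorem kr_pr (Y : G →* Matrix ι ι ℂ) (e : ℂ) (g : G) : kr Y Y g * pr ι e = pr ι e * kr Y Y g := by
  ext a b
  rw [pr_mul, mul_pr]
  simp [kr_apply, kroneckerMap_apply, mul_comm]

theorem trace_kr_pr (Y : G →* Matrix ι ι ℂ) (e : ℂ) (g : G) :
    (kr Y Y g * pr ι e).trace = ((Y g).trace ^ 2 + e * (Y (g * g)).trace) / 2 := by
  simp only [trace, diag_apply, mul_pr, ← sum_div, sum_add_distrib, ← mul_sum, map_mul, sq,
    sum_mul_sum, Fintype.sum_prod_type]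
  simp [kr_apply, kroneckerMap_apply, mul_apply, mul_sum]

theorem pr_mulVec (e : ℂ) (v : (ι × ι) × κ → ℂ) (a : ι × ι) (b : κ) :
    ((pr ι e ⊗ₖ (1 : Matrix κ κ ℂ)) *ᵥ v) (a, b) = (v (a, b) + e * v (a.swap, b)) / 2 := by
  rw [mulVec, dotProduct, Fintype.sum_prod_type]
  simp [pr, kroneckerMap_apply, one_apply, add_div, add_mul, sum_add_distrib, ite_div, ite_mul]
  ring

theorem pr_mulVec' (e : ℂ) (v : κ × (ι × ι) → ℂ) (a : κ) (b : ι × ι) :
    (((1 : Matrix κ κ ℂ) ⊗ₖ pr ι e) *ᵥ v) (a, b) = (v (a, b) + e * v (a, b.swap)) / 2 := by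
  rw [mulVec, dotProduct, Fintype.sum_prod_type]
  simp [pr, kroneckerMap_apply, one_apply, add_div, add_mul, sum_add_distrib, ite_div, ite_mul]
  ring

variable {Y : G →* Matrix ι ι ℂ} (hY : ∀ g, (Y g)ᵀ = Y g⁻¹)
include hY

theorem finrank_three {e : ℂ} (he : e * e = 1) :
    (Module.finrank ℂ (Fx (kr (kr Y Y) Y) (pr ι e ⊗ₖ 1)) : ℂ) =
      ip (fun g => ((Y g).trace ^ 2 + e * (Y (g * g)).trace) / 2 * (Y g).trace) (fun _ => 1) := by
  rw [finrank_Fx]
  · simp only [kr_apply (kr Y Y), ← mul_kronecker_mul, trace_kronecker, trace_kr_pr, Matrix.mul_one]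
  · rw [← mul_kronecker_mul, pr_pr he, Matrix.mul_one]
  · intro g
    simp only [kr_apply (kr Y Y), ← mul_kronecker_mul, kr_pr, Matrix.mul_one, Matrix.one_mul]

theorem finrank_four :
    (Module.finrank ℂ (Fx (kr (kr Y Y) (kr Y Y)) (pr ι (-1) ⊗ₖ pr ι (-1))) : ℂ) =
      ip (fun g => (((Y g).trace ^ 2 + -1 * (Y (g * g)).trace) / 2) ^ 2) (fun _ => 1) := by
  rw [finrank_Fx]
  · simp only [kr_apply (kr Y Y), ← mul_kronecker_mul, trace_kronecker, trace_kr_pr, sq]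
  · rw [← mul_kronecker_mul, pr_pr (by simp)]
  · intro g
    simp only [kr_apply (kr Y Y), ← mul_kronecker_mul, kr_pr]

theorem mem_three {f : (ι → ℂ) → (ι → ℂ) → (ι → ℂ) → ℂ} (h1 : ∀ y z, IsLinearMap ℂ (f · y z))
    (h2 : ∀ x z, IsLinearMap ℂ (f x · z)) (h3 : ∀ x y, IsLinearMap ℂ (f x y))
    (hf : ∀ g x y z, f (Y g *ᵥ x) (Y g *ᵥ y) (Y g *ᵥ z) = f x y z)
    (hs : ∀ x y z, f y x z = -f x y z) : ∃ v ∈ Fx (kr (kr Y Y) Y) (pr ι (-1) ⊗ₖ 1),
      ∀ x y z, f x y z = tn (tn x y) z ⬝ᵥ v := by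
  let v : (ι × ι) × ι → ℂ := fun p =>
    f (Pi.single p.1.1 1) (Pi.single p.1.2 1) (Pi.single p.2 1)
  have hv : ∀ x y z, f x y z = tn (tn x y) z ⬝ᵥ v := fun x y z => by
    rw [expand (h1 y z)]
    simp only [expand (h2 _ z) y, expand (h3 _ _) z, mul_sum, dotProduct, tn, v,
      Fintype.sum_prod_type, mul_assoc]
  refine ⟨v, ⟨fun g => funext fun ⟨⟨i, j⟩, k⟩ => ?_, funext fun ⟨⟨i, j⟩, k⟩ => ?_⟩, hv⟩
  · have := dot_inv (kr_transpose (kr_transpose hY hY) hY) g⁻¹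
      (tn (tn (Pi.single i 1) (Pi.single j 1)) (Pi.single k 1)) v
    rw [kr_apply, kron_tn, kr_apply, kron_tn, ← hv, hf, tn_single, tn_single, single_one_dotProduct,
      inv_inv] at this
    exact this.symm
  · rw [pr_mulVec]
    simp only [v, Prod.swap_prod_mk, hs (Pi.single i 1)]
    ring

theorem mem_four {f : (ι → ℂ) → (ι → ℂ) → (ι → ℂ) → (ι → ℂ) → ℂ}
    (h1 : ∀ y z w, IsLinearMap ℂ (f · y z w)) (h2 : ∀ x z w, IsLinearMap ℂ (f x · z w))
    (h3 : ∀ x y w, IsLinearMap ℂ (f x y · w)) (h4 : ∀ x y z, IsLinearMap ℂ (f x y z))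
    (hf : ∀ g x y z w, f (Y g *ᵥ x) (Y g *ᵥ y) (Y g *ᵥ z) (Y g *ᵥ w) = f x y z w)
    (hs : ∀ x y z w, f y x z w = -f x y z w) (hs' : ∀ x y z w, f x y w z = -f x y z w) :
    ∃ v ∈ Fx (kr (kr Y Y) (kr Y Y)) (pr ι (-1) ⊗ₖ pr ι (-1)),
      ∀ x y z w, f x y z w = tn (tn x y) (tn z w) ⬝ᵥ v := by
  let v : (ι × ι) × ι × ι → ℂ := fun p =>
    f (Pi.single p.1.1 1) (Pi.single p.1.2 1) (Pi.single p.2.1 1) (Pi.single p.2.2 1)
  have hv : ∀ x y z w, f x y z w = tn (tn x y) (tn z w) ⬝ᵥ v := fun x y z w => by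
    rw [expand (h1 y z w)]
    simp only [expand (h2 _ z w) y, expand (h3 _ _ w) z, expand (h4 _ _ _) w, mul_sum, dotProduct,
      tn, v, Fintype.sum_prod_type, mul_assoc]
  refine ⟨v, ⟨fun g => funext fun ⟨⟨i, j⟩, k, l⟩ => ?_, funext fun ⟨⟨i, j⟩, k, l⟩ => ?_⟩, hv⟩
  · have := dot_inv (kr_transpose (kr_transpose hY hY) (kr_transpose hY hY)) g⁻¹
      (tn (tn (Pi.single i 1) (Pi.single j 1)) (tn (Pi.single k 1) (Pi.single l 1))) v
    rw [kr_apply, kron_tn, kr_apply, kron_tn, kron_tn, ← hv, hf, tn_single, tn_single, tn_single,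
      single_one_dotProduct, inv_inv] at this
    exact this.symm
  · rw [show pr ι (-1) ⊗ₖ pr ι (-1) = (pr ι (-1) ⊗ₖ 1) * (1 ⊗ₖ pr ι (-1)) by
      rw [← mul_kronecker_mul, Matrix.mul_one, Matrix.one_mul], ← mulVec_mulVec, pr_mulVec,
      pr_mulVec', pr_mulVec']
    simp only [v, Prod.swap_prod_mk, hs (Pi.single i 1), hs' _ _ (Pi.single k 1)]
    ring

omit hY in
/-- The product given by a tensor. -/
def mu (t : (ι × ι) × ι → ℂ) : (ι → ℂ) →ₗ[ℂ] (ι → ℂ) →ₗ[ℂ] (ι → ℂ) :=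
  LinearMap.mk₂ ℂ (fun x y k => ∑ i, ∑ j, x i * y j * t ((i, j), k))
    (fun _ _ _ => by funext k; simp [add_mul, sum_add_distrib])
    (fun _ _ _ => by funext k; simp [mul_sum, mul_assoc])
    (fun _ _ _ => by funext k; simp [add_mul, mul_add, sum_add_distrib])
    (fun _ _ _ => by funext k; simp [mul_sum, mul_assoc, mul_left_comm])

omit hY in
theorem mu_dot (t : (ι × ι) × ι → ℂ) (x y z : ι → ℂ) :
    mu t x y ⬝ᵥ z = tn (tn x y) z ⬝ᵥ t := by
  simp only [mu, LinearMap.mk₂_apply, dotProduct, tn, Fintype.sum_prod_type, sum_mul]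
  rw [sum_comm]
  refine sum_congr rfl fun i _ => ?_
  rw [sum_comm]
  exact sum_congr rfl fun _ _ => sum_congr rfl fun _ _ => by ring

theorem dot_dot (g : G) (x y : ι → ℂ) : (Y g *ᵥ x) ⬝ᵥ (Y g *ᵥ y) = x ⬝ᵥ y := by
  rw [dot_inv hY, mulVec_mulVec, matRep_inv_mul, one_mulVec]

theorem mu_inv {t : (ι × ι) × ι → ℂ} (ht : ∀ g, kr (kr Y Y) Y g *ᵥ t = t) (g : G) (x y : ι → ℂ) :
    mu t (Y g *ᵥ x) (Y g *ᵥ y) = Y g *ᵥ mu t x y := by
  refine dotProduct_eq _ _ fun z => ?_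
  obtain ⟨z, rfl⟩ : ∃ w, z = Y g *ᵥ w :=
    ⟨Y g⁻¹ *ᵥ z, by rw [mulVec_mulVec, matRep_mul_inv, one_mulVec]⟩
  rw [dot_dot hY, mu_dot, mu_dot, ← kron_tn, ← kron_tn]
  exact (dot_inv (kr_transpose (kr_transpose hY hY) hY) g _ t).trans (by rw [ht])

theorem exists_dat (h2 : Nontrivial ι)
    (hS : Module.finrank ℂ (Fx (kr (kr Y Y) Y) (pr ι 1 ⊗ₖ 1)) ≠ 0)
    (hL : Module.finrank ℂ (Fx (kr (kr Y Y) Y) (pr ι (-1) ⊗ₖ 1)) = 0)
    (h4 : Module.finrank ℂ (Fx (kr (kr Y Y) (kr Y Y)) (pr ι (-1) ⊗ₖ pr ι (-1))) = 1) :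
    ∃ D : Dat (ι → ℂ), (∀ g x y, D.B (Y g *ᵥ x) (Y g *ᵥ y) = D.B x y) ∧
      (∀ g x y, D.μ (Y g *ᵥ x) (Y g *ᵥ y) = Y g *ᵥ D.μ x y) ∧ D.μ ≠ 0 := by
  obtain ⟨t, ht, ht0⟩ := Submodule.exists_mem_ne_zero_of_ne_bot
    (p := Fx (kr (kr Y Y) Y) (pr ι 1 ⊗ₖ 1)) fun h => hS (by rw [h, finrank_bot])
  have hi := mu_inv hY ht.1
  have hμ : ∀ x y, mu t x y = mu t y x := fun x y => by
    funext k
    simp only [mu, LinearMap.mk₂_apply]
    rw [sum_comm]
    refine sum_congr rfl fun i _ => sum_congr rfl fun j _ => ?_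
    have := congrFun ht.2 ((i, j), k)
    rw [pr_mulVec, Prod.swap_prod_mk] at this
    linear_combination 2 * x j * y i * this
  have hT : ∀ x y z, mu t x z ⬝ᵥ y = mu t y z ⬝ᵥ x := fun x y z => by
    obtain ⟨v, hv, hf⟩ := mem_three hY (f := fun x y z => mu t x z ⬝ᵥ y - mu t y z ⬝ᵥ x)
      (fun _ _ => ⟨fun _ _ => by simp; ring, fun _ _ => by simp; ring⟩)
      (fun _ _ => ⟨fun _ _ => by simp; ring, fun _ _ => by simp; ring⟩)
      (fun _ _ => ⟨fun _ _ => by simp; ring, fun _ _ => by simp; ring⟩)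
      (fun g x y z => by simp only [hi, dot_dot hY]) (fun _ _ _ => by ring)
    rw [Submodule.finrank_eq_zero.1 hL, Submodule.mem_bot] at hv
    have := hf x y z
    rwa [hv, dotProduct_zero, sub_eq_zero] at this
  obtain ⟨v, hv, hf⟩ := mem_four hY
    (f := fun x w y z => mu t x y ⬝ᵥ mu t z w - mu t x z ⬝ᵥ mu t y w)
    (fun _ _ _ => ⟨fun _ _ => by simp; ring, fun _ _ => by simp; ring⟩)
    (fun _ _ _ => ⟨fun _ _ => by simp; ring, fun _ _ => by simp; ring⟩)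
    (fun _ _ _ => ⟨fun _ _ => by simp; ring, fun _ _ => by simp; ring⟩)
    (fun _ _ _ => ⟨fun _ _ => by simp; ring, fun _ _ => by simp; ring⟩)
    (fun g x y z w => by simp only [hi, dot_dot hY])
    (fun x w y z => by
      rw [hμ w y, hμ z x, hμ w z, hμ y x, dotProduct_comm (mu t y w), dotProduct_comm (mu t z w)]
      ring)
    (fun _ _ _ _ => by ring)
  obtain ⟨u, hu, hg⟩ := mem_four hY (f := fun x w y z => x ⬝ᵥ y * z ⬝ᵥ w - x ⬝ᵥ z * y ⬝ᵥ w)
    (fun _ _ _ => ⟨fun _ _ => by simp; ring, fun _ _ => by simp; ring⟩)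
    (fun _ _ _ => ⟨fun _ _ => by simp; ring, fun _ _ => by simp; ring⟩)
    (fun _ _ _ => ⟨fun _ _ => by simp; ring, fun _ _ => by simp; ring⟩)
    (fun _ _ _ => ⟨fun _ _ => by simp; ring, fun _ _ => by simp; ring⟩)
    (fun g x y z w => by simp only [dot_dot hY])
    (fun x w y z => by
      rw [dotProduct_comm w y, dotProduct_comm z x, dotProduct_comm w z, dotProduct_comm y x]
      ring)
    (fun _ _ _ _ => by ring)
  have hu0 : (⟨u, hu⟩ : Fx _ _) ≠ 0 := fun h => by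
    obtain ⟨i, j, hij⟩ := h2
    have := hg (Pi.single i 1) (Pi.single j 1) (Pi.single i 1) (Pi.single j 1)
    rw [show u = 0 from congrArg Subtype.val h] at this
    simp [hij] at this
  obtain ⟨c, hc⟩ := (finrank_eq_one_iff_of_nonzero' _ hu0).1 h4 ⟨v, hv⟩
  have hc' : c • u = v := congrArg Subtype.val hc
  refine ⟨⟨dotProductBilin ℂ ℂ, mu t, c, fun x y => dotProduct_comm x y, hμ, fun x y z => ?_,
    fun x y z => ?_⟩, fun g x y => dot_dot hY g x y, hi, fun h => ht0 ?_⟩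
  · change mu t x y ⬝ᵥ z = mu t x z ⬝ᵥ y
    rw [hμ x y, hT, hμ]
  · refine dotProduct_eq _ _ fun w => ?_
    have h1 := hf x w y z
    rw [← hc', dotProduct_smul, ← hg] at h1
    have h3 : ∀ a z w, mu t a z ⬝ᵥ w = a ⬝ᵥ mu t z w := fun a z w => by
      rw [hT, hμ, dotProduct_comm]
    simp only [sub_dotProduct, smul_dotProduct, h3, dotProductBilin_apply_apply, smul_eq_mul] at h1 ⊢
    linear_combination h1
  · funext ⟨⟨i, j⟩, k⟩
    have := mu_dot t (Pi.single i 1) (Pi.single j 1) (Pi.single k 1)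
    change mu t = 0 at h
    rw [h, tn_single, tn_single, single_one_dotProduct] at this
    simpa using this.symm

end Core

open Core in
theorem exists_action (χ γ : IrrCharacter G) {n : ℕ} (hn : charDegree χ.1 + 1 = n)
    (hr : ∀ g, (χ.1 g).im = 0) (hγ : ∀ g, (χ.1 g ^ 2 - χ.1 (g * g)) / 2 = γ.1 g)
    (h1 : charDegree γ.1 ≠ 1) (h2 : charDegree γ.1 ≠ charDegree χ.1)
    (hS : ip (fun g => (χ.1 g ^ 2 + χ.1 (g * g)) / 2) χ.1 ≠ 0) :
    ∃ ρ : G →* Perm (Fin n), ∀ g, ((#{x | ρ g x = x} : ℕ) : ℂ) = 1 + χ.1 g := by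
  have := Fintype.ofFinite G
  have hc : ∀ g, (starRingEnd ℂ) (χ.1 g) = χ.1 g := fun g => Complex.conj_eq_iff_im.2 (hr g)
  have hγc : ∀ g, (starRingEnd ℂ) (γ.1 g) = γ.1 g := fun g => by rw [← hγ]; simp [hc, map_ofNat]
  have hone : ip γ.1 (fun _ => 1) = 0 :=
    IrrCharacter.ip_of_ne (χ := γ) (ψ := IrrCharacter.one G) fun h => h1 (by
      rw [h]; simp [charDegree, IrrCharacter.one])
  have hfs : fsInd χ.1 = 1 := by
    have h3 := IrrCharacter.ip_star_of_real hr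
    rw [fsInd_eq_ip]
    simp only [ip_def, ← hγ, map_one, mul_one, Pi.star_apply, RCLike.star_def,
      Complex.conj_conj, ← sum_div, sum_sub_distrib, sq] at hone h3 ⊢
    linear_combination h3 - 2 * hone
  obtain ⟨m, Y, hY, -, hχ⟩ := (IrrCharacter.isOrthChar_of_fsInd_eq_one hfs).exists_orthogonal
  have hm : (m : ℂ) = χ.1 1 := by simp [← hχ]
  have hm' : m = charDegree χ.1 := by simp [charDegree, ← hm]
  have hγ1 : γ.1 1 ≠ 0 := γ.apply_one_ne_zero
  have hnt : Nontrivial (Fin m) := by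
    rw [Fin.nontrivial_iff_two_le]
    by_contra h
    rw [← hγ, mul_one, ← hm] at hγ1
    interval_cases m <;> simp at hγ1
  obtain ⟨D, hB, hμ, h0⟩ := exists_dat hY hnt
    (fun h => hS (by
      have := finrank_three hY (e := 1) (by simp)
      simp only [h, hχ] at this
      simpa [ip_def, hc] using this.symm))
    (by
      have h3 := finrank_three hY (e := -1) (by simp)
      have h4 := IrrCharacter.ip_of_ne (χ := γ) (ψ := χ) fun h => h2 (by rw [h])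
      simp only [ip_def, hχ, hc, ← hγ, map_one, mul_one, neg_mul, one_mul, ← sub_eq_add_neg] at h3 h4
      exact_mod_cast h3.trans h4)
    (by
      have h3 := finrank_four hY
      have h4 := γ.ip_self
      simp only [ip_def, hχ, hγc, hγ, map_one, mul_one, neg_mul, one_mul, ← sub_eq_add_neg] at h3 h4
      simp only [sq] at h3
      exact_mod_cast h3.trans h4)
  have hch : (repOfMatrix Y).character = χ.1 := by rw [character_repOfMatrix]; exact funext hχ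
  have hirr := rep_isIrreducible_of_isIrrCharacter (ρ := repOfMatrix Y) (hch ▸ χ.2)
  obtain ⟨π, hπ⟩ := D.exists_perm (repOfMatrix Y) hB hμ (n := n)
    (fun U hU => (eq_bot_or_eq_top (⟨U, fun g x hx => hU g x hx⟩ :
      Subrepresentation (repOfMatrix Y))).imp (congrArg Subrepresentation.toSubmodule)
        (congrArg Subrepresentation.toSubmodule))
    (by
      by_contra! h
      have h3 : ∀ g, γ.1 g = γ.1 1 := fun g => by
        have : ∀ g, χ.1 g = χ.1 1 := fun g => by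
          rw [← hch, Representation.character, Representation.character, h, h]
        rw [← hγ, ← hγ, this, this (g * g), mul_one]
      have hG : (Nat.card G : ℂ) ≠ 0 := by exact_mod_cast Nat.card_pos.ne'
      simp [ip_def, h3 _, hγ1, hG, -Nat.card_eq_fintype_card, Nat.card_pos.ne'] at hone)
    h0 (by simp [hm', hn])
  refine ⟨π, fun g => ?_⟩
  rw [hπ, hch, χ.isCharacter.apply_inv, hc]

end Cfsg.Snd

set_option linter.all false in
theorem Cfsg.Rz.Snd_Core_0 : True := by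
  have := @_root_.Cfsg.Snd.Core.pr.eq_def.{0}
  have := @_root_.Cfsg.Snd.Core.pr.fun_cases
  have := @_root_.Cfsg.Snd.Core.mu.eq_def.{0}
  have := @_root_.Cfsg.Snd.Core.mu.fun_cases
  have := @_root_.Cfsg.Snd.Core.Fx.eq_def.{0, 0}
  have := @_root_.Cfsg.Snd.Core.Fx.eq_1.{0, 0}
  have := @_root_.Cfsg.Snd.Core.Fx.fun_cases
  have := @_root_.Cfsg.Snd.Core.kr.eq_def.{0, 0, 0}
  have := @_root_.Cfsg.Snd.Core.kr.eq_1.{0, 0, 0}
  have := @_root_.Cfsg.Snd.Core.kr.fun_cases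
  have := @_root_.Cfsg.Snd.Core.tn.eq_def.{0, 0}
  have := @_root_.Cfsg.Snd.Core.tn.fun_cases
  trivial
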