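import Cfsg.Agent.Snd.Defs

/-!
# S4905: a commutative algebra on `ℂ ⊕ V` and its points
-/

set_option autoImplicit false
set_option linter.unusedSectionVars false

namespace Cfsg.Snd

open Equiv Finset

/-- A symmetric form and a commutative product on `V` such that `ℂ ⊕ V` is associative. -/
structure Dat (V : Type*) [AddCommGroup V] [Module ℂ V] where
  B : V →ₗ[ℂ] V →ₗ[ℂ] ℂ
  μ : V →ₗ[ℂ] V →ₗ[ℂ] V
  κ : ℂ
  hB : ∀ x y, B x y = B y x
  hμ : ∀ x y, μ x y = μ y x
  hT : ∀ x y z, B (μ x y) z = B (μ x z) y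
  hA : ∀ x y z, μ (μ x y) z - (κ * B x y) • z = μ (μ x z) y - (κ * B x z) • y

namespace Dat

variable {V : Type*} [AddCommGroup V] [Module ℂ V] (D : Dat V)

/-- The algebra. -/
def R (_ : Dat V) : Type _ := ℂ × V

instance : AddCommGroup D.R := inferInstanceAs (AddCommGroup (ℂ × V))
instance : Module ℂ D.R := inferInstanceAs (Module ℂ (ℂ × V))
instance [FiniteDimensional ℂ V] : FiniteDimensional ℂ D.R :=
  inferInstanceAs (FiniteDimensional ℂ (ℂ × V))

/-- The product. -/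
def ml (r s : ℂ × V) : ℂ × V :=
  (r.1 * s.1 - D.κ * D.B r.2 s.2, r.1 • s.2 + s.1 • r.2 + D.μ r.2 s.2)

theorem ml_comm (r s : ℂ × V) : D.ml r s = D.ml s r := by
  simp only [ml, D.hB r.2, D.hμ r.2, mul_comm r.1, add_comm (r.1 • s.2)]

theorem ml_right_comm (r s t : ℂ × V) : D.ml (D.ml r s) t = D.ml (D.ml r t) s := by
  have h1 := D.hT r.2 s.2 t.2
  have h2 := D.hA r.2 s.2 t.2
  refine Prod.ext ?_ ?_
  · simp only [ml, map_add, map_smul, LinearMap.add_apply, LinearMap.smul_apply, smul_eq_mul,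
      D.hB t.2 s.2]
    linear_combination (-D.κ) * h1
  · simp only [ml, map_add, map_smul, LinearMap.add_apply, LinearMap.smul_apply,
      D.hμ t.2 s.2]
    linear_combination (norm := module) h2

theorem ml_assoc (a b c : ℂ × V) : D.ml (D.ml a b) c = D.ml a (D.ml b c) := by
  rw [D.ml_comm a (D.ml b c), D.ml_comm a b, D.ml_right_comm]

noncomputable instance : CommRing D.R where
  __ := (inferInstance : AddCommGroup D.R)
  mul := D.ml
  one := ((1, 0) : ℂ × V)
  mul_comm := D.ml_comm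
  mul_assoc a b c := D.ml_assoc a b c
  one_mul (a : ℂ × V) := by
    change D.ml (1, 0) a = a
    simp [ml]
  mul_one (a : ℂ × V) := by
    change D.ml a (1, 0) = a
    simp [ml]
  zero_mul (a : ℂ × V) := by
    change D.ml 0 a = 0
    simp [ml]
  mul_zero (a : ℂ × V) := by
    change D.ml a 0 = 0
    simp [ml]
  left_distrib (a b c : ℂ × V) := by
    change D.ml a (b + c) = D.ml a b + D.ml a c
    refine Prod.ext ?_ ?_ <;> simp [ml]
    · ring
    · module
  right_distrib (a b c : ℂ × V) := by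
    change D.ml (a + b) c = D.ml a c + D.ml b c
    refine Prod.ext ?_ ?_ <;> simp [ml]
    · ring
    · module

theorem ml_smul (c : ℂ) (a b : ℂ × V) : D.ml (c • a) b = c • D.ml a b := by
  refine Prod.ext ?_ ?_ <;> simp [ml]
  · ring
  · module

noncomputable instance : Algebra ℂ D.R :=
  Algebra.ofModule (fun c a b => D.ml_smul c a b)
    (fun c a b => (D.ml_comm _ _).trans ((D.ml_smul c b a).trans
      (congrArg (c • ·) (D.ml_comm b a))))

/-- The inclusion of `V`. -/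
def inr : V →ₗ[ℂ] D.R := LinearMap.inr ℂ ℂ V

theorem inr_eq {r : D.R} (h : r.1 = 0) : D.inr r.2 = r := Prod.ext h.symm rfl

theorem inr_mul {x y : V} (h : (D.inr x * D.inr y).1 = 0) :
    D.inr (D.μ x y) = D.inr x * D.inr y := by
  rw [← D.inr_eq h]
  congr 1
  change _ = (D.ml (0, x) (0, y)).2
  simp [ml]

variable {G : Type*} [Group G] [Finite G] (ρ : Representation ℂ G V)
  (hρB : ∀ g x y, D.B (ρ g x) (ρ g y) = D.B x y)
  (hρμ : ∀ g x y, D.μ (ρ g x) (ρ g y) = ρ g (D.μ x y))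

/-- The action on the algebra. -/
noncomputable def act (g : G) : D.R →ₐ[ℂ] D.R :=
  AlgHom.ofLinearMap (LinearMap.prodMap LinearMap.id (ρ g))
    (by change ((1, ρ g 0) : ℂ × V) = (1, 0); simp)
    (fun (a b : ℂ × V) => by
      change ((D.ml a b).1, ρ g (D.ml a b).2) = D.ml (a.1, ρ g a.2) (b.1, ρ g b.2)
      simp [ml, hρB, hρμ])

theorem act_mul (g h : G) (r : D.R) :
    D.act ρ hρB hρμ (g * h) r = D.act ρ hρB hρμ g (D.act ρ hρB hρμ h r) := by
  change ((r.1, ρ (g * h) r.2) : ℂ × V) = (r.1, ρ g (ρ h r.2))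
  simp

theorem act_one (r : D.R) : D.act ρ hρB hρμ 1 r = r := by
  change ((r.1, ρ 1 r.2) : ℂ × V) = (r.1, r.2)
  simp

include hρB hρμ in
theorem isReduced [FiniteDimensional ℂ V]
    (hirr : ∀ U : Submodule ℂ V, (∀ g, ∀ x ∈ U, ρ g x ∈ U) → U = ⊥ ∨ U = ⊤)
    (hinv : ∃ g, ρ g ≠ 1) (hμ : D.μ ≠ 0) : IsReduced D.R := by
  classical
  have := Fintype.ofFinite G
  have h0 : ρ.invariants = ⊥ := by
    refine (hirr _ fun g x hx => by rwa [hx g]).resolve_right fun h => ?_
    obtain ⟨g, hg⟩ := hinv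
    exact hg (LinearMap.ext fun x => (h ▸ Submodule.mem_top : x ∈ ρ.invariants) g)
  have h1 : ∀ r : D.R, IsNilpotent r → r.1 = 0 := by
    intro r hr
    have h2 : IsNilpotent (∑ g, D.act ρ hρB hρμ g r) :=
      isNilpotent_sum fun g _ => hr.map _
    have h3 : ∑ g, ρ g r.2 = 0 := by
      rw [← Submodule.mem_bot ℂ, ← h0]
      intro h
      rw [map_sum]
      exact Fintype.sum_equiv (Equiv.mulLeft h) _ _ fun g => by simp
    have h4 : ∑ g, D.act ρ hρB hρμ g r = algebraMap ℂ D.R (Fintype.card G * r.1) := by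
      rw [Algebra.algebraMap_eq_smul_one]
      change ∑ g, ((r.1, ρ g r.2) : ℂ × V) = (Fintype.card G * r.1 : ℂ) • ((1, 0) : ℂ × V)
      refine Prod.ext ?_ ?_ <;> simp [Prod.fst_sum, Prod.snd_sum, h3]
    have : Nontrivial D.R := inferInstanceAs (Nontrivial (ℂ × V))
    rw [h4, IsNilpotent.map_iff (algebraMap ℂ D.R).injective, isNilpotent_iff_eq_zero] at h2
    simpa using h2
  let N : Submodule ℂ V := ((nilradical D.R).restrictScalars ℂ).comap D.inr
  have hmN : ∀ x, x ∈ N ↔ IsNilpotent (D.inr x) := fun x => mem_nilradical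
  rcases hirr N (fun g x hx => (hmN _).2 (((hmN _).1 hx).map (D.act ρ hρB hρμ g))) with h | h
  · refine ⟨fun r hr => ?_⟩
    have h2 : r.2 ∈ N := (hmN _).2 (by rwa [D.inr_eq (h1 r hr)])
    rw [h, Submodule.mem_bot] at h2
    rw [← D.inr_eq (h1 r hr), h2, map_zero]
  exfalso
  have hN : ∀ x, D.inr x ∈ nilradical D.R := fun x => (h ▸ Submodule.mem_top : x ∈ N)
  let U : Submodule ℂ V := ((nilradical D.R * nilradical D.R).restrictScalars ℂ).comap D.inr
  have hU : ∀ x y, D.μ x y ∈ U := by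
    intro x y
    have h2 := Ideal.mul_mem_mul (hN x) (hN y)
    rwa [← D.inr_mul (h1 _ (mem_nilradical.1 (Ideal.mul_le_right h2)))] at h2
  let W : Submodule ℂ V := Submodule.span ℂ {z | ∃ x y, D.μ x y = z}
  have hW : W = ⊤ := by
    refine (hirr W fun g x hx => ?_).resolve_left fun h => hμ ?_
    · refine (Submodule.span_le (p := W.comap (ρ g))).2 ?_ hx
      rintro _ ⟨x, y, rfl⟩
      exact Submodule.subset_span ⟨_, _, hρμ g x y⟩
    · ext x y
      exact (Submodule.mem_bot ℂ).1 (h ▸ Submodule.subset_span ⟨x, y, rfl⟩ : D.μ x y ∈ (⊥ : Submodule ℂ V))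
  have hUt : ∀ x, x ∈ U := fun x =>
    (Submodule.span_le (p := U)).2 (by rintro _ ⟨x, y, rfl⟩; exact hU x y)
      (hW ▸ Submodule.mem_top : x ∈ W)
  have h5 : nilradical D.R * nilradical D.R = nilradical D.R := by
    refine le_antisymm Ideal.mul_le_right fun r hr => ?_
    rw [← D.inr_eq (h1 r (mem_nilradical.1 hr))]
    exact hUt r.2
  have : IsArtinianRing D.R := IsArtinianRing.of_finite ℂ _
  have h6 := (IsIdempotentElem.eq_zero_of_isNilpotent h5 (IsArtinianRing.isNilpotent_nilradical))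
  refine hμ ?_
  ext x y
  have := hN (D.μ x y)
  rw [h6] at this
  have h7 : D.inr (D.μ x y) = 0 := this
  exact congrArg Prod.snd h7

end Dat

/-- The points of a reduced finite-dimensional commutative algebra. -/
theorem bijective_ev (R : Type*) [CommRing R] [Algebra ℂ R] [FiniteDimensional ℂ R] [IsReduced R] :
    Function.Bijective (LinearMap.pi fun φ : R →ₐ[ℂ] ℂ => φ.toLinearMap) := by
  have : IsArtinianRing R := IsArtinianRing.of_finite ℂ _
  have h1 : Function.Injective (LinearMap.pi fun φ : R →ₐ[ℂ] ℂ => φ.toLinearMap) := by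
    rw [injective_iff_map_eq_zero]
    intro r hr
    have h2 : r ∈ Ideal.jacobson (⊥ : Ideal R) := by
      rw [Ideal.jacobson, Submodule.mem_sInf]
      rintro m ⟨-, hm⟩
      let _ := Ideal.Quotient.field m
      let e := AlgEquiv.ofBijective (Algebra.ofId ℂ (R ⧸ m))
        IsAlgClosed.algebraMap_bijective_of_isIntegral
      have := congrFun hr (e.symm.toAlgHom.comp (Ideal.Quotient.mkₐ ℂ m))
      simpa [Ideal.Quotient.eq_zero_iff_mem] using this
    obtain ⟨k, hk⟩ := IsArtinianRing.isNilpotent_jacobson_bot (R := R)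
    exact IsReduced.eq_zero r ⟨k, by simpa [hk] using Ideal.pow_mem_pow h2 k⟩
  refine ⟨h1, (LinearMap.injective_iff_surjective_of_finrank_eq_finrank ?_).1 h1⟩
  refine le_antisymm (LinearMap.finrank_le_finrank_of_injective h1) ?_
  simpa using card_algHom_le_finrank ℂ R ℂ

theorem Dat.exists_perm {V : Type*} [AddCommGroup V] [Module ℂ V] [FiniteDimensional ℂ V]
    (D : Dat V) {G : Type*} [Group G] [Finite G] (ρ : Representation ℂ G V)
    (hρB : ∀ g x y, D.B (ρ g x) (ρ g y) = D.B x y)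
    (hρμ : ∀ g x y, D.μ (ρ g x) (ρ g y) = ρ g (D.μ x y))
    (hirr : ∀ U : Submodule ℂ V, (∀ g, ∀ x ∈ U, ρ g x ∈ U) → U = ⊥ ∨ U = ⊤)
    (hinv : ∃ g, ρ g ≠ 1) (hμ : D.μ ≠ 0) {n : ℕ} (hn : Module.finrank ℂ V + 1 = n) :
    ∃ π : G →* Perm (Fin n), ∀ g, ((#{x | π g x = x} : ℕ) : ℂ) = 1 + ρ.character g⁻¹ := by
  classical
  have := D.isReduced ρ hρB hρμ hirr hinv hμ
  have := Fintype.ofFinite (D.R →ₐ[ℂ] ℂ)
  let ev := LinearEquiv.ofBijective _ (bijective_ev D.R)
  have hc : Fintype.card (D.R →ₐ[ℂ] ℂ) = n := by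
    have := ev.finrank_eq
    rw [Module.finrank_fintype_fun_eq_card] at this
    rw [← this, ← hn]
    change Module.finrank ℂ (ℂ × V) = _
    simp [add_comm]
  let act : MulAction G (D.R →ₐ[ℂ] ℂ) :=
    { smul := fun g φ => φ.comp (D.act ρ hρB hρμ g⁻¹)
      one_smul := fun φ => AlgHom.ext fun r => by
        change φ (D.act ρ hρB hρμ 1⁻¹ r) = φ r
        rw [inv_one, D.act_one]
      mul_smul := fun g h φ => AlgHom.ext fun r => by
        change φ (D.act ρ hρB hρμ (g * h)⁻¹ r) = φ (D.act ρ hρB hρμ h⁻¹ (D.act ρ hρB hρμ g⁻¹ r))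
        rw [mul_inv_rev, D.act_mul] }
  let e := Fintype.equivFinOfCardEq hc
  refine ⟨e.permCongrHom.toMonoidHom.comp (MulAction.toPermHom G _), fun g => ?_⟩
  have h1 : #{x | (e.permCongrHom.toMonoidHom.comp (MulAction.toPermHom G _)) g x = x} =
      #{φ : D.R →ₐ[ℂ] ℂ | g • φ = φ} := by
    refine (card_equiv e fun φ => ?_).symm
    simp
  have h2 : ev.conj (D.act ρ hρB hρμ g⁻¹).toLinearMap = LinearMap.funLeft ℂ ℂ (g • ·) := by
    refine LinearMap.ext fun f => ?_
    obtain ⟨r, rfl⟩ := ev.surjective f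
    rw [LinearEquiv.conj_apply_apply, ev.symm_apply_apply]
    rfl
  have h3 := LinearMap.trace_conj' (D.act ρ hρB hρμ g⁻¹).toLinearMap ev
  rw [h2, LinearMap.trace_eq_matrix_trace ℂ (Pi.basisFun ℂ _)] at h3
  have h4 : LinearMap.trace ℂ D.R (D.act ρ hρB hρμ g⁻¹).toLinearMap = 1 + ρ.character g⁻¹ := by
    change LinearMap.trace ℂ (ℂ × V) (LinearMap.prodMap LinearMap.id (ρ g⁻¹)) = _
    rw [LinearMap.trace_prodMap']
    simp [Representation.character]
  rw [h1, ← h4, ← h3]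
  simp [Matrix.trace, LinearMap.toMatrix_apply, LinearMap.funLeft_apply, Pi.single_apply]

end Cfsg.Snd

set_option linter.all false in
theorem Cfsg.Rz.Snd_CoreA_0 : True := by
  have := @_root_.Cfsg.Snd.Dat.act.congr_simp.{0, 0}
  have := @_root_.Cfsg.Snd.Dat.act.eq_def.{0, 0}
  have := @_root_.Cfsg.Snd.Dat.act.eq_1.{0, 0}
  have := @_root_.Cfsg.Snd.Dat.act.fun_cases
  have := @_root_.Cfsg.Snd.Dat.ml.eq_def.{0}
  have := @_root_.Cfsg.Snd.Dat.ml.fun_cases
  have := @_root_.Cfsg.Snd.Dat.R.eq_def.{0}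
  have := @_root_.Cfsg.Snd.Dat.R.eq_1.{0}
  have := @_root_.Cfsg.Snd.Dat.R.fun_cases
  have := @_root_.Cfsg.Snd.Dat.instAlgebraComplexR.eq_def.{0}
  have := @_root_.Cfsg.Snd.Dat.instAlgebraComplexR.eq_1.{0}
  have := @_root_.Cfsg.Snd.Dat.instAlgebraComplexR.fun_cases
  have := @_root_.Cfsg.Snd.Dat.instModuleComplexR.eq_def.{0}
  have := @_root_.Cfsg.Snd.Dat.instModuleComplexR.eq_1.{0}
  have := @_root_.Cfsg.Snd.Dat.instModuleComplexR.fun_cases
  have := @_root_.Cfsg.Snd.Dat.instAddCommGroupR.eq_def.{0}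
  have := @_root_.Cfsg.Snd.Dat.instAddCommGroupR.eq_1.{0}
  have := @_root_.Cfsg.Snd.Dat.instAddCommGroupR.fun_cases
  have := @_root_.Cfsg.Snd.Dat.inr.eq_def.{0}
  have := @_root_.Cfsg.Snd.Dat.inr.eq_1.{0}
  have := @_root_.Cfsg.Snd.Dat.inr.fun_cases
  have := @_root_.Cfsg.Snd.Dat.instCommRingR.eq_def.{0}
  have := @_root_.Cfsg.Snd.Dat.instCommRingR.eq_1.{0}
  have := @_root_.Cfsg.Snd.Dat.instCommRingR.fun_cases.{0}
  have := @_root_.Cfsg.Snd.Dat.mk.congr_simp.{0}
  trivial
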