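import Cfsg.Agent.Sym.Hook
import Cfsg.Agent.Char.OrthChar

/-!
# S4905 (the symmetric group is determined by its degree multiset): vocabulary

Plan: `plans/helper6_S4905.md`.
-/

set_option autoImplicit false

namespace Cfsg.Snd

open Equiv Finset

section Act

variable {Ω : Type*} [Fintype Ω] [DecidableEq Ω] {G : Type*} [Group G]

/-- `G` acts `t`-transitively through `ρ`. -/
def Tr (ρ : G →* Perm Ω) (t : ℕ) : Prop :=
  ∀ (σ : Perm Ω) (F : Finset Ω), #F ≤ t → ∃ g, ∀ x ∈ F, ρ g x = σ x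

/-- `G` has the orbits of the symmetric group on pairs (`a`-set, `b`-set). -/
def SameSS (ρ : G →* Perm Ω) (a b : ℕ) : Prop :=
  ∀ (σ : Perm Ω) (S T : Finset Ω), #S = a → #T = b →
    ∃ g, S.image (ρ g) = S.image σ ∧ T.image (ρ g) = T.image σ

/-- `G` has the orbits of the symmetric group on pairs (`a`-set, tuple of at most `f` points). -/
def SameSF (ρ : G →* Perm Ω) (a f : ℕ) : Prop :=
  ∀ (σ : Perm Ω) (S F : Finset Ω), #S = a → #F ≤ f →
    ∃ g, S.image (ρ g) = S.image σ ∧ ∀ x ∈ F, ρ g x = σ x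

/-- Every pointwise stabiliser of at most `t` points contains an element with `ε = -1`. -/
def OddFix (ρ : G →* Perm Ω) (ε : G →* ℤˣ) (t : ℕ) : Prop :=
  ∀ F : Finset Ω, #F ≤ t → ∃ g, ε g = -1 ∧ ∀ x ∈ F, ρ g x = x

/-- A sign character as a class function. -/
def sg (ε : G →* ℤˣ) : G → ℂ := fun g => ((ε g : ℤ) : ℂ)

variable (Ω) in
/-- The permutation character of the symmetric group on `k`-sets. -/
def pc (k : ℕ) : Perm Ω → ℂ :=
  fun σ => (#{S ∈ powersetCard k (univ : Finset Ω) | S.image σ = S} : ℕ)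

variable (Ω) in
/-- The character of the two-row partition `(n - k, k)`. -/
def th : ℕ → Perm Ω → ℂ
  | 0 => pc Ω 0
  | k + 1 => pc Ω (k + 1) - pc Ω k

/-- `χ` has a vector fixed by the pointwise stabiliser of at most `l` points. -/
def Lev (χ : Perm Ω → ℂ) (l : ℕ) : Prop :=
  ∃ F : Finset Ω, #F ≤ l ∧ ∑ σ : Perm Ω with (∀ x ∈ F, σ x = x), χ σ ≠ 0

end Act

/-- The degree of `th k`. -/
def Dk (n : ℕ) : ℕ → ℕ
  | 0 => 1
  | k + 1 => n.choose (k + 1) - n.choose k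

/-- `B` is a `β`-set with `N` beads of a partition of `n`. -/
def Bt (N n : ℕ) (B : Finset ℕ) : Prop := #B = N ∧ ∑ x ∈ B, x = Sym.tri N + n

instance (N n : ℕ) (B : Finset ℕ) : Decidable (Bt N n B) := by unfold Bt; infer_instance

/-- The hook product. -/
def hk (B : Finset ℕ) : ℕ := ∏ x ∈ B, ∏ c ∈ range x with c ∉ B, (x - c)

/-- The degree (hook length formula). -/
def dg (n : ℕ) (B : Finset ℕ) : ℕ := n.factorial / hk B

/-- The first row has at most `n - k` boxes. -/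
def RowGe (N n k : ℕ) (B : Finset ℕ) : Prop := ∀ x ∈ B, x + k + 1 ≤ N + n

/-- The first column has at most `n - k` boxes. -/
def ColGe (N n k : ℕ) (B : Finset ℕ) : Prop := ∀ c, c + n < N + k → c ∈ B

/-- `d` is the degree of a partition of `n` whose first row and column have at most `n - k`
boxes. -/
def Hi (n k d : ℕ) : Prop := ∃ B, Bt n n B ∧ RowGe n n k B ∧ ColGe n n k B ∧ dg n B = d

/-- Lower bound for the degrees of partitions with short first row and column (`13 ≤ n`). -/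
def En (n : ℕ) : ℕ := 429 * 2 ^ ((n - 13) / 2)

/-- The two numerical conditions of the step `j → j + 1`. -/
def Win (n j : ℕ) : Prop :=
  (∀ s : Multiset ℕ, (∀ d ∈ s, Hi n j d) → s.sum = Dk n (j + 1) → Multiset.card s = 1) ∧
  (∀ s : Multiset ℕ, (∀ d ∈ s, Hi n j d) → s.sum + Dk n (j - 1) ≠ Dk n (j + 1))

/-- The numerical data that finish the proof for degree `n`. -/
def Plan (n : ℕ) : Prop := ∃ k, 2 ≤ k ∧ 2 * k + 3 ≤ n ∧ (∀ j, 2 ≤ j → j < k → Win n j) ∧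
  (∀ i < k, Dk n i < Dk n (i + 1)) ∧
  ((∃ p, p.Prime ∧ n < 2 * p ∧ p + 3 ≤ n ∧ n < p + 2 * k) ∨
   (∃ p, p.Prime ∧ 5 ≤ p ∧ n = 2 * p + 3) ∨
   (4 ≤ k ∧ 32 < n ∧ ∃ s : Finset ℕ, (∀ p ∈ s, p.Prime) ∧ ∑ p ∈ s, p ≤ 2 * k ∧
      n ^ 4 ≤ ∏ p ∈ s, p))

section Grp

variable (G : Type*) [Group G]

/-- `G` has the character degrees of the symmetric group of degree `n`. -/
def SameDeg (n : ℕ) : Prop := ∃ f : IrrCharacter G ≃ IrrCharacter (Perm (Fin n)),
  ∀ χ, charDegree (f χ).1 = charDegree χ.1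

/-- The list `l` is the list of the character degrees of `G`. -/
def DegList (l : List ℕ) : Prop :=
  ∃ e : IrrCharacter G ≃ Fin l.length, ∀ χ, charDegree χ.1 = l.get (e χ)

/-- The square of the character of degree `n - 1` decomposes as in the symmetric group. -/
def TypeI (n : ℕ) : Prop := ∃ χ β γ : IrrCharacter G, charDegree χ.1 + 1 = n ∧
  (∀ g, (χ.1 g).im = 0) ∧ (∀ g, (χ.1 g ^ 2 - χ.1 (g * g)) / 2 = γ.1 g) ∧
  (∀ g, (χ.1 g ^ 2 + χ.1 (g * g)) / 2 = 1 + χ.1 g + β.1 g) ∧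
  [1, charDegree χ.1, charDegree β.1, charDegree γ.1].Nodup

end Grp

end Cfsg.Snd

set_option linter.all false in
theorem Cfsg.Rz.Snd_Defs_0 : True := by
  have := @_root_.Cfsg.Snd.th.congr_simp.{0}
  have := @_root_.Cfsg.Snd.th.eq_def.{0}
  have := @_root_.Cfsg.Snd.th.eq_1.{0}
  have := @_root_.Cfsg.Snd.th.fun_cases
  have := @_root_.Cfsg.Snd.Bt.eq_def
  have := @_root_.Cfsg.Snd.Bt.eq_1
  have := @_root_.Cfsg.Snd.Bt.fun_cases
  have := @_root_.Cfsg.Snd.Win.eq_def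
  have := @_root_.Cfsg.Snd.Win.eq_1
  have := @_root_.Cfsg.Snd.Win.fun_cases
  have := @_root_.Cfsg.Snd.RowGe.eq_def
  have := @_root_.Cfsg.Snd.RowGe.eq_1
  have := @_root_.Cfsg.Snd.RowGe.fun_cases
  have := @_root_.Cfsg.Snd.dg.eq_def
  have := @_root_.Cfsg.Snd.dg.eq_1
  have := @_root_.Cfsg.Snd.dg.fun_cases
  have := @_root_.Cfsg.Snd.Lev.congr_simp.{0}
  have := @_root_.Cfsg.Snd.Lev.eq_def.{0}
  have := @_root_.Cfsg.Snd.Lev.eq_1.{0}
  have := @_root_.Cfsg.Snd.Lev.fun_cases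
  have := @_root_.Cfsg.Snd.DegList.eq_def.{0}
  have := @_root_.Cfsg.Snd.DegList.eq_1.{0}
  have := @_root_.Cfsg.Snd.DegList.fun_cases
  have := @_root_.Cfsg.Snd.TypeI.eq_def.{0}
  have := @_root_.Cfsg.Snd.TypeI.eq_1.{0}
  have := @_root_.Cfsg.Snd.TypeI.fun_cases
  have := @_root_.Cfsg.Snd.ColGe.eq_def
  have := @_root_.Cfsg.Snd.ColGe.eq_1
  have := @_root_.Cfsg.Snd.ColGe.fun_cases
  have := @_root_.Cfsg.Snd.Dk.eq_def
  trivial

set_option linter.all false in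
theorem Cfsg.Rz.Snd_Defs_1 : True := by
  have := @_root_.Cfsg.Snd.Dk.eq_1
  have := @_root_.Cfsg.Snd.Dk.fun_cases
  have := @_root_.Cfsg.Snd.Plan.eq_def
  have := @_root_.Cfsg.Snd.Plan.eq_1
  have := @_root_.Cfsg.Snd.Plan.fun_cases
  have := @_root_.Cfsg.Snd.hk.eq_def
  have := @_root_.Cfsg.Snd.hk.eq_1
  have := @_root_.Cfsg.Snd.hk.fun_cases
  have := @_root_.Cfsg.Snd.OddFix.eq_def.{0, 0}
  have := @_root_.Cfsg.Snd.OddFix.eq_1.{0, 0}
  have := @_root_.Cfsg.Snd.OddFix.fun_cases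
  have := @_root_.Cfsg.Snd.instDecidableBt.eq_def
  have := @_root_.Cfsg.Snd.instDecidableBt.eq_1
  have := @_root_.Cfsg.Snd.instDecidableBt.fun_cases
  have := @_root_.Cfsg.Snd.Tr.eq_def.{0, 0}
  have := @_root_.Cfsg.Snd.Tr.eq_1.{0, 0}
  have := @_root_.Cfsg.Snd.Tr.fun_cases
  have := @_root_.Cfsg.Snd.SameDeg.eq_def.{0}
  have := @_root_.Cfsg.Snd.SameDeg.eq_1.{0}
  have := @_root_.Cfsg.Snd.SameDeg.fun_cases
  have := @_root_.Cfsg.Snd.Hi.eq_def
  have := @_root_.Cfsg.Snd.Hi.eq_1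
  have := @_root_.Cfsg.Snd.Hi.fun_cases
  have := @_root_.Cfsg.Snd.En.eq_def
  have := @_root_.Cfsg.Snd.En.eq_1
  have := @_root_.Cfsg.Snd.En.fun_cases
  have := @_root_.Cfsg.Snd.sg.eq_def.{0}
  have := @_root_.Cfsg.Snd.sg.eq_1.{0}
  have := @_root_.Cfsg.Snd.sg.fun_cases
  have := @_root_.Cfsg.Snd.pc.congr_simp.{0}
  trivial

set_option linter.all false in
theorem Cfsg.Rz.Snd_Defs_2 : True := by
  have := @_root_.Cfsg.Snd.pc.eq_def.{0}
  have := @_root_.Cfsg.Snd.pc.eq_1.{0}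
  have := @_root_.Cfsg.Snd.pc.fun_cases
  have := @_root_.Cfsg.Snd.SameSS.congr_simp.{0, 0}
  have := @_root_.Cfsg.Snd.SameSS.eq_def.{0, 0}
  have := @_root_.Cfsg.Snd.SameSS.eq_1.{0, 0}
  have := @_root_.Cfsg.Snd.SameSS.fun_cases
  have := @_root_.Cfsg.Snd.SameSF.congr_simp.{0, 0}
  have := @_root_.Cfsg.Snd.SameSF.eq_def.{0, 0}
  have := @_root_.Cfsg.Snd.SameSF.eq_1.{0, 0}
  have := @_root_.Cfsg.Snd.SameSF.fun_cases
  trivial
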