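import Cfsg.Agent.Snd.Tool
import Cfsg.Agent.Char.SimpleLin

/-!
# S4905 for `n = 8`

`χ` of degree 7, `φ = χ|A` is real of indicator 1. The symmetric square is `η + 20 + 7`, the
alternating square is `21`, `14 + 7` or `7 + 7 + 7`. The last case dies on an element of order 5,
the second one on `fsInd (φ²) = 5 ≠ 3`.
-/

set_option autoImplicit false
set_option linter.unusedSectionVars false

namespace Cfsg.Snd.Eight

open Equiv Finset

variable {G : Type*} [Group G] [Finite G] {ε : G →* ℤˣ}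

theorem rep_four (t : Multiset ℕ) (h : ∀ x ∈ t, x = 7 ∨ x = 14 ∨ x = 20 ∨ x = 21) :
    ∃ a b c d : ℕ, t = Multiset.replicate a 7 + Multiset.replicate b 14 +
      Multiset.replicate c 20 + Multiset.replicate d 21 := by
  induction t using Multiset.induction_on with
  | empty => exact ⟨0, 0, 0, 0, rfl⟩
  | cons x t ih =>
    obtain ⟨a, b, c, d, rfl⟩ := ih fun y hy => h y (Multiset.mem_cons_of_mem hy)
    rcases h x (Multiset.mem_cons_self _ _) with rfl | rfl | rfl | rfl
    · exact ⟨a + 1, b, c, d, by simp only [Multiset.replicate_succ, Multiset.cons_add]⟩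
    · exact ⟨a, b + 1, c, d, by
        simp only [Multiset.replicate_succ, Multiset.cons_add, Multiset.add_cons]⟩
    · exact ⟨a, b, c + 1, d, by
        simp only [Multiset.replicate_succ, Multiset.cons_add, Multiset.add_cons]⟩
    · exact ⟨a, b, c, d + 1, by
        simp only [Multiset.replicate_succ, Multiset.cons_add, Multiset.add_cons]⟩

theorem peel {α : Type*} {f : α → ℕ} {s : Multiset α} {b : ℕ} {t : Multiset ℕ}
    (h : s.map f = b ::ₘ t) : ∃ a s', s = a ::ₘ s' ∧ f a = b ∧ s'.map f = t := by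
  classical
  obtain ⟨a, ha, h1, h2⟩ := (Multiset.map_eq_cons f s t b).2 h
  exact ⟨a, s.erase a, (Multiset.cons_erase ha).symm, h1, h2⟩

theorem sum_cases (t : Multiset ℕ) (h : ∀ x ∈ t, x = 7 ∨ x = 14 ∨ x = 20 ∨ x = 21) :
    (t.sum = 27 → t = 20 ::ₘ 7 ::ₘ 0) ∧
    (t.sum = 21 → t = 21 ::ₘ 0 ∨ t = 14 ::ₘ 7 ::ₘ 0 ∨ t = 7 ::ₘ 7 ::ₘ 7 ::ₘ 0) := by
  obtain ⟨a, b, c, d, rfl⟩ := rep_four t h
  simp only [Multiset.sum_add, Multiset.sum_replicate, smul_eq_mul]
  constructor
  · intro hs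
    obtain ⟨rfl, rfl, rfl, rfl⟩ : a = 1 ∧ b = 0 ∧ c = 1 ∧ d = 0 := by omega
    decide
  · intro hs
    obtain ⟨rfl, rfl, rfl, rfl⟩ | ⟨rfl, rfl, rfl, rfl⟩ | ⟨rfl, rfl, rfl, rfl⟩ :
      (a = 0 ∧ b = 0 ∧ c = 0 ∧ d = 1) ∨ (a = 1 ∧ b = 1 ∧ c = 0 ∧ d = 0) ∨
        (a = 3 ∧ b = 0 ∧ c = 0 ∧ d = 0) := by
      have : c ≤ 1 := by omega
      have : d ≤ 1 := by omega
      interval_cases c <;> interval_cases d <;> omega
    all_goals decide

/-- The `G₂`-like decomposition is impossible when all three characters are irreducible. -/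
theorem final {H : Type*} [Group H] [Finite H] (φ β ψ : IrrCharacter H)
    (d7 : charDegree φ.1 = 7) (d20 : charDegree β.1 = 20) (d14 : charDegree ψ.1 = 14)
    (hr : ∀ g, (φ.1 g).im = 0)
    (hS : ∀ g, (φ.1 g ^ 2 + φ.1 (g * g)) / 2 = 1 + β.1 g + φ.1 g)
    (hL : ∀ g, (φ.1 g ^ 2 - φ.1 (g * g)) / 2 = ψ.1 g + φ.1 g) : False := by
  have d1 : charDegree (IrrCharacter.one H).1 = 1 := charDegree_eq_of_apply_one (by simp)
  have z : ∀ {a b : IrrCharacter H}, charDegree a.1 ≠ charDegree b.1 → ip a.1 b.1 = 0 :=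
    Tool.ip_eq_zero_of_charDegree_ne
  have hsq : φ.1 * φ.1 = (IrrCharacter.one H).1 + β.1 + φ.1 + ψ.1 + φ.1 := by
    funext g
    simp only [Pi.mul_apply, Pi.add_apply, IrrCharacter.one_apply]
    linear_combination hS g + hL g
  have hd : (fun g => φ.1 (g * g)) = (IrrCharacter.one H).1 + β.1 - ψ.1 := by
    funext g
    simp only [Pi.sub_apply, Pi.add_apply, IrrCharacter.one_apply]
    linear_combination hS g - hL g
  have hrβ : ∀ g, (β.1 g).im = 0 := fun g => by
    have : β.1 g = (φ.1 g * φ.1 g + φ.1 (g * g)) / 2 - 1 - φ.1 g := by linear_combination -hS g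
    rw [this]
    simp [hr]
  have hrψ : ∀ g, (ψ.1 g).im = 0 := fun g => by
    have : ψ.1 g = (φ.1 g * φ.1 g - φ.1 (g * g)) / 2 - φ.1 g := by linear_combination -hL g
    rw [this]
    simp [hr]
  have n1 : fsInd φ.1 = 1 := IrrCharacter.fsInd_eq_one_of_odd hr (by rw [d7]; decide)
  have ho := IrrCharacter.isOrthChar_of_fsInd_eq_one n1
  have n2 : fsInd β.1 = 1 := (ho.mul ho).fsInd_eq_one_of_odd hrβ odd_one (by
    rw [hsq]
    simp only [ip_add_left, IrrCharacter.ip_self]
    rw [z (by omega), z (by omega), z (by omega)]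
    simp)
  have n3 : fsInd ψ.1 = 1 := (ho.mul ho).fsInd_eq_one_of_odd hrψ odd_one (by
    rw [hsq]
    simp only [ip_add_left, IrrCharacter.ip_self]
    rw [z (by omega), z (by omega), z (by omega)]
    simp)
  have n0 : fsInd (IrrCharacter.one H).1 = 1 := fsInd_one
  have key := fsInd_mul_self hr
  rw [hsq, hd] at key
  simp only [fsInd_add, n0, n1, n2, n3, ip_add_left, ip_sub_left, ip_add_right, ip_sub_right,
    IrrCharacter.ip_self] at key
  rw [z (by omega), z (by omega), z (by omega), z (by omega), z (by omega), z (by omega)] at key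
  norm_num at key

/-- The data read off from the degree list. -/
structure Ctx (ε : G →* ℤˣ) (χ : IrrCharacter G) : Prop where
  card : Nat.card G = 40320
  ne : ε ≠ 1
  deg : ∀ ψ : IrrCharacter G, charDegree ψ.1 = 1 ∨ charDegree ψ.1 = 7 ∨ charDegree ψ.1 = 14 ∨
    charDegree ψ.1 = 20 ∨ charDegree ψ.1 = 21 ∨ 28 ≤ charDegree ψ.1
  lin : ∀ ψ : IrrCharacter G, charDegree ψ.1 = 1 → ψ.1 = 1 ∨ ψ.1 = sg ε
  d7 : charDegree χ.1 = 7
  sev : ∀ ψ : IrrCharacter G, charDegree ψ.1 = 7 → ψ.1 = χ.1 ∨ ψ.1 = sg ε * χ.1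

theorem exists_ctx (h : DegList G
    [1, 1, 7, 7, 14, 14, 20, 20, 21, 21, 28, 28, 35, 35, 42, 56, 56, 64, 64, 70, 70, 90]) :
    ∃ (ε : G →* ℤˣ) (χ : IrrCharacter G), Ctx ε χ := by
  have hc := h.card_eq
  obtain ⟨e, he⟩ := h
  have k1 : ∀ ψ : IrrCharacter G, charDegree ψ.1 = 1 → (e ψ).1 = 0 ∨ (e ψ).1 = 1 := by
    intro ψ
    rw [he ψ]
    generalize e ψ = i
    revert i
    decide
  have k7 : ∀ ψ : IrrCharacter G, charDegree ψ.1 = 7 → (e ψ).1 = 2 ∨ (e ψ).1 = 3 := by
    intro ψ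
    rw [he ψ]
    generalize e ψ = i
    revert i
    decide
  have inj : ∀ a b : IrrCharacter G, (e a).1 = (e b).1 → a = b := fun a b hab =>
    e.injective (Fin.ext hab)
  obtain ⟨ε, hε, hl⟩ := exists_eps (G := G) (fun a b c ha hb hc => by
      have := k1 a ha
      have := k1 b hb
      have := k1 c hc
      by_contra hne
      simp only [not_or] at hne
      have := mt (inj a b) hne.1
      have := mt (inj a c) hne.2.1
      have := mt (inj b c) hne.2.2
      omega)
    ⟨e.symm ⟨0, by decide⟩, e.symm ⟨1, by decide⟩, by rw [he]; simp, by rw [he]; simp, by simp⟩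
  have d7 : charDegree (e.symm ⟨2, by decide⟩).1 = 7 := by rw [he]; simp
  refine ⟨ε, e.symm ⟨2, by decide⟩, by simpa using hc, hε, fun ψ => ?_, hl, d7, fun ψ hψ => ?_⟩
  · rw [he ψ]
    generalize e ψ = i
    revert i
    decide
  · generalize e.symm ⟨2, by decide⟩ = χ at d7 ⊢
    have hne : sg ε * χ.1 ≠ χ.1 := fun hh => by
      have := even_of_sg_mul hε χ hh
      rw [d7] at this
      exact absurd this (by decide)
    let χ' : IrrCharacter G := ⟨_, isIrr_sg_mul ε χ⟩
    have d7' : charDegree χ'.1 = 7 := (charDegree_sg_mul ε χ.1).trans d7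
    have := k7 ψ hψ
    have := k7 χ d7
    have := k7 χ' d7'
    by_contra hcon
    simp only [not_or] at hcon
    have := mt (inj ψ χ) fun hh => hcon.1 (by rw [hh])
    have := mt (inj ψ χ') fun hh => hcon.2 (by rw [hh])
    have := mt (inj χ' χ) fun hh => hne (congrArg Subtype.val hh)
    omega

namespace Ctx

variable {χ : IrrCharacter G}

theorem sg_ne (c : Ctx ε χ) : sg ε * χ.1 ≠ χ.1 := fun hh => by
  have := even_of_sg_mul c.ne χ hh
  rw [c.d7] at this
  exact absurd this (by decide)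

theorem one (c : Ctx ε χ) : χ.1 1 = 7 := by rw [χ.apply_one, c.d7]; norm_num

theorem sev_ker (c : Ctx ε χ) {ξ : IrrCharacter G} (h : charDegree ξ.1 = 7) {g : G}
    (hg : g ∈ ε.ker) : ξ.1 g = χ.1 g := by
  rcases c.sev ξ h with h | h
  · rw [h]
  · rcases Tool.sg_cases ε g with h1 | h1
    · rw [h, Pi.mul_apply, h1.2, one_mul]
    · exact absurd hg h1.1

theorem sev_pm (c : Ctx ε χ) {ξ : IrrCharacter G} (h : charDegree ξ.1 = 7) (g : G) :
    ξ.1 g = χ.1 g ∨ ξ.1 g = -χ.1 g := by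
  rcases c.sev ξ h with h | h
  · rw [h]; exact Or.inl rfl
  · rcases Tool.sg_cases ε g with h1 | h1
    · rw [h, Pi.mul_apply, h1.2, one_mul]; exact Or.inl rfl
    · rw [h, Pi.mul_apply, h1.2]; exact Or.inr (by ring)

theorem lin_ker (c : Ctx ε χ) {η : IrrCharacter G} (h : charDegree η.1 = 1) {g : G}
    (hg : g ∈ ε.ker) : η.1 g = 1 := by
  rcases c.lin η h with h | h
  · rw [h]; rfl
  · rcases Tool.sg_cases ε g with h1 | h1
    · rw [h, h1.2]
    · exact absurd hg h1.1

theorem lin_pm (c : Ctx ε χ) {η : IrrCharacter G} (h : charDegree η.1 = 1) (g : G) :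
    η.1 g = 1 ∨ η.1 g = -1 := by
  rcases c.lin η h with h | h
  · rw [h]; exact Or.inl rfl
  · rcases Tool.sg_cases ε g with h1 | h1
    · rw [h]; exact Or.inl h1.2
    · rw [h]; exact Or.inr h1.2

theorem bar_seven (c : Ctx ε χ) : charDegree χ.bar.1 = 7 :=
  charDegree_eq_of_apply_one (by
    change star (χ.1 1) = _
    rw [c.one]
    simp)

theorem star_cases (c : Ctx ε χ) : star χ.1 = χ.1 ∨ star χ.1 = sg ε * χ.1 :=
  c.sev χ.bar c.bar_seven

theorem real (c : Ctx ε χ) {g : G} (hg : g ∈ ε.ker) : (χ.1 g).im = 0 := by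
  have := c.sev_ker c.bar_seven hg
  exact Complex.conj_eq_iff_im.1 this

theorem ips (c : Ctx ε χ) :
    ip (fun g => (χ.1 g ^ 2 + χ.1 (g * g)) / 2) (fun _ => 1) +
      ip (fun g => (χ.1 g ^ 2 + χ.1 (g * g)) / 2) (sg ε) = 1 ∧
    ip (fun g => (χ.1 g ^ 2 - χ.1 (g * g)) / 2) (fun _ => 1) +
      ip (fun g => (χ.1 g ^ 2 - χ.1 (g * g)) / 2) (sg ε) = 0 := by
  let φ : IrrCharacter ε.ker := ⟨_, isIrr_comp_ker c.ne χ c.sg_ne⟩
  have hr : ∀ g, (φ.1 g).im = 0 := fun g => c.real g.2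
  have d7 : charDegree φ.1 = 7 := charDegree_eq_of_apply_one (by
    change χ.1 1 = _
    rw [c.one]; norm_num)
  have n1 : fsInd φ.1 = 1 := IrrCharacter.fsInd_eq_one_of_odd hr (by rw [d7]; decide)
  rw [fsInd_eq_ip] at n1
  have n2 : ip (φ.1 * φ.1) (fun _ => 1) = 1 := by
    rw [ip_mul_left]
    refine Eq.trans ?_ (IrrCharacter.ip_star_of_real hr)
    congr 1
    exact one_mul _
  have e : ∀ θ : G → ℂ, ip θ (fun _ => 1) + ip θ (sg ε) =
      ip (θ ∘ ε.ker.subtype) (fun _ => 1) := fun θ => by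
    have := ip_ker c.ne θ (fun _ => 1)
    rw [show sg ε * (fun _ => 1) = sg ε from mul_one _] at this
    exact this.symm
  rw [e, e]
  constructor
  · have : ((fun g => (χ.1 g ^ 2 + χ.1 (g * g)) / 2) ∘ ε.ker.subtype) =
        (1 / 2 : ℂ) • (φ.1 * φ.1 + fun g => φ.1 (g * g)) := by
      funext g
      simp only [φ, Function.comp, Pi.smul_apply, Pi.add_apply, Pi.mul_apply, map_mul,
        smul_eq_mul]
      ring
    rw [this, ip_smul_left, ip_add_left, n1, n2]
    norm_num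
  · have : ((fun g => (χ.1 g ^ 2 - χ.1 (g * g)) / 2) ∘ ε.ker.subtype) =
        (1 / 2 : ℂ) • (φ.1 * φ.1 - fun g => φ.1 (g * g)) := by
      funext g
      simp only [φ, Function.comp, Pi.smul_apply, Pi.sub_apply, Pi.mul_apply, map_mul,
        smul_eq_mul]
      ring
    rw [this, ip_smul_left, ip_sub_left, n1, n2]
    norm_num

/-- The number of linear constituents. -/
theorem count_lin (c : Ctx ε χ) (s : Multiset (IrrCharacter G)) :
    (((s.map fun ψ => charDegree ψ.1).count 1 : ℕ) : ℂ) =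
      ip (s.map (·.1)).sum (fun _ => 1) + ip (s.map (·.1)).sum (sg ε) := by
  let σ : IrrCharacter G := ⟨_, isIrr_sg_mul ε (IrrCharacter.one G)⟩
  have hσ : σ.1 = sg ε := mul_one _
  have d1 : charDegree (IrrCharacter.one G).1 = 1 := charDegree_eq_of_apply_one (by simp)
  have dσ : charDegree σ.1 = 1 := (charDegree_sg_mul ε _).trans d1
  have hne : IrrCharacter.one G ≠ σ := fun hh => c.ne (by
    ext g
    rcases Tool.sg_cases ε g with h1 | h1
    · rw [MonoidHom.mem_ker.1 h1.1]; rfl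
    · have := congrFun (congrArg Subtype.val hh) g
      rw [hσ, h1.2, IrrCharacter.one_apply] at this
      norm_num at this)
  induction s using Multiset.induction_on with
  | empty => simp
  | cons a s ih =>
    simp only [Multiset.map_cons, Multiset.sum_cons, Multiset.count_cons, ip_add_left,
      Nat.cast_add, ih]
    have : ((if 1 = charDegree a.1 then 1 else 0 : ℕ) : ℂ) =
        ip a.1 (IrrCharacter.one G).1 + ip a.1 σ.1 := by
      split_ifs with h1
      · rcases c.lin a h1.symm with h2 | h2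
        · have : a = IrrCharacter.one G := Subtype.ext h2
          subst this
          rw [IrrCharacter.ip_self, IrrCharacter.ip_of_ne hne]
          simp
        · have : a = σ := Subtype.ext (h2.trans hσ.symm)
          subst this
          rw [IrrCharacter.ip_self, IrrCharacter.ip_of_ne hne.symm]
          simp
      · rw [Tool.ip_eq_zero_of_charDegree_ne (by omega),
          Tool.ip_eq_zero_of_charDegree_ne (by omega)]
        simp
    rw [this, hσ]
    change _ = ip a.1 (IrrCharacter.one G).1 + _ + _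
    ring

theorem sym (c : Ctx ε χ) : ∃ η β ξ : IrrCharacter G, charDegree η.1 = 1 ∧
    charDegree β.1 = 20 ∧ charDegree ξ.1 = 7 ∧
      ∀ g, (χ.1 g ^ 2 + χ.1 (g * g)) / 2 = η.1 g + β.1 g + ξ.1 g := by
  obtain ⟨s, h1, h2, -⟩ := exists_multiset χ.2.isCharacter.symSq
  have hd : (s.map fun ψ => charDegree ψ.1).sum = 28 := by
    rw [← h2]
    refine charDegree_eq_of_apply_one ?_
    simp only [mul_one, c.one]
    norm_num
  have hc := c.count_lin s
  rw [← h1, c.ips.1] at hc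
  have hc' : (s.map fun ψ => charDegree ψ.1).count 1 = 1 := by exact_mod_cast hc
  obtain ⟨t, ht⟩ := Multiset.exists_cons_of_mem (Multiset.count_pos.1 (hc' ▸ one_pos))
  obtain ⟨η, s', rfl, hη, hs'⟩ := peel ht
  rw [ht, Multiset.count_cons_self] at hc'
  rw [ht, Multiset.sum_cons] at hd
  have := (sum_cases t fun x hx => by
    have h3 := Multiset.single_le_sum (fun _ _ => Nat.zero_le _) x hx
    have h4 : x ≠ 1 := fun hh => by
      have := Multiset.count_pos.2 (hh ▸ hx)
      omega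
    rw [← hs'] at hx
    obtain ⟨ψ, -, rfl⟩ := Multiset.mem_map.1 hx
    have := c.deg ψ
    omega).1 (by omega)
  rw [this] at hs'
  obtain ⟨β, s2, rfl, hβ, h5⟩ := peel hs'
  obtain ⟨ξ, s3, rfl, hξ, h6⟩ := peel h5
  rw [Multiset.map_eq_zero] at h6
  subst h6
  refine ⟨η, β, ξ, hη, hβ, hξ, fun g => ?_⟩
  have := congrFun h1 g
  simp only [Multiset.map_cons, Multiset.sum_cons, Multiset.map_zero, Multiset.sum_zero,
    Pi.add_apply, add_zero] at this
  rw [this, add_assoc]

theorem alt (c : Ctx ε χ) :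
    (∃ γ : IrrCharacter G, charDegree γ.1 = 21 ∧ ∀ g, (χ.1 g ^ 2 - χ.1 (g * g)) / 2 = γ.1 g) ∨
    (∃ ψ ξ : IrrCharacter G, charDegree ψ.1 = 14 ∧ charDegree ξ.1 = 7 ∧
      ∀ g, (χ.1 g ^ 2 - χ.1 (g * g)) / 2 = ψ.1 g + ξ.1 g) ∨
    ∀ g ∈ ε.ker, (χ.1 g ^ 2 - χ.1 (g * g)) / 2 = 3 * χ.1 g := by
  obtain ⟨s, h1, h2, -⟩ := exists_multiset χ.2.isCharacter.altSq
  have hd : (s.map fun ψ => charDegree ψ.1).sum = 21 := by
    rw [← h2]
    refine charDegree_eq_of_apply_one ?_
    simp only [mul_one, c.one]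
    norm_num
  have hc := c.count_lin s
  rw [← h1, c.ips.2] at hc
  have hc' : (s.map fun ψ => charDegree ψ.1).count 1 = 0 := by exact_mod_cast hc
  have := (sum_cases (s.map fun ψ => charDegree ψ.1) fun x hx => by
    have h3 := Multiset.single_le_sum (fun _ _ => Nat.zero_le _) x hx
    have h4 : x ≠ 1 := fun hh => by
      have := Multiset.count_pos.2 (hh ▸ hx)
      omega
    obtain ⟨ψ, -, rfl⟩ := Multiset.mem_map.1 hx
    have := c.deg ψ
    omega).2 hd
  rcases this with h | h | h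
  · obtain ⟨γ, s2, rfl, hγ, h6⟩ := peel h
    rw [Multiset.map_eq_zero] at h6
    subst h6
    refine Or.inl ⟨γ, hγ, fun g => ?_⟩
    simpa using congrFun h1 g
  · obtain ⟨ψ, s2, rfl, hψ, h5⟩ := peel h
    obtain ⟨ξ, s3, rfl, hξ, h6⟩ := peel h5
    rw [Multiset.map_eq_zero] at h6
    subst h6
    refine Or.inr (Or.inl ⟨ψ, ξ, hψ, hξ, fun g => ?_⟩)
    simpa using congrFun h1 g
  · obtain ⟨ξ₁, s2, rfl, hξ₁, h5⟩ := peel h
    obtain ⟨ξ₂, s3, rfl, hξ₂, h6⟩ := peel h5
    obtain ⟨ξ₃, s4, rfl, hξ₃, h7⟩ := peel h6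
    rw [Multiset.map_eq_zero] at h7
    subst h7
    refine Or.inr (Or.inr fun g hg => ?_)
    have := congrFun h1 g
    simp only [Multiset.map_cons, Multiset.sum_cons, Multiset.map_zero, Multiset.sum_zero,
      Pi.add_apply, add_zero, c.sev_ker hξ₁ hg, c.sev_ker hξ₂ hg, c.sev_ker hξ₃ hg] at this
    rw [this]
    ring

theorem mem_ker_of_odd (ε : G →* ℤˣ) {g : G} {n : ℕ} (hn : Odd n) (hg : g ^ n = 1) :
    g ∈ ε.ker := by
  have := congrArg ε hg
  rw [map_pow, map_one] at this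
  rcases Int.units_eq_one_or (ε g) with h | h
  · exact h
  · rw [h, hn.neg_one_pow] at this
    exact absurd this (by decide)

theorem not_three (c : Ctx ε χ) (h : ∀ g ∈ ε.ker, (χ.1 g ^ 2 - χ.1 (g * g)) / 2 = 3 * χ.1 g) :
    False := by
  haveI : Fact (Nat.Prime 5) := ⟨by norm_num⟩
  obtain ⟨η, β, ξ, hη, hβ, hξ, hS⟩ := c.sym
  obtain ⟨x, hx⟩ := exists_prime_orderOf_dvd_card' (G := G) 5 (by rw [c.card]; norm_num)
  have hf : (Nat.card G).factorization 5 = 1 := by
    rw [c.card]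
    have : (40320 : ℕ) = 5 ^ 1 * 8064 := by norm_num
    rw [this, Nat.factorization_mul (by norm_num) (by norm_num), Nat.factorization_pow]
    simp [Nat.Prime.factorization_self (p := 5) (by norm_num), Nat.factorization_eq_zero_of_not_dvd]
  have key : ∀ y : G, orderOf y = 5 → χ.1 y ^ 2 = 1 + 4 * χ.1 y ∧ χ.1 (y * y) = 1 - 2 * χ.1 y := by
    intro y hy
    have hk : y ∈ ε.ker := mem_ker_of_odd ε (n := 5) (by decide) (hy ▸ pow_orderOf_eq_one y)
    have h1 := hS y
    have h2 := h y hk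
    rw [c.lin_ker hη hk, c.sev_ker hξ hk,
      β.eq_zero_of_defect_zero 5 (by rw [hf, hβ]; norm_num) (hy ▸ dvd_rfl)] at h1
    exact ⟨by linear_combination h1 + h2, by linear_combination h1 - h2⟩
  obtain ⟨k1, k2⟩ := key x hx
  obtain ⟨k3, -⟩ := key (x * x) (by
    rw [← sq, orderOf_pow' _ two_ne_zero, hx]; norm_num)
  rw [k2] at k3
  have h0 : χ.1 x = 0 := by linear_combination (1 / 20 : ℂ) * k3 - (1 / 5 : ℂ) * k1
  rw [h0] at k1
  norm_num at k1

theorem exists_t (c : Ctx ε χ) : ∃ t : G, t ∉ ε.ker ∧ t * t ∈ charCenter χ.1 := by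
  haveI : Fact (Nat.Prime 7) := ⟨by norm_num⟩
  have hf : (Nat.card G).factorization 7 = 1 := by
    rw [c.card]
    have : (40320 : ℕ) = 7 ^ 1 * 5760 := by norm_num
    rw [this, Nat.factorization_mul (by norm_num) (by norm_num), Nat.factorization_pow]
    simp [Nat.Prime.factorization_self (p := 7) (by norm_num), Nat.factorization_eq_zero_of_not_dvd]
  obtain ⟨P⟩ : Nonempty (Sylow 7 G) := inferInstance
  have hP : Nat.card P = 7 := by rw [P.card_eq_multiplicity, hf]; norm_num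
  have hle : (P : Subgroup G) ≤ ε.ker := fun g hg => by
    refine mem_ker_of_odd ε (n := 7) (by decide) ?_
    have := pow_card_eq_one' (G := P) (x := ⟨g, hg⟩)
    rw [hP] at this
    exact congrArg Subtype.val this
  have htop := Sylow.normalizer_sup_eq_top' P hle
  obtain ⟨n, hn, hn'⟩ : ∃ n ∈ Subgroup.normalizer (P : Set G), n ∉ ε.ker := by
    by_contra hcon
    push Not at hcon
    have h2 := Tool.index_ker_sg c.ne
    rw [show ε.ker = ⊤ from htop ▸ (sup_eq_right.2 hcon).symm] at h2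
    simp at h2
  haveI : IsCyclic P := isCyclic_of_prime_card hP
  have h6 : n ^ 6 ∈ Subgroup.centralizer ((P : Subgroup G) : Set G) := by
    have h1 : (⟨n, hn⟩ : Subgroup.normalizer ((P : Subgroup G) : Set G)) ^ 6 ∈
        (P : Subgroup G).normalizerMonoidHom.ker := by
      rw [MonoidHom.mem_ker, map_pow]
      have := pow_card_eq_one' (x := (P : Subgroup G).normalizerMonoidHom ⟨n, hn⟩)
      rwa [IsCyclic.card_mulAut, hP] at this
    rw [Subgroup.normalizerMonoidHom_ker] at h1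
    exact h1
  refine ⟨n ^ 21, fun hh => hn' ?_, ?_⟩
  · rw [MonoidHom.mem_ker, map_pow] at hh
    rcases Int.units_eq_one_or (ε n) with h | h
    · exact h
    · rw [h] at hh
      exact absurd hh (by decide)
  · refine χ.mem_charCenter_of_defect_zero (p := 7) (by rw [hf, c.d7]; norm_num) P.isPGroup'
      (by rw [c.d7]; exact hP) ?_ fun a ha => ?_
    · intro hd
      have h1 : (n ^ 21 * n ^ 21) ^ 5760 = 1 := by
        rw [← pow_add, ← pow_mul, show (21 + 21) * 5760 = Nat.card G * 6 by rw [c.card], pow_mul,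
          pow_card_eq_one', one_pow]
      exact absurd (hd.trans (orderOf_dvd_of_pow_eq_one h1)) (by norm_num)
    · have h1 : n ^ 21 * n ^ 21 = (n ^ 6) ^ 7 := by rw [← pow_add, ← pow_mul]
      rw [h1]
      exact (Commute.symm (h6 a ha)).pow_left 7

theorem exists_int {θ : G → ℂ} (h : IsCharacter G θ) {t : G} (ht : θ (t * t) = θ 1) :
    ∃ m : ℤ, θ t = m := by
  obtain ⟨θ', h1, h2⟩ := h.exists_quotient_of_le_charKer (charKer θ) le_rfl
  obtain ⟨m, hm, -⟩ := h1.exists_int_of_sq_eq_one (g := QuotientGroup.mk' (charKer θ) t) (by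
    rw [← map_pow, sq]
    exact (QuotientGroup.eq_one_iff _).2 (h.mem_charKer.2 ht))
  exact ⟨m, by rw [← h2]; exact hm⟩

theorem not_two (c : Ctx ε χ) {ψ ξ' : IrrCharacter G} (hψ : charDegree ψ.1 = 14)
    (hξ' : charDegree ξ'.1 = 7) (hL : ∀ g, (χ.1 g ^ 2 - χ.1 (g * g)) / 2 = ψ.1 g + ξ'.1 g) :
    False := by
  obtain ⟨η, β, ξ, hη, hβ, hξ, hS⟩ := c.sym
  obtain ⟨t, ht, hy⟩ := c.exists_t
  have hk : t * t ∈ ε.ker := by
    rw [MonoidHom.mem_ker, map_mul, Int.units_mul_self]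
  have h7 : χ.1 (t * t) = 7 := by
    have h1 := χ.2.isCharacter.mem_charCenter.1 hy
    have h2 := c.real hk
    have h3 := hS (t * t)
    have h4 := hL (t * t)
    rw [c.lin_ker hη hk, c.sev_ker hξ hk] at h3
    rw [c.sev_ker hξ' hk] at h4
    have h5 : χ.1 (t * t) = ((χ.1 (t * t)).re : ℂ) := Complex.ext (by simp) (by simp [h2])
    rw [h5, Complex.norm_real, c.d7, Real.norm_eq_abs] at h1
    rcases abs_eq (by positivity) |>.1 h1 with h6 | h6
    · rw [h5, h6]; norm_num
    · exfalso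
      have h7 : χ.1 (t * t) = -7 := by rw [h5, h6]; norm_num
      rw [h7] at h3 h4
      have h8 : β.1 (t * t) + ψ.1 (t * t) = 62 := by linear_combination -h3 - h4
      have h9 := norm_add_le (β.1 (t * t)) (ψ.1 (t * t))
      have h10 := β.norm_le (t * t)
      have h11 := ψ.norm_le (t * t)
      rw [h8] at h9
      rw [hβ] at h10
      rw [hψ] at h11
      norm_num at h9 h10 h11
      linarith
  obtain ⟨m, hm⟩ := exists_int χ.2.isCharacter (h7.trans c.one.symm)
  have hv : ∀ θ : IrrCharacter G, sg ε * θ.1 = θ.1 → θ.1 t = 0 := fun θ hθ => by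
    have h1 := congrFun hθ t
    rcases Tool.sg_cases ε t with h2 | h2
    · exact absurd h2.1 ht
    · rw [Pi.mul_apply, h2.2] at h1
      linear_combination (-1 / 2 : ℂ) * h1
  have hβ' : sg ε * β.1 ≠ β.1 := fun hh => by
    have h1 := hS t
    rw [hv β hh, h7] at h1
    rcases c.lin_pm hη t with h2 | h2 <;> rcases c.sev_pm hξ t with h3 | h3 <;>
      rw [h2, h3, hm] at h1
    · have : (m - 1) ^ 2 + 4 = 0 := by
        have : ((m : ℂ) - 1) ^ 2 + 4 = 0 := by linear_combination 2 * h1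
        exact_mod_cast this
      nlinarith [sq_nonneg (m - 1)]
    · have : (m + 1) ^ 2 + 4 = 0 := by
        have : ((m : ℂ) + 1) ^ 2 + 4 = 0 := by linear_combination 2 * h1
        exact_mod_cast this
      nlinarith [sq_nonneg (m + 1)]
    · have : (m - 1) ^ 2 + 8 = 0 := by
        have : ((m : ℂ) - 1) ^ 2 + 8 = 0 := by linear_combination 2 * h1
        exact_mod_cast this
      nlinarith [sq_nonneg (m - 1)]
    · have : (m + 1) ^ 2 + 8 = 0 := by
        have : ((m : ℂ) + 1) ^ 2 + 8 = 0 := by linear_combination 2 * h1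
        exact_mod_cast this
      nlinarith [sq_nonneg (m + 1)]
  have h8 : ∀ k : ℤ, k ^ 2 ≠ 8 := fun k hk => by
    have h1 : k ≤ 2 := by nlinarith
    have h2 : -2 ≤ k := by nlinarith
    interval_cases k <;> simp at hk
  have hψ' : sg ε * ψ.1 ≠ ψ.1 := fun hh => by
    have h1 := hL t
    rw [hv ψ hh, h7] at h1
    rcases c.sev_pm hξ' t with h3 | h3 <;> rw [h3, hm] at h1
    · refine h8 (m - 1) ?_
      have : ((m : ℂ) - 1) ^ 2 = 8 := by linear_combination 2 * h1
      exact_mod_cast this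
    · refine h8 (m + 1) ?_
      have : ((m : ℂ) + 1) ^ 2 = 8 := by linear_combination 2 * h1
      exact_mod_cast this
  refine final ⟨_, isIrr_comp_ker c.ne χ c.sg_ne⟩ ⟨_, isIrr_comp_ker c.ne β hβ'⟩
    ⟨_, isIrr_comp_ker c.ne ψ hψ'⟩ c.d7 hβ hψ (fun g => c.real g.2) (fun g => ?_) fun g => ?_
  · have := hS g
    rw [c.lin_ker hη g.2, c.sev_ker hξ g.2] at this
    exact this
  · have := hL g
    rw [c.sev_ker hξ' g.2] at this
    exact this

theorem typeI (c : Ctx ε χ) {γ : IrrCharacter G} (hγ : charDegree γ.1 = 21)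
    (hL : ∀ g, (χ.1 g ^ 2 - χ.1 (g * g)) / 2 = γ.1 g) : TypeI G 8 := by
  obtain ⟨η, β, ξ, hη, hβ, hξ, hS⟩ := c.sym
  obtain ⟨δ, hδ⟩ : ∃ δ : G →* ℤˣ, star χ.1 = sg δ * χ.1 := by
    rcases c.star_cases with h | h
    · refine ⟨1, h.trans ?_⟩
      funext g
      simp [sg]
    · exact ⟨ε, h⟩
  let T : IrrCharacter G → IrrCharacter G := fun θ => ⟨_, isIrr_sg_mul δ θ⟩
  have hT : ∀ θ, charDegree (T θ).1 = charDegree θ.1 := fun θ => charDegree_sg_mul δ θ.1
  have hsq : χ.1 * star χ.1 = (T η).1 + (T ξ).1 + (T β).1 + (T γ).1 := by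
    rw [hδ]
    funext g
    simp only [T, Pi.mul_apply, Pi.add_apply]
    linear_combination sg δ g * (hS g + hL g)
  have d1 : charDegree (IrrCharacter.one G).1 = 1 := charDegree_eq_of_apply_one (by simp)
  have h1 : T η = IrrCharacter.one G := by
    by_contra hne
    have h2 : ip (χ.1 * star χ.1) (IrrCharacter.one G).1 = 1 := by
      rw [ip_mul_left, star_star, ← χ.ip_self]
      congr 1
      funext g
      simp
    rw [hsq] at h2
    simp only [ip_add_left] at h2
    rw [IrrCharacter.ip_of_ne hne, Tool.ip_eq_zero_of_charDegree_ne (by rw [hT]; omega),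
      Tool.ip_eq_zero_of_charDegree_ne (by rw [hT]; omega),
      Tool.ip_eq_zero_of_charDegree_ne (by rw [hT]; omega)] at h2
    norm_num at h2
  rw [h1] at hsq
  exact typeI_of_mul_star (ε := ε) χ (T ξ) (T β) (T γ) (a := 7) (by norm_num) ((hT ξ).trans hξ)
    (by rw [hT, hT, hβ, hγ]) (by rw [hT, hγ]) (c.sev _ ((hT ξ).trans hξ)) hsq

end Ctx

theorem typeI_eight (h : DegList G
    [1, 1, 7, 7, 14, 14, 20, 20, 21, 21, 28, 28, 35, 35, 42, 56, 56, 64, 64, 70, 70, 90]) :
    TypeI G 8 := by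
  obtain ⟨ε, χ, c⟩ := exists_ctx h
  rcases c.alt with ⟨γ, h1, h2⟩ | ⟨ψ, ξ, h1, h2, h3⟩ | h1
  · exact c.typeI h1 h2
  · exact (c.not_two h1 h2 h3).elim
  · exact (c.not_three h1).elim

end Cfsg.Snd.Eight

set_option linter.all false in
theorem Cfsg.Rz.Snd_Eight_0 : True := by
  have := @_root_.Cfsg.Snd.Eight.Ctx.mk.congr_simp.{0}
  trivial
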