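import Cfsg.Agent.Snd.DegA

/-!
# S4905: small symmetric groups by enumeration

`bet N n m` lists the `β`-sets (as decreasing lists) of the partitions of `n` with at most `N`
parts, all `≤ m`: for `N + 1`, choose the first part `x ≤ min n m`, put the
bead `x + N` in front of `bet N (n - x) x`. Completeness: induction on `N`, removing the largest
bead. Then `decide` (`decide +kernel` is allowed; a list version of `hk` may be faster).
`degList_*`: `exists_param` with `N = n`, the list of `β`-sets has no duplicates; the order of a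
`DegList` can be permuted.
-/

set_option autoImplicit false
set_option linter.unusedSectionVars false

namespace Cfsg.Snd

open Equiv Finset

namespace Enum

/-- The `β`-sets of the partitions of `n` with at most `N` parts, all at most `m`. -/
def bet : ℕ → ℕ → ℕ → List (List ℕ)
  | 0, n, _ => if n = 0 then [[]] else []
  | N + 1, n, m => (List.range (min n m + 1)).flatMap fun x =>
      (bet N (n - x) x).map fun l => (x + N) :: l

/-- The degree, computed on lists. -/
def dgL (n : ℕ) (l : List ℕ) : ℕ := n.factorial /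
  (l.map fun x => ((List.range x).map fun c => if c ∈ l then 1 else x - c).prod).prod

theorem tri_succ (N : ℕ) : Sym.tri (N + 1) = Sym.tri N + N := by
  simp [Sym.tri, Fin.sum_univ_castSucc]

theorem card_le_of_lt {B : Finset ℕ} {y : ℕ} (h : ∀ x ∈ B, x < y) : #B ≤ y := by
  rw [← card_range y]
  exact card_le_card fun x hx => mem_range.2 (h x hx)

theorem tri_le (B : Finset ℕ) : Sym.tri #B ≤ ∑ x ∈ B, x := by
  induction B using Finset.induction_on_max with
  | empty => simp [Sym.tri]
  | insert y B h ih =>
    have hy : y ∉ B := fun e => lt_irrefl _ (h y e)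
    rw [card_insert_of_notMem hy, sum_insert hy, tri_succ]
    have := card_le_of_lt h
    omega

theorem exists_bet (B : Finset ℕ) : ∀ {N n m : ℕ}, Bt N n B → (∀ x ∈ B, x + 1 ≤ m + N) →
    ∃ l ∈ bet N n m, l.Nodup ∧ l.toFinset = B := by
  induction B using Finset.induction_on_max with
  | empty =>
    rintro N n m ⟨h1, h2⟩ -
    obtain rfl : N = 0 := by simpa using h1.symm
    obtain rfl : n = 0 := by simpa [Sym.tri] using h2.symm
    exact ⟨[], by simp [bet], List.nodup_nil, rfl⟩
  | insert y B h ih =>
    rintro N n m ⟨h1, h2⟩ h3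
    have hy : y ∉ B := fun e => lt_irrefl _ (h y e)
    rw [card_insert_of_notMem hy] at h1
    subst h1
    rw [sum_insert hy, tri_succ] at h2
    have h4 := card_le_of_lt h
    have h5 := tri_le B
    have h6 := h3 y (mem_insert_self _ _)
    obtain ⟨x, rfl⟩ : ∃ x, y = x + #B := ⟨y - #B, by omega⟩
    obtain ⟨l, hl, hn, rfl⟩ := ih (N := #B) (n := n - x) (m := x) ⟨rfl, by omega⟩
      fun z hz => h z hz
    refine ⟨(x + #l.toFinset) :: l, ?_, List.nodup_cons.2 ⟨by simpa using hy, hn⟩, by simp⟩
    simp only [bet, List.mem_flatMap, List.mem_range, List.mem_map]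
    exact ⟨x, by omega, l, hl, rfl⟩

theorem dg_toFinset (n : ℕ) {l : List ℕ} (h : l.Nodup) : dg n l.toFinset = dgL n l := by
  unfold dg dgL hk
  rw [List.prod_toFinset _ h]
  congr 3
  funext x
  rw [prod_filter]
  simp only [List.mem_toFinset, ite_not]
  rfl

theorem of_hi {n k d : ℕ} (hk : k ≤ n) (h : Hi n k d) :
    d ∈ ((bet n n (n - k)).filter fun l => (List.range k).all fun c => c ∈ l).map (dgL n) := by
  obtain ⟨B, h1, h2, h3, rfl⟩ := h
  obtain ⟨l, hl, hn, rfl⟩ := exists_bet B (m := n - k) h1 fun x hx => by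
    have := h2 x hx
    omega
  refine List.mem_map.2 ⟨l, List.mem_filter.2 ⟨hl, ?_⟩, (dg_toFinset n hn).symm⟩
  simp only [List.all_eq_true, List.mem_range, decide_eq_true_eq]
  exact fun c hc => List.mem_toFinset.1 (h3 c (by omega))

theorem exists_equiv {α β : Type*} [Fintype α] [Fintype β] {d : α → ℕ} {d' : β → ℕ}
    (h : univ.val.map d = univ.val.map d') : ∃ e : α ≃ β, ∀ a, d a = d' (e a) := by
  have h1 : ∀ v, Nonempty ({a // d a = v} ≃ {b // d' b = v}) := fun v => by
    refine ⟨Fintype.equivOfCardEq ?_⟩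
    have := congrArg (Multiset.count v) h
    rw [Multiset.count_map, Multiset.count_map] at this
    rw [Fintype.card_subtype, Fintype.card_subtype]
    simp only [eq_comm (b := v)]
    exact this
  exact ⟨Equiv.ofFiberEquiv fun v => (h1 v).some,
    fun a => (Equiv.ofFiberEquiv_map (fun v => (h1 v).some) a).symm⟩

theorem degList {G : Type*} [Group G] {n : ℕ} (h : SameDeg G n) {L : List ℕ}
    (h1 : ∀ l ∈ bet n n n, l.Nodup ∧ l.length = n ∧ l.sum = Sym.tri n + n)
    (h2 : (bet n n n).Pairwise fun l l' => ∃ x ∈ l, x ∉ l')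
    (h3 : ((bet n n n).map (dgL n)).Perm L) : DegList G L := by
  classical
  obtain ⟨f, hf⟩ := h
  obtain ⟨e, he, -⟩ := exists_param (Fin n) (N := n) (Fintype.card_fin n).le
  haveI : Finite (IrrCharacter G) := Finite.of_equiv _ f.symm
  cases nonempty_fintype (IrrCharacter G)
  have h4 : (univ.val.map fun χ : IrrCharacter G => (e (f χ)).1) =
      ((bet n n n).map List.toFinset : List (Finset ℕ)) := by
    refine (Multiset.Nodup.ext (univ.nodup.map fun a b hab =>
      f.injective (e.injective (Subtype.ext hab))) ?_).2 fun B => ?_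
    · rw [Multiset.coe_nodup, List.Nodup, List.pairwise_map]
      refine h2.imp ?_
      rintro l l' ⟨x, hx, hx'⟩ e
      exact hx' (List.mem_toFinset.1 (e ▸ List.mem_toFinset.2 hx))
    · simp only [Multiset.mem_map, mem_val, mem_univ, true_and, Multiset.mem_coe, List.mem_map]
      constructor
      · rintro ⟨χ, rfl⟩
        have h5 := (e (f χ)).2
        generalize (e (f χ)).1 = B at h5
        rw [Fintype.card_fin] at h5
        obtain ⟨l, hl, -, hB⟩ := exists_bet B (m := n) h5 fun x hx => h5.rowGe_zero x hx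
        exact ⟨l, hl, hB⟩
      · rintro ⟨l, hl, rfl⟩
        obtain ⟨k1, k2, k3⟩ := h1 l hl
        refine ⟨f.symm (e.symm ⟨l.toFinset, ?_⟩), by simp⟩
        rw [Fintype.card_fin]
        exact ⟨by rw [List.toFinset_card_of_nodup k1, k2],
          by rw [List.sum_toFinset _ k1, List.map_id', k3]⟩
  refine exists_equiv ?_
  have h5 := congrArg (Multiset.map (dg n)) h4
  rw [Multiset.map_map, Multiset.map_coe, List.map_map,
    List.map_congr_left (f := dg n ∘ List.toFinset) (g := dgL n) fun l hl => dg_toFinset n (h1 l hl).1,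
    Multiset.coe_eq_coe.2 h3] at h5
  rw [Fin.univ_val_map, List.ofFn_get, ← h5]
  refine Multiset.map_congr rfl fun χ _ => ?_
  rw [← hf, he]
  exact congrArg (fun k => dg k (e (f χ)).1) (Fintype.card_fin n)

end Enum

open Enum

theorem dg_two {N : ℕ} {B : Finset ℕ} (h : Bt N 2 B) (hN : 2 ≤ N) : dg 2 B = 1 := by
  obtain ⟨B', h1, h2, -⟩ := h.exists_norm hN
  have h3 := of_hi (n := 2) (k := 0) (by norm_num)
    ⟨B', h1, h1.rowGe_zero, h1.colGe_zero, (by rw [dg, dg, h2] : dg 2 B' = dg 2 B)⟩
  revert h3
  generalize dg 2 B = d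
  revert d
  decide +kernel

theorem hi_nine {d : ℕ} (h : Hi 9 2 d) : d ∈ [27, 28, 42, 48, 56] ∨ 64 < d := by
  have h1 := of_hi (by norm_num) h
  clear h
  revert d
  decide +kernel

theorem hi_ten {d : ℕ} (h : Hi 10 2 d) : d ∈ [35, 36, 42, 75] ∨ 81 < d := by
  have h1 := of_hi (by norm_num) h
  clear h
  revert d
  decide +kernel

theorem hi_eleven {d : ℕ} (h : Hi 11 2 d) : d ∈ [44, 45] ∨ 110 ≤ d := by
  have h1 := of_hi (by norm_num) h
  clear h
  revert d
  decide +kernel

theorem hi_twelve {d : ℕ} (h : Hi 12 2 d) : d ∈ [54, 55, 132] ∨ 154 ≤ d := by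
  have h1 := of_hi (by norm_num) h
  clear h
  revert d
  decide +kernel

theorem hi_thirteen {d : ℕ} (h : Hi 13 5 d) : 429 ≤ d := by
  have h1 := of_hi (by norm_num) h
  clear h
  revert d
  decide +kernel

theorem hi_fourteen {d : ℕ} (h : Hi 14 6 d) : 429 ≤ d := by
  have h1 := of_hi (by norm_num) h
  clear h
  revert d
  decide +kernel

variable {G : Type*} [Group G]

theorem degList_three (h : SameDeg G 3) : DegList G [1, 1, 2] :=
  degList h (by decide +kernel) (by decide +kernel) (by decide +kernel)

theorem degList_four (h : SameDeg G 4) : DegList G [1, 1, 2, 3, 3] :=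
  degList h (by decide +kernel) (by decide +kernel) (by decide +kernel)

theorem degList_five (h : SameDeg G 5) : DegList G [1, 1, 4, 4, 5, 5, 6] :=
  degList h (by decide +kernel) (by decide +kernel) (by decide +kernel)

theorem degList_six (h : SameDeg G 6) : DegList G [1, 1, 5, 5, 5, 5, 9, 9, 10, 10, 16] :=
  degList h (by decide +kernel) (by decide +kernel) (by decide +kernel)

theorem degList_seven (h : SameDeg G 7) :
    DegList G [1, 1, 6, 6, 14, 14, 14, 14, 15, 15, 20, 21, 21, 35, 35] :=
  degList h (by decide +kernel) (by decide +kernel) (by decide +kernel)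

theorem degList_eight (h : SameDeg G 8) : DegList G
    [1, 1, 7, 7, 14, 14, 20, 20, 21, 21, 28, 28, 35, 35, 42, 56, 56, 64, 64, 70, 70, 90] :=
  degList h (by decide +kernel) (by decide +kernel) (by decide +kernel)

end Cfsg.Snd

set_option linter.all false in
theorem Cfsg.Rz.Snd_Enum_0 : True := by
  have := @_root_.Cfsg.Snd.Enum.dgL.eq_def
  have := @_root_.Cfsg.Snd.Enum.dgL.eq_1
  have := @_root_.Cfsg.Snd.Enum.dgL.fun_cases
  have := @_root_.Cfsg.Snd.Enum.bet.induct
  have := @_root_.Cfsg.Snd.Enum.bet.fun_cases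
  trivial
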