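import Cfsg.Agent.Snd.Defs
import Cfsg.Agent.FT.FixChar

/-!
# S4905: irreducible characters of the symmetric group by `β`-sets

For `Bt N n B` let `a = B.orderEmbOfFin _ : Fin N → ℕ` (strictly monotone).
* `dg_mul_hk`: `Sym.X_replicate_one_sq` and `x! = ∏ c < x, (x - c)`, split into `c ∈ B`, `c ∉ B`:
  `|X (replicate n 1) a| * hk B = n!`.
* `dg_succ`: `Sym.X_cons` (`dn 1`): `a - single i 1` is strictly monotone or not injective (then
  `X = 0`), so by induction `X (replicate n 1) a ≥ 0` for strictly monotone `a`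
  (`X_zero_val_comp 1`), and the recursion is the branching rule.
* `exists_param`: `χ ↦ image a univ` for `mult a χ ≠ 0` (`mult_spec`, `eq_of_mult_ne_zero`,
  `exists_mult_ne_zero_of_inj`, `XF_eq_smul`). Level: as in the proof of `Sym.isGen_XF`,
  `XF a = ∑ σ, sign σ • permChar {f : Ω → Fin N | fibre sizes = a - σ}`, so `χ` is a constituent of
  one of these, so `∑ g ∈ Stab f, χ g ≠ 0` for some `f`; if `a i + l + 1 ≥ N + n` the fibre of `i`
  has `a i - σ i ≥ n - l` points, `F` = its complement, `Stab f` contains the pointwise stabiliser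
  of `F`, and a fixed vector of a group is fixed by a subgroup.
-/

set_option autoImplicit false
set_option linter.unusedSectionVars false

namespace Cfsg.Snd

open Equiv Finset

namespace Par

variable {N n : ℕ} {a : Fin N → ℕ}

theorem natAbs_mul_hk (ha : Function.Injective a) (h : ∑ i, a i = Sym.tri N + n) :
    (Sym.X (Multiset.replicate n 1) a).natAbs * hk (univ.image a) = n.factorial := by
  have h1 := Sym.X_replicate_one_sq ha h
  have h2 : ∀ i, (a i).factorial = (∏ c ∈ range (a i) with c ∉ univ.image a, (a i - c)) *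
      ∏ j with a j < a i, (a i - a j) := fun i => by
    have h3 : (a i).factorial = ∏ c ∈ range (a i), (a i - c) := by
      rw [← Nat.descFactorial_self, Nat.descFactorial_eq_prod_range]
    rw [h3, ← prod_filter_not_mul_prod_filter (range (a i)) (· ∈ univ.image a)]
    congr 1
    refine (prod_nbij a (fun j hj => ?_) ha.injOn (fun c hc => ?_) fun _ _ => rfl).symm
    · simpa using hj
    · simp only [coe_filter, mem_range, mem_image, mem_univ, true_and, Set.mem_setOf_eq] at hc
      obtain ⟨hc, j, rfl⟩ := hc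
      exact ⟨j, by simpa using hc, rfl⟩
  have h4 : 0 < ∏ i, ∏ j with a j < a i, (a i - a j) :=
    prod_pos fun i _ => prod_pos fun j hj => Nat.sub_pos_of_lt (mem_filter.1 hj).2
  rw [prod_congr rfl fun i _ => h2 i, prod_mul_distrib, ← mul_assoc] at h1
  rw [hk, prod_image ha.injOn]
  exact Nat.eq_of_mul_eq_mul_right h4 h1

theorem hk_pos (B : Finset ℕ) : 0 < hk B :=
  prod_pos fun _ _ => prod_pos fun _ hc => Nat.sub_pos_of_lt (mem_range.1 (mem_filter.1 hc).1)

theorem dg_image (ha : Function.Injective a) (h : ∑ i, a i = Sym.tri N + n) :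
    dg n (univ.image a) = (Sym.X (Multiset.replicate n 1) a).natAbs := by
  rw [dg, ← natAbs_mul_hk ha h, Nat.mul_div_cancel _ (hk_pos _)]

theorem exists_mono {B : Finset ℕ} (h : Bt N n B) :
    ∃ a : Fin N → ℕ, StrictMono a ∧ univ.image a = B ∧ ∑ i, a i = Sym.tri N + n := by
  refine ⟨B.orderEmbOfFin h.1, (B.orderEmbOfFin h.1).strictMono, image_orderEmbOfFin_univ _ _, ?_⟩
  refine Eq.trans ?_ h.2
  conv_rhs => rw [← image_orderEmbOfFin_univ B h.1]
  rw [sum_image (B.orderEmbOfFin h.1).injective.injOn]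

theorem bt_image (ha : Function.Injective a) (h : ∑ i, a i = Sym.tri N + n) :
    Bt N n (univ.image a) :=
  ⟨by rw [card_image_of_injective _ ha, card_univ, Fintype.card_fin],
    by rw [sum_image ha.injOn, h]⟩

theorem mono_sub (ha : StrictMono a) {i : Fin N}
    (hi : Function.Injective (a - Pi.single i 1 : Fin N → ℕ)) :
    StrictMono (a - Pi.single i 1 : Fin N → ℕ) := fun j k hjk => by
  have h1 := ha hjk
  have h2 := hi.ne hjk.ne
  simp only [Pi.sub_apply, Pi.single_apply] at h2 ⊢
  split_ifs at h2 ⊢ <;> omega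

theorem X_nonneg (n : ℕ) : ∀ {a : Fin N → ℕ}, StrictMono a →
    0 ≤ Sym.X (Multiset.replicate n 1) a := by
  induction n with
  | zero =>
    intro a ha
    rw [Multiset.replicate_zero, Sym.X_zero]
    refine sum_nonneg fun σ _ => ?_
    split_ifs with h
    · have h1 : StrictMono σ := fun i j hij => by
        have := ha hij
        rw [← h] at this
        exact this
      have h2 : σ = 1 := Equiv.ext fun i => by
        exact congrFun (congrArg DFunLike.coe
          (Subsingleton.elim (h1.orderIsoOfSurjective σ σ.surjective) (OrderIso.refl _))) i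
      simp [h2]
    · exact le_rfl
  | succ n ih =>
    intro a ha
    rw [Multiset.replicate_succ, Sym.X_cons, Sym.dn]
    refine sum_nonneg fun i _ => ?_
    split_ifs with h
    · by_cases hi : Function.Injective (a - Pi.single i 1 : Fin N → ℕ)
      · exact ih (mono_sub ha hi)
      · exact ((Sym.alt_X _).eq_zero hi).ge
    · exact le_rfl

theorem exists_comp {b : Fin N → ℕ} (ha : Function.Injective a) (hb : Function.Injective b)
    (h : univ.image a = univ.image b) : ∃ σ : Perm (Fin N), a = b ∘ σ := by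
  have h1 : ∀ i, ∃ j, b j = a i := fun i => by
    have := mem_image_of_mem a (mem_univ i)
    rw [h] at this
    simpa using this
  choose f hf using h1
  have h2 : Function.Injective f := fun i j e => ha (by rw [← hf, ← hf, e])
  exact ⟨Equiv.ofBijective f (Finite.injective_iff_bijective.1 h2), funext fun i => (hf i).symm⟩

variable {Ω : Type*} [Fintype Ω] [DecidableEq Ω]

theorem sum_ne_zero_of_le {χ : Perm Ω → ℂ} (hχ : IsCharacter (Perm Ω) χ)
    {K S : Subgroup (Perm Ω)} [DecidablePred (· ∈ K)] [DecidablePred (· ∈ S)] (h : K ≤ S)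
    (hS : ∑ g with g ∈ S, χ g ≠ 0) : ∑ g with g ∈ K, χ g ≠ 0 := by
  have h1 : ∀ (L : Subgroup (Perm Ω)) [DecidablePred (· ∈ L)],
      ∑ g with g ∈ L, χ g = (Nat.card L : ℂ) * Agent.FT.fxDim χ L := fun L _ => by
    rw [Agent.FT.card_mul_fxDim hχ L, sum_subtype (p := (· ∈ L)) _ (by simp)]
  rw [h1] at hS ⊢
  have h2 := Agent.FT.fxDim_anti hχ h
  have h3 : Agent.FT.fxDim χ S ≠ 0 := fun e => hS (by simp [e])
  exact mul_ne_zero (Nat.cast_ne_zero.2 Nat.card_pos.ne') (Nat.cast_ne_zero.2 (by omega))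

theorem exists_fun {χ : IrrCharacter (Perm Ω)} (h : Sym.mult a χ ≠ 0) :
    ∃ (σ : Perm (Fin N)) (f : Ω → Fin N), (∀ i, #{x | f x = i} + σ i = a i) ∧
      ∑ g ∈ (univ.filter fun g : Perm Ω => f ∘ g = f), χ.1 g ≠ 0 := by
  classical
  let T : Perm (Fin N) → (Ω → Fin N) → Prop := fun σ f => ∑ x, Finsupp.single (f x) 1 +
    Finsupp.equivFunOnFinite.symm (Fin.val ∘ σ) = Finsupp.equivFunOnFinite.symm a
  have h0 : ∀ g : Perm Ω, Sym.XF Ω a g = ∑ σ : Perm (Fin N), ∑ f : Ω → Fin N,
      if T σ f then (if f ∘ g = f then ((Perm.sign σ : ℤ) : ℂ) else 0) else 0 := fun g => by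
    have h1 : ∀ f : Ω → Fin N, ∏ x, (MvPolynomial.X (f x) : MvPolynomial (Fin N) ℤ) =
        MvPolynomial.monomial (∑ x, Finsupp.single (f x) 1) 1 := fun f => by
      rw [MvPolynomial.monomial_sum_one]; rfl
    simp only [Sym.XF, Sym.X, Sym.prod_psum, Sym.aδ, h1, sum_mul, mul_sum,
      MvPolynomial.monomial_mul, one_mul, MvPolynomial.coeff_sum, MvPolynomial.coeff_monomial]
    push_cast
    refine sum_congr rfl fun σ _ => ?_
    rw [sum_filter]
    refine sum_congr rfl fun f _ => ?_
    simp only [T]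
    split_ifs <;> rfl
  have h2 : ∑ g, Sym.XF Ω a g * (starRingEnd ℂ) (χ.1 g) ≠ 0 := fun e => h (by
    have := Sym.ip_XF a χ
    rw [ip_def, e, mul_zero] at this
    exact_mod_cast this.symm)
  simp only [h0, sum_mul] at h2
  rw [sum_comm] at h2
  obtain ⟨σ, -, h2⟩ := exists_ne_zero_of_sum_ne_zero h2
  rw [sum_comm] at h2
  obtain ⟨f, -, h2⟩ := exists_ne_zero_of_sum_ne_zero h2
  by_cases hT : T σ f
  swap
  · simp [hT] at h2
  refine ⟨σ, f, fun i => ?_, fun e => h2 ?_⟩
  · have := DFunLike.congr_fun hT i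
    simpa [Finsupp.single_apply, Finsupp.finset_sum_apply] using this
  · have := congrArg (fun z => ((Perm.sign σ : ℤ) : ℂ) * (starRingEnd ℂ) z) e
    simp only [map_sum, mul_sum, map_zero, mul_zero, sum_filter] at this
    refine Eq.trans (sum_congr rfl fun g _ => ?_) this
    rw [if_pos hT]
    split_ifs <;> simp

theorem lev_of_mult {χ : IrrCharacter (Perm Ω)} (h : Sym.mult a χ ≠ 0) {l : ℕ} {i : Fin N}
    (hi : N + Fintype.card Ω ≤ a i + l + 1) : Lev χ.1 l := by
  classical
  obtain ⟨σ, f, h1, h2⟩ := exists_fun h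
  refine ⟨univ.filter fun x => ¬ f x = i, ?_, ?_⟩
  · have h3 := card_filter_add_card_filter_not (s := univ) fun x => f x = i
    have h4 := h1 i
    have h5 := (σ i).2
    rw [card_univ] at h3
    omega
  · let S : Subgroup (Perm Ω) :=
      { carrier := {g | f ∘ g = f}
        one_mem' := rfl
        mul_mem' := fun {g g'} hg hg' => by
          change (f ∘ g) ∘ g' = f
          rw [show f ∘ g = f from hg, show f ∘ g' = f from hg']
        inv_mem' := fun {g} hg => ((g.comp_symm_eq _ _).2 (show f ∘ g = f from hg).symm) }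
    let K : Subgroup (Perm Ω) :=
      { carrier := {g | ∀ x ∈ univ.filter fun x => ¬ f x = i, g x = x}
        one_mem' := fun _ _ => rfl
        mul_mem' := fun {g g'} hg hg' x hx => by rw [Perm.mul_apply, hg' x hx, hg x hx]
        inv_mem' := fun {g} hg x hx => by rw [Perm.inv_eq_iff_eq, hg x hx] }
    have hKS : K ≤ S := fun g hg => funext fun x => by
      by_cases hx : f x = i
      · by_contra hn
        have h6 : g (g x) = g x := hg (g x) (by simpa [hx] using hn)
        exact hn (by rw [Function.comp_apply, g.injective h6])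
      · exact congrArg f (hg x (by simpa using hx))
    convert sum_ne_zero_of_le χ.isCharacter hKS (by convert h2; rfl)
    rfl

end Par

open Par

theorem dg_mul_hk {N n : ℕ} {B : Finset ℕ} (h : Bt N n B) : dg n B * hk B = n.factorial := by
  obtain ⟨a, ha, rfl, h1⟩ := exists_mono h
  rw [dg_image ha.injective h1, natAbs_mul_hk ha.injective h1]

theorem dg_pos {N n : ℕ} {B : Finset ℕ} (h : Bt N n B) : 0 < dg n B :=
  Nat.pos_of_mul_pos_right (dg_mul_hk h ▸ n.factorial_pos)

theorem dg_succ {N n : ℕ} {B : Finset ℕ} (h : Bt N (n + 1) B) :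
    dg (n + 1) B = ∑ y ∈ B with (1 ≤ y ∧ y - 1 ∉ B), dg n (insert (y - 1) (B.erase y)) := by
  obtain ⟨a, ha, rfl, h1⟩ := exists_mono h
  rw [dg_image ha.injective h1, sum_filter, sum_image ha.injective.injOn]
  refine Nat.cast_injective (R := ℤ) ?_
  rw [Int.natCast_natAbs, Nat.cast_sum, abs_of_nonneg (X_nonneg _ ha), Multiset.replicate_succ, Sym.X_cons, Sym.dn]
  refine sum_congr rfl fun i _ => ?_
  by_cases h2 : 1 ≤ a i
  swap
  · simp [h2]
  rw [if_pos h2]
  by_cases h3 : a i - 1 ∈ univ.image a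
  · rw [if_neg fun e => e.2 h3]
    obtain ⟨j, -, hj⟩ := mem_image.1 h3
    have hij : j ≠ i := fun e => by rw [e] at hj; omega
    refine (Sym.alt_X _).eq_zero fun e => hij (e ?_)
    simp [hij, hj]
  · have h4 : Function.Injective (a - Pi.single i 1 : Fin N → ℕ) := fun j k e => by
      simp only [Pi.sub_apply, Pi.single_apply] at e
      split_ifs at e with e1 e2 e2
      · rw [e1, e2]
      · exact absurd (mem_image.2 ⟨k, mem_univ _, by rw [e1] at e; omega⟩) h3
      · exact absurd (mem_image.2 ⟨j, mem_univ _, by rw [e2] at e; omega⟩) h3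
      · exact ha.injective e
    have h5 : insert (a i - 1) ((univ.image a).erase (a i)) =
        univ.image (a - Pi.single i 1 : Fin N → ℕ) := by
      ext y
      simp only [mem_insert, mem_erase, mem_image, mem_univ, true_and, Pi.sub_apply,
        Pi.single_apply]
      constructor
      · rintro (rfl | ⟨h6, j, rfl⟩)
        · exact ⟨i, by simp⟩
        · exact ⟨j, by rw [if_neg fun e => h6 (by rw [e])]; rfl⟩
      · rintro ⟨j, rfl⟩
        split_ifs with e
        · exact .inl (by rw [e])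
        · exact .inr ⟨ha.injective.ne e, j, rfl⟩
    have h6 := Sym.sum_sub_single h2
    rw [if_pos ⟨h2, h3⟩, h5, dg_image h4 (by omega), Int.natCast_natAbs,
      abs_of_nonneg (X_nonneg _ (mono_sub ha h4))]

theorem exists_param (Ω : Type*) [Fintype Ω] [DecidableEq Ω] {N : ℕ} (hN : Fintype.card Ω ≤ N) :
    ∃ e : IrrCharacter (Perm Ω) ≃ {B // Bt N (Fintype.card Ω) B},
      (∀ χ, charDegree χ.1 = dg (Fintype.card Ω) (e χ).1) ∧
      ∀ χ l, ¬ Lev χ.1 l → RowGe N (Fintype.card Ω) (l + 1) (e χ).1 := by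
  choose a ha using fun χ : IrrCharacter (Perm Ω) => Sym.exists_mult_ne_zero hN χ
  have h1 := fun χ => Sym.inj_of_XF_ne_zero (Sym.XF_ne_zero_of_mult (ha χ))
  let e : IrrCharacter (Perm Ω) → {B // Bt N (Fintype.card Ω) B} := fun χ =>
    ⟨univ.image (a χ), bt_image (h1 χ).1 (h1 χ).2⟩
  have he : Function.Bijective e := by
    refine ⟨fun χ ψ h => ?_, fun B => ?_⟩
    · obtain ⟨σ, hσ⟩ := exists_comp (h1 χ).1 (h1 ψ).1 (congrArg Subtype.val h)
      refine Sym.eq_of_mult_ne_zero hN (ha χ) ?_
      rw [hσ, Sym.mult_comp]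
      exact mul_ne_zero (Units.ne_zero _) (ha ψ)
    · obtain ⟨b, hb, h2, h3⟩ := exists_mono B.2
      obtain ⟨χ, hχ⟩ := Sym.exists_mult_ne_zero_of_inj (α := Ω) hb.injective h3
      obtain ⟨σ, hσ⟩ := (Sym.mult_spec hN (ha χ)).2 b hχ
      refine ⟨χ, Subtype.ext ?_⟩
      rw [← h2, hσ, ← image_image, image_univ_equiv]
  refine ⟨Equiv.ofBijective e he, fun χ => ?_, fun χ l hl x hx => ?_⟩
  · change _ = dg _ (univ.image (a χ))
    have h5 := congrFun (Sym.XF_eq_smul hN (ha χ)) 1
    rw [Sym.XF, Sym.pt_one, Pi.smul_apply, smul_eq_mul, show χ.1 1 = _ from χ.apply_one] at h5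
    norm_cast at h5
    rw [dg_image (h1 χ).1 (h1 χ).2, h5, Int.natAbs_mul, Int.natAbs_natCast,
      Int.natAbs_eq_iff_mul_self_eq.2 (show _ = (1 : ℤ) * 1 from (Sym.mult_spec hN (ha χ)).1)]
    simp
  · obtain ⟨i, -, rfl⟩ := mem_image.1 (show x ∈ univ.image (a χ) from hx)
    by_contra hn
    exact hl (lev_of_mult (ha χ) (i := i) (by omega))

end Cfsg.Snd
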