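import Cfsg.Agent.Snd.Tool
import Cfsg.Agent.Char.BrauerApp

/-!
# S4905 for `n = 7`: tools

Multiplicities on `⟨x⟩ × ⟨y⟩` and on a dihedral group of order 14, two terms of the column norm,
the involution inverting an element of order 7, and the arithmetic of the order 5 column.
-/

set_option autoImplicit false
set_option linter.unusedSectionVars false

namespace Cfsg.Snd.Seven

open Finset
open scoped ComplexConjugate

variable {G : Type*} [Group G] [Finite G] {ε : G →* ℤˣ}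

theorem geom_root {z : ℂ} {n : ℕ} (hz : z ^ n = 1) :
    ∑ i ∈ range n, z ^ i = n ∨ ∑ i ∈ range n, z ^ i = 0 := by
  by_cases h : z = 1
  · left; simp [h]
  · right
    have := mul_geom_sum z n
    rw [hz, sub_self] at this
    exact (mul_eq_zero.mp this).resolve_left (sub_ne_zero.mpr h)

/-- Multiplicities of the linear characters of `⟨x⟩ × ⟨y⟩`, `y² = 1`. -/
theorem mult_two {θ : G → ℂ} (h : IsCharacter G θ) {x y : G} (hxy : Commute x y) {n : ℕ}
    (hx : x ^ n = 1) (hy : y ^ 2 = 1) {ζ s : ℂ} (hζ : ζ ^ n = 1) (hs : s = 1 ∨ s = -1) :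
    ∃ m : ℕ, ∑ i ∈ range n, (θ (x ^ i) + s * θ (x ^ i * y)) * ζ ^ i = 2 * n * m := by
  obtain ⟨a, b, ha, hb, hab⟩ := h.exists_roots₂ hxy
  have ha' : ∀ j, a j ^ n = 1 := fun j => by
    obtain ⟨c, hc⟩ := orderOf_dvd_of_pow_eq_one hx
    rw [hc, pow_mul, ha, one_pow]
  have hb' : ∀ j, b j = 1 ∨ b j = -1 := fun j => by
    obtain ⟨c, hc⟩ := orderOf_dvd_of_pow_eq_one hy
    have : b j ^ 2 = 1 := by rw [hc, pow_mul, hb, one_pow]
    exact sq_eq_one_iff.mp this
  have key : ∀ j, ∃ m : ℕ, (1 + s * b j) * ∑ i ∈ range n, (a j * ζ) ^ i = 2 * n * m := by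
    intro j
    have hz : (a j * ζ) ^ n = 1 := by rw [mul_pow, ha', hζ, one_mul]
    rcases geom_root hz with h0 | h0
    · rcases hs with rfl | rfl <;> rcases hb' j with hj | hj <;> rw [h0, hj]
      · exact ⟨1, by push_cast; ring⟩
      · exact ⟨0, by push_cast; ring⟩
      · exact ⟨0, by push_cast; ring⟩
      · exact ⟨1, by push_cast; ring⟩
    · exact ⟨0, by rw [h0]; simp⟩
  choose m hm using key
  refine ⟨∑ j, m j, ?_⟩
  rw [Nat.cast_sum, mul_sum, ← sum_congr rfl fun j _ => hm j]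
  simp only [mul_sum]
  rw [sum_comm]
  refine sum_congr rfl fun i _ => ?_
  have e0 := hab i 0
  have e1 := hab i 1
  simp only [pow_zero, mul_one, pow_one] at e0 e1
  rw [e0, e1, mul_sum, ← sum_add_distrib, sum_mul]
  refine sum_congr rfl fun j _ => ?_
  rw [mul_pow]; ring

theorem mult_one {θ : G → ℂ} (h : IsCharacter G θ) {x : G} {n : ℕ}
    (hx : x ^ n = 1) {ζ : ℂ} (hζ : ζ ^ n = 1) :
    ∃ m : ℕ, ∑ i ∈ range n, θ (x ^ i) * ζ ^ i = n * m := by
  obtain ⟨m, hm⟩ := mult_two h (Commute.one_right x) hx (one_pow 2) hζ (Or.inl rfl)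
  refine ⟨m, mul_left_cancel₀ (two_ne_zero (α := ℂ)) ?_⟩
  rw [← mul_assoc, ← hm, mul_sum]
  refine sum_congr rfl fun i _ => ?_
  rw [mul_one]; ring

/-- The multiplicity of the trivial character on a dihedral group of order 14. -/
theorem dihedral {θ : G → ℂ} (h : IsCharacter G θ) {g t : G} (hg : g ^ 7 = 1) (ht : t * t = 1)
    (hc : t * g * t⁻¹ = g⁻¹) :
    ∃ m : ℕ, ∑ i ∈ range 7, θ (g ^ i) + 7 * θ t = 14 * m := by
  have hadd : ∀ i j : ZMod 7, g ^ (i + j).val = g ^ i.val * g ^ j.val := by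
    intro i j
    rw [ZMod.val_add, ← pow_add, ← pow_eq_pow_mod _ hg]
  have hsub : ∀ i j : ZMod 7, g ^ (j - i).val = (g ^ i.val)⁻¹ * g ^ j.val := by
    intro i j
    rw [eq_inv_mul_iff_mul_eq, ← hadd]
    congr 2
    ring
  have hmove : ∀ n : ℕ, g ^ n * t = t * (g ^ n)⁻¹ := by
    intro n
    have h1 : t * (g ^ n)⁻¹ * t⁻¹ = g ^ n := by
      have : t * g ^ n * t⁻¹ = (g ^ n)⁻¹ := by rw [← conj_pow, hc, inv_pow]
      have h2 : t * (g ^ n)⁻¹ * t⁻¹ = (t * g ^ n * t⁻¹)⁻¹ := by group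
      rw [h2, this, inv_inv]
    conv_lhs => rw [← h1]
    group
  let f : DihedralGroup 7 →* G := MonoidHom.mk'
    (fun d => match d with
      | DihedralGroup.r i => g ^ i.val
      | DihedralGroup.sr i => t * g ^ i.val) (by
      rintro (i | i) (j | j)
      · exact hadd i j
      · show t * g ^ (j - i).val = g ^ i.val * (t * g ^ j.val)
        rw [hsub, ← mul_assoc, ← mul_assoc, hmove]
      · show t * g ^ (i + j).val = t * g ^ i.val * g ^ j.val
        rw [hadd, mul_assoc]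
      · show g ^ (j - i).val = t * g ^ i.val * (t * g ^ j.val)
        rw [hsub, ← mul_assoc, mul_assoc t _ t, hmove, ← mul_assoc, ht, one_mul])
  obtain ⟨m, hm⟩ := (h.comp f).exists_ip_eq_nat IsCharacter.one
  refine ⟨m, ?_⟩
  have hconj : ∀ n : ℕ, θ (t * g ^ n) = θ t := by
    intro n
    have e : (g ^ (4 * n))⁻¹ * t * g ^ (4 * n) = t * g ^ n := by
      have h1 : (g ^ (4 * n))⁻¹ * t = t * g ^ (4 * n) := by
        rw [inv_mul_eq_iff_eq_mul, ← mul_assoc, hmove]; group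
      rw [h1, mul_assoc, ← pow_add, show 4 * n + 4 * n = 7 * n + n by ring, pow_add, pow_mul, hg,
        one_pow, one_mul]
    rw [← e, h.isClassFunction.apply_inv_mul_mul]
  rw [ip_def, DihedralGroup.nat_card, ← DihedralGroup.equivSum.symm.sum_comp,
    Fintype.sum_sum_type] at hm
  have e1 : ∑ i : ZMod 7, θ (g ^ i.val) = ∑ i ∈ range 7, θ (g ^ i) :=
    Fin.sum_univ_eq_sum_range (fun i => θ (g ^ i)) 7
  have e2 : ∑ i : ZMod 7, θ (t * g ^ i.val) = 7 * θ t := by
    simp [hconj]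
  rw [← e1, ← e2, ← hm]
  simp only [map_one, mul_one]
  push_cast
  rw [← mul_assoc, mul_inv_cancel₀ (by norm_num), one_mul]
  rfl

theorem col_norm (g : G) : ∑ ψ : IrrCharacter G, ‖ψ g‖ ^ 2 =
    (Nat.card (Subgroup.centralizer ({g} : Set G)) : ℝ) := by
  have := sum_irr_mul_conj_of_isConj (IsConj.refl g)
  simp only [Complex.mul_conj, Complex.normSq_eq_norm_sq] at this
  exact_mod_cast this

theorem pair_le {a b : IrrCharacter G} (hab : a ≠ b) (g : G) :
    ‖a g‖ ^ 2 + ‖b g‖ ^ 2 ≤ (Nat.card (Subgroup.centralizer ({g} : Set G)) : ℝ) := by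
  classical
  rw [← col_norm, ← sum_pair (f := fun ψ : IrrCharacter G => ‖ψ g‖ ^ 2) hab]
  exact sum_le_sum_of_subset_of_nonneg (subset_univ _) fun _ _ _ => by positivity

theorem eps_of_odd {g : G} {n : ℕ} (hn : Odd n) (hg : g ^ n = 1) : ε g = 1 := by
  rcases Int.units_eq_one_or (ε g) with h | h
  · exact h
  · have := map_pow ε g n
    rw [hg, map_one, h, hn.neg_one_pow] at this
    exact absurd this (by decide)

theorem conj_iter {n g : G} {k : ℕ} (h : n * g * n⁻¹ = g ^ k) (m : ℕ) :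
    n ^ m * g * (n ^ m)⁻¹ = g ^ k ^ m := by
  induction m with
  | zero => simp
  | succ m ih =>
    have : n ^ (m + 1) * g * (n ^ (m + 1))⁻¹ = n * (n ^ m * g * (n ^ m)⁻¹) * n⁻¹ := by
      rw [pow_succ']; group
    rw [this, ih, ← conj_pow, h, ← pow_mul, pow_succ']

theorem fact7 : (5040 : ℕ).factorization 7 = 1 := by
  rw [show (5040 : ℕ) = 7 * 720 by norm_num, Nat.factorization_mul (by norm_num) (by norm_num),
    Finsupp.add_apply, Nat.Prime.factorization_self (by norm_num),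
    Nat.factorization_eq_zero_of_not_dvd (by norm_num)]

theorem fact5 : (5040 : ℕ).factorization 5 = 1 := by
  rw [show (5040 : ℕ) = 5 * 1008 by norm_num, Nat.factorization_mul (by norm_num) (by norm_num),
    Finsupp.add_apply, Nat.Prime.factorization_self (by norm_num),
    Nat.factorization_eq_zero_of_not_dvd (by norm_num)]

/-- The involution outside `ker ε` that inverts an element of order 7. -/
theorem exists_inv (hG : Nat.card G = 5040) (hε : ε ≠ 1)
    (hC : ∀ g : G, orderOf g = 7 → Nat.card (Subgroup.centralizer ({g} : Set G)) = 7) :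
    ∃ g t : G, orderOf g = 7 ∧ t * t = 1 ∧ ε t = -1 ∧ t * g * t⁻¹ = g⁻¹ := by
  haveI : Fact (Nat.Prime 7) := ⟨by norm_num⟩
  obtain ⟨g, hg⟩ := exists_prime_orderOf_dvd_card' 7 (G := G) (by rw [hG]; norm_num)
  have hg7 : g ^ 7 = 1 := hg ▸ pow_orderOf_eq_one g
  have hf : (Nat.card G).factorization 7 = 1 := by
    rw [hG]
    exact fact7
  let P : Sylow 7 G := Sylow.ofCard (Subgroup.zpowers g) (by rw [Nat.card_zpowers, hg, hf, pow_one])
  have hP : (P : Subgroup G) = Subgroup.zpowers g := rfl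
  have hle : (P : Subgroup G) ≤ ε.ker := by
    rw [hP, Subgroup.zpowers_le]
    exact eps_of_odd (by decide) hg7
  have hfr := P.normalizer_sup_eq_top' hle
  obtain ⟨n, hn, hεn⟩ : ∃ n ∈ Subgroup.normalizer (P : Set G), ε n = -1 := by
    by_contra hcon
    push Not at hcon
    apply hε
    have : Subgroup.normalizer (P : Set G) ≤ ε.ker := fun n hn =>
      (Int.units_eq_one_or (ε n)).resolve_right (hcon n hn)
    rw [sup_eq_right.mpr this] at hfr
    ext x
    have hx : x ∈ ε.ker := hfr ▸ Subgroup.mem_top x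
    rw [MonoidHom.mem_ker.mp hx]; rfl
  have hmem : n * g * n⁻¹ ∈ Subgroup.zpowers g :=
    (Subgroup.mem_normalizer_iff.mp hn g).mp (Subgroup.mem_zpowers g)
  classical
  rw [mem_zpowers_iff_mem_range_orderOf, mem_image] at hmem
  obtain ⟨k, hk, hk'⟩ := hmem
  rw [hg, mem_range] at hk
  have hit := conj_iter hk'.symm
  have hg1 : g ≠ 1 := by rintro rfl; simp at hg
  have hk0 : k ≠ 0 := by
    rintro rfl
    rw [pow_zero, eq_comm, mul_inv_eq_one, mul_eq_left] at hk'
    exact hg1 hk'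
  have hcen : ∀ c : G, c * g * c⁻¹ = g → c ^ 7 = 1 := by
    intro c hc
    have hm : c ∈ Subgroup.centralizer ({g} : Set G) := by
      rw [Subgroup.mem_centralizer_singleton_iff]
      rw [mul_inv_eq_iff_eq_mul] at hc
      exact hc
    have := pow_card_eq_one' (x := (⟨c, hm⟩ : Subgroup.centralizer ({g} : Set G)))
    rw [hC g hg] at this
    exact congrArg Subtype.val this
  have h6 : (n ^ 6) ^ 7 = 1 := hcen _ (by
    rw [hit, pow_eq_pow_mod _ hg7]
    interval_cases k <;> first | exact absurd rfl hk0 | norm_num)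
  have ht : n ^ 21 * n ^ 21 = 1 := by rw [← pow_add, ← h6, ← pow_mul]
  have hεt : ε (n ^ 21) = -1 := by rw [map_pow, hεn]; decide
  refine ⟨g, n ^ 21, hg, ht, hεt, ?_⟩
  have h21 : k ^ 21 % 7 = 1 ∨ k ^ 21 % 7 = 6 := by
    interval_cases k <;> first | exact absurd rfl hk0 | norm_num
  have e := hit 21
  rw [pow_eq_pow_mod _ hg7] at e
  rcases h21 with h21 | h21 <;> rw [h21] at e
  · rw [pow_one] at e
    have := eps_of_odd (ε := ε) (by decide) (hcen _ e)
    rw [hεt] at this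
    exact absurd this (by decide)
  · rw [e, eq_inv_iff_mul_eq_one, ← pow_succ, hg7]

theorem det_inv {χ : G → ℂ} (h : IsCharacter G χ) (h6 : charDegree χ = 6) {y : G}
    (hy : y ^ 2 = 1) (hd : detChar χ y = 1) : χ y ≠ 4 ∧ χ y ≠ -4 := by
  obtain ⟨a, ha, h1, h2⟩ := h.exists_roots y
  have hb' : ∀ j, a j = 1 ∨ a j = -1 := fun j => by
    obtain ⟨c, hc⟩ := orderOf_dvd_of_pow_eq_one hy
    have : a j ^ 2 = 1 := by rw [hc, pow_mul, ha, one_pow]
    exact sq_eq_one_iff.mp this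
  have e1 := h1 1
  have e2 := h2 1
  simp only [pow_one] at e1 e2
  rw [hd] at e2
  rw [e1]
  clear h1 h2 ha e1
  revert a
  rw [h6]
  intro a hb' e2
  rw [Fin.prod_univ_six] at e2
  rw [Fin.sum_univ_six]
  rcases hb' 0 with h0 | h0 <;> rcases hb' 1 with h1 | h1 <;> rcases hb' 2 with h2 | h2 <;>
    rcases hb' 3 with h3 | h3 <;> rcases hb' 4 with h4 | h4 <;> rcases hb' 5 with h5 | h5 <;>
    rw [h0, h1, h2, h3, h4, h5] at e2 ⊢ <;>
    first | (exfalso; norm_num at e2; done) | norm_num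

theorem exists_zeta : ∃ ζ : ℂ, ζ ^ 5 = 1 ∧ 1 + ζ + ζ ^ 2 + ζ ^ 3 + ζ ^ 4 = 0 := by
  have h := isPrimitiveRoot_exp_nat (n := 5) (by norm_num)
  refine ⟨_, h.pow_eq_one, ?_⟩
  have := h.geom_sum_eq_zero (by norm_num)
  simpa [sum_range_succ] using this

theorem sum_five (f : ℕ → ℂ) : ∑ i ∈ range 5, f i = f 0 + f 1 + f 2 + f 3 + f 4 := by
  simp [sum_range_succ]

/-- The values of the last two characters of degree 14 on an element of order 5. -/
theorem five_col {U V : G → ℂ} (hU : IsCharacter G U) (hV : IsCharacter G V) (hU1 : U 1 = 14)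
    (hV1 : V 1 = 14) {x : G} (hx : x ^ 5 = 1) (σ : ℂ ≃+* ℂ)
    (hσ : ∀ z : ℂ, z ^ 5 = 1 → σ z = z ^ 2) (huv : U x + V x = -2)
    (hc : σ (U x) = -1 ∨ σ (U x) = U x ∨ σ (U x) = V x) :
    ∃ e : ℤ, ‖U x‖ ^ 2 + ‖V x‖ ^ 2 = 10 * e ^ 2 + 2 := by
  obtain ⟨ζ, hζ, hζ0⟩ := exists_zeta
  have pw : ∀ θ : G → ℂ, IsCharacter G θ → θ (x ^ 2) = σ (θ x) ∧ θ (x ^ 4) = σ (σ (θ x)) ∧
      θ (x ^ 3) = σ (σ (σ (θ x))) := by
    intro θ hθ
    have p : ∀ k : ℕ, θ (x ^ (k * 2)) = σ (θ (x ^ k)) := fun k => by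
      rw [pow_mul]
      exact hθ.apply_pow_eq σ.toRingHom (n := 5) (by rw [← pow_mul, mul_comm, pow_mul, hx, one_pow])
        hσ
    have p1 := p 1
    have p2 := p 2
    have p4 := p 4
    rw [pow_one] at p1
    rw [p1] at p2
    rw [p2, show 4 * 2 = 5 + 3 from rfl, pow_add, hx, one_mul] at p4
    exact ⟨p1, p2, p4⟩
  have hv : V x = -2 - U x := by rw [← huv]; ring
  have hσv : σ (V x) = -2 - σ (U x) := by rw [hv, map_sub, map_neg, map_ofNat]
  have fin : U x = -1 → ∃ e : ℤ, ‖U x‖ ^ 2 + ‖V x‖ ^ 2 = 10 * e ^ 2 + 2 := fun hu => by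
    refine ⟨0, ?_⟩
    rw [hv, hu, show (-2 - -1 : ℂ) = -1 by ring]
    norm_num
  obtain ⟨u2, u4, u3⟩ := pw U hU
  obtain ⟨v2, v4, v3⟩ := pw V hV
  rcases hc with hc | hc | hc
  · exact fin (σ.injective (by rw [hc, map_neg, map_one]))
  · have hc' : σ (V x) = V x := by rw [hσv, hc, hv]
    simp only [hc] at u2 u4 u3
    simp only [hc'] at v2 v4 v3
    obtain ⟨m, hm⟩ := mult_one hU hx (one_pow 5)
    obtain ⟨k, hk⟩ := mult_one hU hx hζ
    obtain ⟨m', hm'⟩ := mult_one hV hx (one_pow 5)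
    obtain ⟨k', hk'⟩ := mult_one hV hx hζ
    rw [sum_five, pow_zero, pow_one, u2, u3, u4, hU1] at hm hk
    rw [sum_five, pow_zero, pow_one, v2, v3, v4, hV1] at hm' hk'
    push_cast at hm hk hm' hk'
    have a1 : U x = 14 - 5 * k := by linear_combination -hk + U x * hζ0
    have a2 : V x = 14 - 5 * k' := by linear_combination -hk' + V x * hζ0
    have b1 : ((m + 4 * k : ℕ) : ℂ) = (14 : ℕ) := by
      push_cast; linear_combination (-1 / 5) * hm + (4 / 5) * a1
    have b2 : ((m' + 4 * k' : ℕ) : ℂ) = (14 : ℕ) := by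
      push_cast; linear_combination (-1 / 5) * hm' + (4 / 5) * a2
    have b3 : ((k + k' : ℕ) : ℂ) = (6 : ℕ) := by
      push_cast; linear_combination (1 / 5) * a1 + (1 / 5) * a2 - (1 / 5) * huv
    have c1 := Nat.cast_injective b1
    have c2 := Nat.cast_injective b2
    have c3 := Nat.cast_injective b3
    have hk3 : k = 3 := by omega
    exact fin (by rw [a1, hk3]; norm_num)
  · have hc' : σ (V x) = U x := by rw [hσv, hc, hv]; ring
    simp only [hc, hc'] at u2 u4 u3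
    obtain ⟨k, hk⟩ := mult_one hU hx hζ
    rw [sum_five, pow_zero, pow_one, u2, u3, u4, hU1, hv] at hk
    push_cast at hk
    have hre : conj (U x) = U x := by
      rw [← hU.apply_inv, ← u4]
      congr 1
      rw [inv_eq_iff_mul_eq_one, ← pow_succ', hx]
    have hr : (ζ + ζ ^ 4 - ζ ^ 2 - ζ ^ 3) ^ 2 = 5 := by
      linear_combination (ζ ^ 3 - 2 * ζ ^ 2 - ζ + 4) * hζ - hζ0
    have hw : (U x + 1) * (ζ + ζ ^ 4 - ζ ^ 2 - ζ ^ 3) = 5 * (k - 3) := by
      linear_combination hk + hζ0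
    have hw2 : (U x + 1) ^ 2 = 5 * (k - 3) ^ 2 := by
      linear_combination (1 / 5) * ((U x + 1) * (ζ + ζ ^ 4 - ζ ^ 2 - ζ ^ 3) + 5 * (k - 3)) * hw -
        (1 / 5) * (U x + 1) ^ 2 * hr
    refine ⟨k - 3, ?_⟩
    apply Complex.ofReal_injective
    have n1 : ∀ z : ℂ, conj z = z → ((‖z‖ : ℝ) : ℂ) ^ 2 = z ^ 2 := fun z hz => by
      rw [← Complex.mul_conj', hz, sq]
    have hre' : conj (V x) = V x := by rw [hv, map_sub, map_neg, hre, map_ofNat]
    push_cast
    rw [n1 _ hre, n1 _ hre', hv]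
    linear_combination 2 * hw2

section Multi

variable {α : Type*} (d : α → ℕ)

theorem sum_cases (s : Multiset α)
    (hs : ∀ a ∈ s, d a = 6 ∨ d a = 14 ∨ d a = 15 ∨ d a = 20 ∨ d a = 21 ∨ d a = 35) :
    s = 0 ∨ (s.map d).sum = 6 ∨ (s.map d).sum = 12 ∨ (s.map d).sum = 14 ∨ (s.map d).sum = 15 ∨
      (s.map d).sum = 18 ∨ 20 ≤ (s.map d).sum := by
  induction s using Multiset.induction_on with
  | empty => exact Or.inl rfl
  | cons a s ih =>
    right
    have ha := hs a (Multiset.mem_cons_self _ _)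
    rw [Multiset.map_cons, Multiset.sum_cons]
    rcases ih fun b hb => hs b (Multiset.mem_cons_of_mem hb) with rfl | h
    · simp only [Multiset.map_zero, Multiset.sum_zero]; omega
    · omega

theorem single (s : Multiset α)
    (hs : ∀ a ∈ s, d a = 6 ∨ d a = 14 ∨ d a = 15 ∨ d a = 20 ∨ d a = 21 ∨ d a = 35) {n : ℕ}
    (hn : n = 6 ∨ n = 14) (h : (s.map d).sum = n) : ∃ a, s = {a} ∧ d a = n := by
  induction s using Multiset.induction_on with
  | empty => simp at h; omega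
  | cons a s _ =>
    have ha := hs a (Multiset.mem_cons_self _ _)
    rw [Multiset.map_cons, Multiset.sum_cons] at h
    rcases sum_cases d s fun b hb => hs b (Multiset.mem_cons_of_mem hb) with rfl | h'
    · exact ⟨a, rfl, by simpa using h⟩
    · omega

theorem split35 (s : Multiset α)
    (hs : ∀ a ∈ s, d a = 6 ∨ d a = 14 ∨ d a = 15 ∨ d a = 20 ∨ d a = 21 ∨ d a = 35)
    (h : (s.map d).sum = 35) : (∃ a ∈ s, d a = 35) ∨ (∃ a ∈ s, d a = 20) ∨
      (∃ a b, s = {a, b} ∧ d a = 21 ∧ d b = 14) ∨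
      ∃ a b c, s = {a, b, c} ∧ d a = 15 ∧ d b = 14 ∧ d c = 6 := by
  by_cases h35 : ∃ a ∈ s, d a = 35
  · exact Or.inl h35
  by_cases h20 : ∃ a ∈ s, d a = 20
  · exact Or.inr (Or.inl h20)
  refine Or.inr (Or.inr ?_)
  by_cases h21 : ∃ a ∈ s, d a = 21
  · obtain ⟨a, ha, ha'⟩ := h21
    obtain ⟨s, rfl⟩ := Multiset.exists_cons_of_mem ha
    rw [Multiset.map_cons, Multiset.sum_cons] at h
    obtain ⟨b, rfl, hb⟩ := single d s (fun b hb => hs b (Multiset.mem_cons_of_mem hb))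
      (Or.inr rfl) (by omega)
    exact Or.inl ⟨a, b, rfl, ha', hb⟩
  right
  push Not at h35 h20 h21
  obtain ⟨a, ha, ha'⟩ : ∃ a ∈ s, d a = 15 := by
    by_contra hc
    push Not at hc
    have : 2 ∣ (s.map d).sum := Multiset.dvd_sum fun n hn => by
      obtain ⟨b, hb, rfl⟩ := Multiset.mem_map.mp hn
      have := hs b hb; have := h35 b hb; have := h21 b hb; have := hc b hb
      omega
    omega
  obtain ⟨s, rfl⟩ := Multiset.exists_cons_of_mem ha
  rw [Multiset.map_cons, Multiset.sum_cons] at h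
  obtain ⟨b, hb, hb'⟩ : ∃ b ∈ s, d b = 14 := by
    by_contra hc
    push Not at hc
    have : 3 ∣ (s.map d).sum := Multiset.dvd_sum fun n hn => by
      obtain ⟨b, hb, rfl⟩ := Multiset.mem_map.mp hn
      have hb2 := Multiset.mem_cons_of_mem (b := a) hb
      have := hs b hb2; have := h35 b hb2; have := h20 b hb2; have := hc b hb
      omega
    omega
  obtain ⟨s, rfl⟩ := Multiset.exists_cons_of_mem hb
  rw [Multiset.map_cons, Multiset.sum_cons] at h
  obtain ⟨c, rfl, hc⟩ := single d s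
    (fun c hc => hs c (Multiset.mem_cons_of_mem (Multiset.mem_cons_of_mem hc)))
    (Or.inl rfl) (by omega)
  exact ⟨a, b, c, rfl, ha', hb', hc⟩

end Multi

end Cfsg.Snd.Seven
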