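import Cfsg.Agent.Snd.Tool
import Cfsg.Agent.Char.BrauerApp
import Cfsg.Agent.Char.Congr

/-!
# S4905 for `n = 7`: the case `χ̄ = ε χ`, `Λ² χ = ε + β`, `S² χ = γ`

For `y` of order 5: `χ y = 1`, `β y = -1`, `γ y = 1`, the other two characters `b, b'` of degree
14 have `b y + b' y = -2`, `|b y|² + |b' y|² + 8 = |C(y)|`. The Galois action gives a `y` with
`|C(y)| ∈ {10, 20}`. For an involution `z` of `C(y)` and `w = y z`, `r = χ(w)²` is an odd integer,
`r ≥ 9` if `ε z = 1` and `r ≤ -5` otherwise, so `|C(w)| > 20`.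
-/

set_option autoImplicit false
set_option linter.unusedSectionVars false

namespace Cfsg.Snd.SevenB

open Equiv Finset

variable {G : Type*} [Group G] [Finite G] {ε : G →* ℤˣ}

theorem card_fiber {l : List ℕ} (h : DegList G l) (d : ℕ) :
    #{ψ : IrrCharacter G | charDegree ψ.1 = d} = #{i : Fin l.length | l.get i = d} := by
  obtain ⟨e, he⟩ := h
  refine Finset.card_equiv e fun ψ => ?_
  simp only [mem_filter, mem_univ, true_and, he]

theorem deg_mem {l : List ℕ} (h : DegList G l) (ψ : IrrCharacter G) : charDegree ψ.1 ∈ l := by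
  obtain ⟨e, he⟩ := h
  rw [he]
  exact List.get_mem _ _

theorem fiber_pair [DecidableEq (IrrCharacter G)] {d : ℕ}
    (h : #{ψ : IrrCharacter G | charDegree ψ.1 = d} = 2) {α β : IrrCharacter G} (hne : α ≠ β)
    (h1 : charDegree α.1 = d) (h2 : charDegree β.1 = d) :
    ({ψ | charDegree ψ.1 = d} : Finset (IrrCharacter G)) = {α, β} := by
  symm
  refine Finset.eq_of_subset_of_card_le (fun ψ hψ => ?_) (by rw [h, card_pair hne])
  simp only [mem_insert, mem_singleton] at hψ
  rcases hψ with rfl | rfl <;> simp [h1, h2]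

theorem sum_split {M : Type*} [AddCommMonoid M]
    (h : DegList G [1, 1, 6, 6, 14, 14, 14, 14, 15, 15, 20, 21, 21, 35, 35])
    (F : IrrCharacter G → M) (h0 : ∀ ψ : IrrCharacter G, 5 ∣ charDegree ψ.1 → F ψ = 0) :
    ∑ ψ, F ψ = ∑ ψ with charDegree ψ.1 = 1, F ψ + ∑ ψ with charDegree ψ.1 = 6, F ψ +
      ∑ ψ with charDegree ψ.1 = 14, F ψ + ∑ ψ with charDegree ψ.1 = 21, F ψ := by
  simp only [sum_filter, ← sum_add_distrib]
  refine sum_congr rfl fun ψ _ => ?_
  have h1 := deg_mem h ψ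
  have h2 := h0 ψ
  simp only [List.mem_cons, List.not_mem_nil, or_false] at h1
  rcases h1 with h1 | h1 | h1 | h1 | h1 | h1 | h1 | h1 | h1 | h1 | h1 | h1 | h1 | h1 | h1 <;>
    simp_all

theorem sub_dec : ∀ s ∈ ([1, 1, 6, 6, 14, 14, 14] : List ℕ).sublists,
    ∀ t ∈ ([14, 15, 15, 20, 21, 21, 35, 35] : List ℕ).sublists,
    ((s ++ t).map (· ^ 2)).sum ∣ 5040 → 1 ∈ s ++ t →
    (∀ d ∈ s ++ t, d ∣ ((s ++ t).map (· ^ 2)).sum) →
    ((s ++ t).map (· ^ 2)).sum < 36 ∨ ((s ++ t).map (· ^ 2)).sum = 5040 := by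
  decide +kernel

theorem center_eq_bot (h : DegList G [1, 1, 6, 6, 14, 14, 14, 14, 15, 15, 20, 21, 21, 35, 35])
    (χ : IrrCharacter G) (hχ : charDegree χ.1 = 6) : charCenter χ.1 = ⊥ := by
  have hG : Nat.card G = 5040 := h.card_eq.trans (by decide)
  obtain ⟨s, h1, h2, h3, h4⟩ := h.exists_sublist (charCenter χ.1)
  obtain ⟨s, t, rfl, hs, ht⟩ := (List.sublist_append_iff (r₁ := [1, 1, 6, 6, 14, 14, 14])
    (r₂ := [14, 15, 15, 20, 21, 21, 35, 35])).1 h1
  have h5 := χ.sq_charDegree_le_index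
  have h6 := sub_dec s (List.mem_sublists.2 hs) t (List.mem_sublists.2 ht)
    (by rw [h3, ← hG]; exact Subgroup.index_dvd_card _) h2 (by rw [h3]; exact h4)
  rw [h3] at h6
  rw [hχ] at h5
  have h7 := (charCenter χ.1).card_mul_index
  exact Subgroup.card_eq_one.1 (by rw [hG, h6.resolve_left (by omega)] at h7; omega)

theorem exists_count {θ : G → ℂ} (h : IsCharacter G θ) {y : G} (hy : orderOf y = 5) {z : ℂ}
    (hz : z ^ 5 = 1) : ∃ m : ℕ, (5 : ℂ) * m =
      θ 1 + θ y * z + θ (y ^ 2) * z ^ 2 + θ (y ^ 3) * z ^ 3 + θ (y ^ 4) * z ^ 4 := by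
  classical
  obtain ⟨f, h1, h2, -⟩ := h.exists_roots y
  have h3 := mul_count_roots_eq (n := 5) (by norm_num) f (hy ▸ h1) (z := z⁻¹) (by simp [hz])
  refine ⟨_, (by exact_mod_cast h3 : (5 : ℂ) * _ = _).trans ?_⟩
  simp only [← h2, inv_inv, sum_range_succ, range_zero, sum_empty, pow_zero, pow_one]
  ring

theorem inv_val {χ : G → ℂ} (h : IsCharacter G χ) (h6 : charDegree χ = 6) {z : G}
    (hz : orderOf z = 2) (hd : detChar χ z = 1) (hc : z ∉ charCenter χ) : χ z = 2 ∨ χ z = -2 := by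
  rw [h.mem_charCenter] at hc
  obtain ⟨f, h1, h2, h3⟩ := h.exists_roots z
  have h4 := h2 1
  have h5 := h3 1
  simp only [pow_one] at h4 h5
  rw [hd] at h5
  rw [h4] at hc ⊢
  have h7 : ∀ i, f i = 1 ∨ f i = -1 := fun i => sq_eq_one_iff.1 (hz ▸ h1 i)
  clear h1 h2 h3 h4
  generalize charDegree χ = n at *
  subst h6
  rw [Fin.sum_univ_six] at hc ⊢
  rw [Fin.prod_univ_six] at h5
  rcases h7 0 with a | a <;> rcases h7 1 with b | b <;> rcases h7 2 with c | c <;>
    rcases h7 3 with d | d <;> rcases h7 4 with e | e <;> rcases h7 5 with g | g <;>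
    rw [a, b, c, d, e, g] at hc h5 ⊢ <;>
    first | (norm_num; done) | (norm_num at h5; done) | norm_num at hc

theorem last_case {ε : G →* ℤˣ}
    (h : DegList G [1, 1, 6, 6, 14, 14, 14, 14, 15, 15, 20, 21, 21, 35, 35]) (hε : ε ≠ 1)
    (χ β γ : IrrCharacter G) (hχ : charDegree χ.1 = 6) (hβ : charDegree β.1 = 14)
    (hγ : charDegree γ.1 = 21) (hstar : star χ.1 = sg ε * χ.1) (hne : sg ε * χ.1 ≠ χ.1)
    (hβne : sg ε * β.1 ≠ β.1) (hL : ∀ g, (χ.1 g ^ 2 - χ.1 (g * g)) / 2 = sg ε g + β.1 g)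
    (hS : ∀ g, (χ.1 g ^ 2 + χ.1 (g * g)) / 2 = γ.1 g) : False := by
  classical
  have hG : Nat.card G = 5040 := h.card_eq.trans (by decide)
  have hZ := center_eq_bot h χ hχ
  obtain ⟨tw, htw⟩ : ∃ tw : IrrCharacter G → IrrCharacter G, ∀ ψ, (tw ψ).1 = sg ε * ψ.1 :=
    ⟨fun ψ => ⟨_, isIrr_sg_mul ε ψ⟩, fun _ => rfl⟩
  have hd : ∀ ψ, charDegree (tw ψ).1 = charDegree ψ.1 := fun ψ => by rw [htw, charDegree_sg_mul]
  have hv : ∀ ψ g, (tw ψ).1 g = sg ε g * ψ.1 g := fun ψ g => by rw [htw]; rfl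
  have hodd : ∀ ψ, Odd (charDegree ψ.1) → ψ ≠ tw ψ := fun ψ ho e =>
    Nat.not_even_iff_odd.2 ho (even_of_sg_mul hε ψ (by rw [← htw, ← e]))
  have h11 : charDegree (IrrCharacter.one G).1 = 1 := charDegree_eq_of_apply_one (by simp)
  have f1 := fiber_pair ((card_fiber h 1).trans (by decide)) (hodd _ (by rw [h11]; decide)) h11
    (by rw [hd, h11])
  have f6 := fiber_pair ((card_fiber h 6).trans (by decide))
    (fun e : χ = tw χ => hne (by rw [← htw, ← e])) hχ (by rw [hd, hχ])
  have f21 := fiber_pair ((card_fiber h 21).trans (by decide)) (hodd _ (by rw [hγ]; decide)) hγ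
    (by rw [hd, hγ])
  have hb : β ≠ tw β := fun e => hβne (by rw [← htw, ← e])
  obtain ⟨b, b', hbb, hb1, hb2, f14⟩ : ∃ b b' : IrrCharacter G, b ≠ b' ∧
      b ∉ ({β, tw β} : Finset _) ∧ b' ∉ ({β, tw β} : Finset _) ∧
      ({ψ | charDegree ψ.1 = 14} : Finset (IrrCharacter G)) = insert b (insert b' {β, tw β}) := by
    have h1 : ({β, tw β} : Finset _) ⊆ ({ψ | charDegree ψ.1 = 14} : Finset (IrrCharacter G)) := by
      intro ψ hψ
      simp only [mem_insert, mem_singleton] at hψ
      rcases hψ with rfl | rfl <;> simp [hd, hβ]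
    have h2 := card_sdiff_of_subset h1
    rw [(card_fiber h 14).trans (by decide : _ = 4), card_pair hb] at h2
    obtain ⟨b, b', h3, h4⟩ := card_eq_two.1 h2
    have h5 : b ∈ ({b, b'} : Finset _) := by simp
    have h6 : b' ∈ ({b, b'} : Finset _) := by simp
    rw [← h4] at h5 h6
    refine ⟨b, b', h3, (mem_sdiff.1 h5).2, (mem_sdiff.1 h6).2, ?_⟩
    rw [← sdiff_union_of_subset h1, h4, insert_union, singleton_union]
  have hm : ∀ ψ : IrrCharacter G, charDegree ψ.1 = 14 ↔ ψ = b ∨ ψ = b' ∨ ψ = β ∨ ψ = tw β :=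
    fun ψ => by simpa using Finset.ext_iff.1 f14 ψ
  have db := (hm b).2 (.inl rfl)
  have db' := (hm b').2 (.inr (.inl rfl))
  have hsum : ∀ {M : Type} [AddCommMonoid M] (F : IrrCharacter G → M),
      (∀ ψ : IrrCharacter G, 5 ∣ charDegree ψ.1 → F ψ = 0) → ∑ ψ, F ψ =
      F (.one G) + F (tw (.one G)) + (F χ + F (tw χ)) + (F b + (F b' + (F β + F (tw β)))) +
        (F γ + F (tw γ)) := fun F h0 => by
    rw [sum_split h F h0, f1, f6, f21, f14, sum_pair (hodd _ (by rw [h11]; decide)),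
      sum_pair (fun e : χ = tw χ => hne (by rw [← htw, ← e])),
      sum_pair (hodd _ (by rw [hγ]; decide)),
      sum_insert (by rw [mem_insert, not_or]; exact ⟨hbb, hb1⟩), sum_insert hb2, sum_pair hb]
  have : Fact (Nat.Prime 5) := ⟨by norm_num⟩
  have hvan : ∀ g : G, 5 ∣ orderOf g → ∀ ψ : IrrCharacter G, 5 ∣ charDegree ψ.1 → ψ.1 g = 0 :=
    fun g hg ψ h5 => ψ.eq_zero_of_defect_zero 5 (by
      rw [hG, show (5040 : ℕ).factorization 5 = 1 from
        (Nat.factorization_def _ (by norm_num)).trans (by decide +kernel)]; simpa using h5) hg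
  have hsg : ∀ g, sg ε g = 1 ∨ sg ε g = -1 := fun g => (Tool.sg_cases ε g).imp And.right And.right
  have hnorm : ∀ g : G, 5 ∣ orderOf g → (Nat.card (Subgroup.centralizer ({g} : Set G)) : ℝ) =
      2 + 2 * Complex.normSq (χ.1 g) + 2 * Complex.normSq (β.1 g) + 2 * Complex.normSq (γ.1 g) +
      Complex.normSq (b.1 g) + Complex.normSq (b'.1 g) := fun g hg => by
    have h1 := sum_irr_mul_conj_of_isConj (IsConj.refl g)
    simp only [Complex.mul_conj] at h1
    have h2 : (∑ ψ : IrrCharacter G, Complex.normSq (ψ.1 g)) =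
      (Nat.card (Subgroup.centralizer ({g} : Set G)) : ℝ) := by exact_mod_cast h1
    rw [← h2, hsum _ fun ψ h5 => by rw [hvan g hg ψ h5, map_zero]]
    have h3 : Complex.normSq (sg ε g) = 1 := by rcases hsg g with e | e <;> simp [e]
    simp only [hv, map_mul, h3, IrrCharacter.one_apply, map_one]
    ring
  have hgal : ∀ (σ : ℂ ≃+* ℂ) g, σ (χ.1 g) = χ.1 g ∨ σ (χ.1 g) = sg ε g * χ.1 g := fun σ g => by
    have h1 : σ • χ ∈ ({χ, tw χ} : Finset _) := by rw [← f6]; simp [hχ]
    simp only [mem_insert, mem_singleton] at h1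
    exact h1.imp (fun e => congrFun (congrArg Subtype.val e) g)
      fun e => (congrFun (congrArg Subtype.val e) g).trans (hv _ _)
  have hint : ∀ g, sg ε g = 1 → ∃ n : ℤ, χ.1 g = n := fun g hg =>
    exists_int_of_forall_ringEquiv_fix (χ.isIntegral g) fun σ =>
      (hgal σ g).elim id fun e => by rw [e, hg, one_mul]
  have hint2 : ∀ g, ∃ n : ℤ, χ.1 g ^ 2 = n := fun g =>
    exists_int_of_forall_ringEquiv_fix ((χ.isIntegral g).pow 2) fun σ => by
      rw [map_pow]
      rcases hgal σ g with e | e <;> rcases hsg g with e' | e' <;> simp [e, e']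
  have hχ1 : χ.1 1 = 6 := by rw [χ.apply_one, hχ]; norm_num
  have hpow : ∀ y : G, orderOf y = 5 → ∀ k, k.Coprime 5 → orderOf (y ^ k) = 5 := fun y hy k hk => by
    rw [Nat.Coprime.orderOf_pow (hy ▸ hk.symm), hy]
  have he5 : ∀ y : G, orderOf y = 5 → sg ε y = 1 := fun y hy => by
    have h1 : ε y ^ 5 = 1 := by rw [← map_pow, ← hy, pow_orderOf_eq_one, map_one]
    rcases Int.units_eq_one_or (ε y) with e | e
    · simp [sg, e]
    · rw [e] at h1
      exact absurd h1 (by decide)
  have hχ5 : ∀ y : G, orderOf y = 5 → χ.1 y = 1 := fun y hy => by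
    obtain ⟨n, hn⟩ := hint y (he5 y hy)
    have h1 : ∀ k, k.Coprime 5 → χ.1 (y ^ k) = n := fun k hk => by
      obtain ⟨σ, hσ⟩ := exists_ringEquiv_apply_pow_orderOf (g := y) (hy ▸ hk)
      rw [hσ _ χ.isCharacter.isGen, hn, map_intCast]
    obtain ⟨m, hm⟩ := exists_count χ.isCharacter hy (one_pow 5)
    rw [hχ1, h1 2 (by decide), h1 3 (by decide), h1 4 (by decide), hn] at hm
    have h2 : (5 : ℤ) * m = 6 + 4 * n := by
      have : (5 : ℂ) * m = 6 + 4 * n := by linear_combination hm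
      exact_mod_cast this
    have h3 := χ.norm_le y
    have h4 : ‖χ.1 y‖ ≠ charDegree χ.1 := fun e => by
      have := χ.mem_charCenter.2 e
      rw [hZ, Subgroup.mem_bot] at this
      simp [this] at hy
    rw [hn, hχ, Complex.norm_intCast] at h3 h4
    have h5 : |n| ≤ 6 := by exact_mod_cast h3
    have h6 : |n| ≠ 6 := by exact_mod_cast h4
    have h7 : n = 1 := by rcases abs_cases n with e | e <;> omega
    rw [hn, h7, Int.cast_one]
  have h5 : ∀ y : G, orderOf y = 5 → β.1 y = -1 ∧ b'.1 y = -2 - b.1 y ∧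
      (Nat.card (Subgroup.centralizer ({y} : Set G)) : ℝ) =
        8 + Complex.normSq (b.1 y) + Complex.normSq (-2 - b.1 y) := fun y hy => by
    have h1 := hL y
    have h2 := hS y
    rw [hχ5 y hy, ← pow_two, hχ5 _ (hpow y hy 2 (by decide))] at h1 h2
    rw [he5 y hy] at h1
    have h3 : β.1 y = -1 := by linear_combination -h1
    have h4 : γ.1 y = 1 := by linear_combination -h2
    have h6 := sum_irr_one_mul_of_ne_one (g := y) (fun e => by simp [e] at hy)
    rw [hsum _ fun ψ h5 => by rw [hvan y (by rw [hy]) ψ h5, mul_zero]] at h6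
    simp only [hv, IrrCharacter.apply_one, hd, h11, hχ, hβ, hγ, db, db', he5 y hy, hχ5 y hy, h3, h4,
      IrrCharacter.one_apply, show sg ε 1 = 1 by simp [sg]] at h6
    have h7 : b'.1 y = -2 - b.1 y := by
      push_cast at h6
      linear_combination h6 / 14
    refine ⟨h3, h7, ?_⟩
    rw [hnorm y (by rw [hy]), hχ5 y hy, h3, h4, h7]
    simp only [Complex.normSq_neg, map_one]
    ring
  obtain ⟨y, hy, hC⟩ : ∃ y : G, orderOf y = 5 ∧
      (Nat.card (Subgroup.centralizer ({y} : Set G)) = 10 ∨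
        Nat.card (Subgroup.centralizer ({y} : Set G)) = 20) := by
    have hten : ∀ y : G, orderOf y = 5 → b.1 y = -1 →
        Nat.card (Subgroup.centralizer ({y} : Set G)) = 10 := fun y hy e => by
      have h1 := (h5 y hy).2.2
      rw [e] at h1
      norm_num at h1
      exact_mod_cast h1
    obtain ⟨x, hx⟩ := exists_prime_orderOf_dvd_card' (G := G) 5 (by rw [hG]; norm_num)
    obtain ⟨σ, -, hσ⟩ := exists_ringEquiv_apply_pow (G := G) (k := 17) (by rw [hG]; norm_num)
    have h1 : ∀ y : G, orderOf y = 5 → b.1 (y ^ 2) = (σ • b).1 y := fun y hy => by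
      rw [← pow_mod_orderOf, hy]
      exact (congrArg b.1 (by rw [← pow_mod_orderOf y 17, hy])).trans (hσ _ b.isCharacter.isGen y)
    have x2 := hpow x hx 2 (by decide)
    have x4 := hpow x hx 4 (by decide)
    have e4 : (x ^ 2) ^ 2 = x ^ 4 := by rw [← pow_mul]
    have e3 : (x ^ 4) ^ 2 = x ^ 3 := by rw [← pow_mul, ← pow_mod_orderOf, hx]
    have b1 : b.1 1 = 14 := by rw [b.apply_one, db]; norm_num
    rcases (hm (σ • b)).1 (by simp [db]) with e | e | e | e
    · rw [e] at h1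
      have h2 := h1 x hx
      have h3 := h1 _ x2
      have h4 := h1 _ x4
      rw [e4, h2] at h3
      rw [e3, h3] at h4
      obtain ⟨m, hm⟩ := exists_count b.isCharacter hx (one_pow 5)
      obtain ⟨m', hm'⟩ := exists_count b'.isCharacter hx (one_pow 5)
      rw [(h5 _ hx).2.1, (h5 _ x2).2.1, (h5 _ (hpow x hx 3 (by decide))).2.1, (h5 _ x4).2.1,
        b'.apply_one, db'] at hm'
      rw [h2, h3, h4] at hm hm'
      rw [b1] at hm
      obtain ⟨n, hn⟩ := exists_int_of_isIntegral_ratCast (b.isIntegral x) (q := (5 * m - 14) / 4)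
        (by push_cast; linear_combination -hm / 4)
      rw [hn] at hm hm'
      have h6 : (5 : ℤ) * m = 14 + 4 * n := by
        have : (5 : ℂ) * m = 14 + 4 * n := by linear_combination hm
        exact_mod_cast this
      have h7 : (5 : ℤ) * m' = 6 - 4 * n := by
        have : (5 : ℂ) * m' = 6 - 4 * n := by push_cast at hm'; linear_combination hm'
        exact_mod_cast this
      exact ⟨x, hx, .inl (hten x hx (by rw [hn, show n = -1 by omega]; simp))⟩
    · rw [e] at h1
      have h2 := (h1 x hx).trans (h5 x hx).2.1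
      have h3 := (h1 _ x2).trans (h5 _ x2).2.1
      have h4 := (h1 _ x4).trans (h5 _ x4).2.1
      rw [e4, h2] at h3
      rw [e3, h3] at h4
      have hζ := isPrimitiveRoot_exp_nat (n := 5) (by norm_num)
      generalize Complex.exp _ = ζ at hζ
      have z1 := hζ.geom_sum_eq_zero (by norm_num)
      have z2 := hζ.pow_eq_one
      simp only [sum_range_succ, range_zero, sum_empty] at z1
      obtain ⟨m, hm⟩ := exists_count b.isCharacter hx z2
      rw [h2, h3, h4, b1] at hm
      have h6 : (starRingEnd ℂ) (b.1 x) = b.1 x := by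
        rw [← b.apply_inv, show x⁻¹ = x ^ 4 from inv_eq_of_mul_eq_one_right
          (by rw [← pow_succ']; exact orderOf_dvd_iff_pow_eq_one.1 hx.dvd), h3]
        ring
      obtain ⟨u, hu⟩ := Complex.conj_eq_iff_real.1 h6
      have h7 := (h5 x hx).2.2
      rw [hu] at hm h7
      have h8 : ((u : ℂ) + 1) * (ζ + ζ ^ 4 - ζ ^ 2 - ζ ^ 3) = 5 * (m - 3) := by
        linear_combination -hm + z1
      have h9 : (ζ + ζ ^ 4 - ζ ^ 2 - ζ ^ 3) ^ 2 = 5 := by
        linear_combination (-1 : ℂ) * z1 + (ζ ^ 3 - 2 * ζ ^ 2 - ζ + 4) * z2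
      have h10 : ((u : ℂ) + 1) ^ 2 = 5 * (m - 3) ^ 2 := by
        linear_combination (((u : ℂ) + 1) * (ζ + ζ ^ 4 - ζ ^ 2 - ζ ^ 3) + 5 * (m - 3)) / 5 * h8 -
          ((u : ℂ) + 1) ^ 2 / 5 * h9
      have h11 : (u + 1) ^ 2 = 5 * ((m : ℝ) - 3) ^ 2 := by exact_mod_cast h10
      have h12 : (Nat.card (Subgroup.centralizer ({x} : Set G)) : ℤ) = 10 + 10 * (m - 3) ^ 2 := by
        have : (Nat.card (Subgroup.centralizer ({x} : Set G)) : ℝ) = 10 + 10 * (m - 3) ^ 2 := by
          rw [h7, show (-2 - u : ℂ) = ((-2 - u : ℝ) : ℂ) by simp, Complex.normSq_ofReal,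
            Complex.normSq_ofReal]
          linear_combination 2 * h11
        exact_mod_cast this
      have h13 := (Subgroup.centralizer ({x} : Set G)).card_subgroup_dvd_card
      rw [hG] at h13
      have h14 := Nat.le_of_dvd (by norm_num) h13
      refine ⟨x, hx, ?_⟩
      generalize Nat.card (Subgroup.centralizer ({x} : Set G)) = c at *
      have h15 : m ≤ 26 := by nlinarith
      have h16 : 10 + 10 * ((m : ℤ) - 3) ^ 2 ∣ 5040 := h12 ▸ Int.natCast_dvd_natCast.2 h13
      have h17 : m = 2 ∨ m = 3 ∨ m = 4 := by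
        revert h16
        interval_cases m <;> decide
      rcases h17 with rfl | rfl | rfl <;> norm_num at h12 <;> omega
    · exact ⟨_, x2, .inl (hten _ x2 (by rw [h1 x hx, e, (h5 x hx).1]))⟩
    · exact ⟨_, x2, .inl (hten _ x2 (by rw [h1 x hx, e, hv, (h5 x hx).1, he5 x hx, one_mul]))⟩
  obtain ⟨⟨z, hz⟩, hz2⟩ := exists_prime_orderOf_dvd_card'
    (G := Subgroup.centralizer ({y} : Set G)) 2 (by omega)
  rw [Subgroup.orderOf_mk] at hz2
  have hyz : Commute y z := (Subgroup.mem_centralizer_singleton_iff.1 hz).symm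
  have z2 : z ^ 2 = 1 := by rw [← hz2, pow_orderOf_eq_one]
  have y5 : y ^ 5 ^ 1 = 1 := by rw [pow_one, ← hy, pow_orderOf_eq_one]
  have w6 : (y * z) ^ 6 = y := by
    rw [hyz.mul_pow, ← pow_mod_orderOf, ← pow_mod_orderOf z, hy, hz2]
    simp
  have w2 : χ.1 (y * z * (y * z)) = 1 := by
    rw [← pow_two, hyz.mul_pow, z2, mul_one, hχ5 _ (hpow y hy 2 (by decide))]
  have hle : (Nat.card (Subgroup.centralizer ({y * z} : Set G)) : ℝ) ≤ 20 := by
    have h1 : Subgroup.centralizer ({y * z} : Set G) ≤ Subgroup.centralizer ({y} : Set G) :=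
      fun g hg => Subgroup.mem_centralizer_singleton_iff.2 <| w6 ▸
        (Commute.pow_right (Subgroup.mem_centralizer_singleton_iff.1 hg) 6).eq
    have h2 := Subgroup.card_le_of_le h1
    exact_mod_cast h2.trans (by omega)
  rw [hnorm _ (by have := orderOf_pow_dvd (x := y * z) 6; rwa [w6, hy] at this)] at hle
  obtain ⟨r, hr⟩ := hint2 (y * z)
  have h1 := hL (y * z)
  have h2 := hS (y * z)
  rw [hr, w2] at h1 h2
  obtain ⟨k, hk⟩ := exists_int_of_isIntegral_ratCast (γ.isIntegral (y * z)) (q := (r + 1) / 2)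
    (by push_cast; exact h2.symm)
  have h3 : r = 2 * k - 1 := by
    have : (r : ℂ) = 2 * k - 1 := by linear_combination 2 * h2 + 2 * hk
    exact_mod_cast this
  have hm : sg ε (y * z) = sg ε z := by
    have := he5 y hy
    simp only [sg, map_mul, Units.val_mul, Int.cast_mul] at this ⊢
    rw [this, one_mul]
  have p1 := Complex.normSq_nonneg (b.1 (y * z))
  have p2 := Complex.normSq_nonneg (b'.1 (y * z))
  have p3 := Complex.normSq_nonneg (χ.1 (y * z))
  have p4 := Complex.normSq_nonneg (β.1 (y * z))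
  rw [hk, Complex.normSq_intCast] at hle
  rcases hsg z with e | e
  · obtain ⟨c, hc⟩ := hint _ (hm.trans e)
    have hdet : detChar χ.1 z = 1 := by
      have h4 : (⟨_, isIrrCharacter_detChar χ.1⟩ : IrrCharacter G) ∈ ({.one G, tw (.one G)} : Finset _) := by
        rw [← f1]
        simpa using charDegree_eq_of_apply_one (n := 1) (by simp [detChar_apply_one])
      simp only [mem_insert, mem_singleton] at h4
      rcases h4 with h4 | h4
      · exact congrFun (congrArg Subtype.val h4) z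
      · exact (congrFun (congrArg Subtype.val h4) z).trans (by simp [hv, e])
    have h4 := inv_val χ.isCharacter hχ hz2 hdet (by
      rw [hZ, Subgroup.mem_bot]; rintro rfl; simp at hz2)
    have h6 : r = c * c := by
      have : (r : ℂ) = c * c := by rw [← hr, hc, pow_two]
      exact_mod_cast this
    have h7 : c ≡ 2 [ZMOD (5 : ℕ)] ∨ c ≡ -2 [ZMOD (5 : ℕ)] := h4.imp
      (fun e => χ.isCharacter.isGen.int_modEq (by norm_num) hyz y5 hc (by simp [e]))
      fun e => χ.isCharacter.isGen.int_modEq (by norm_num) hyz y5 hc (by simp [e])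
    have h8 : 5 ≤ k := by
      by_contra h8
      have : c ≤ 2 := by nlinarith
      have : -2 ≤ c := by nlinarith
      simp only [Int.ModEq] at h7
      interval_cases c <;> omega
    have h9 : (5 : ℝ) ≤ k := by exact_mod_cast h8
    nlinarith
  · have h4 : χ.1 z = 0 := by
      have h4 := congrFun hstar z
      rw [Pi.mul_apply, e, Pi.star_apply, RCLike.star_def, ← χ.apply_inv,
        show z⁻¹ = z from inv_eq_of_mul_eq_one_right (by rw [← pow_two, z2])] at h4
      linear_combination h4 / 2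
    obtain ⟨δ, hδ, h6⟩ := χ.isCharacter.isGen.exists_pow_sub_eq_mul (by norm_num) hyz y5
    have h7 : ((5 : ℕ) : ℤ) ∣ r := int_dvd_of_pow_eq_mul (n := 5) (by norm_num)
      ((isIntegral_algebraMap (x := (5 : ℤ))).mul (hδ.pow 2)) (by
        rw [h4, sub_zero, pow_one] at h6
        rw [← hr, ← pow_mul, mul_comm 2, pow_mul, h6]
        simp
        ring)
    have h8 : Complex.normSq (χ.1 (y * z)) = -r := by
      have h8 := congrFun hstar (y * z)
      rw [Pi.mul_apply, hm, e, Pi.star_apply, RCLike.star_def] at h8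
      have : (Complex.normSq (χ.1 (y * z)) : ℂ) = -r := by
        rw [← Complex.mul_conj, h8, ← hr]
        ring
      exact_mod_cast this
    have h9 : β.1 (y * z) = k := by
      rw [hm, e] at h1
      linear_combination -h1 + h2 + hk
    rw [h8] at hle p3
    rw [h9, Complex.normSq_intCast] at hle
    have h10 : 0 ≤ -r := by exact_mod_cast p3
    have h11 : k ≤ -2 := by omega
    have h12 : (k : ℝ) ≤ -2 := by exact_mod_cast h11
    have h13 : (r : ℝ) = 2 * k - 1 := by exact_mod_cast h3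
    nlinarith

end Cfsg.Snd.SevenB
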