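import Cfsg.Agent.Snd.Orb

/-!
# S4905: constituents twisted by `ε`

For a finite `Perm Ω`-set `Z`: `|G| ip (permChar Z ∘ ρ) (sg ε) = ∑ z, ∑ g ∈ Stab z, ε g
= ∑ z with Stab z ≤ ker ε, |Stab z|`; call the quotient `c Z`. For `Z = X × Y`,
`c Z = ∑ m_χ m'_ψ ip (χ ∘ ρ) (sg ε * (ψ ∘ ρ))` with natural numbers as terms.
Let `X` be the `(j+1)`-sets, `Y = Fin (j-1) → Ω`, `Y'` the `(j-1)`-sets.
* `tw_of_oddFix`: no stabiliser lies in `ker ε`, `c (X × Y) = 0`.
* `tw_of_tr`: only pairs `(S, y)` with `y` injective and `S` disjoint from `T = range y` can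
  count (`OddFix (2j-1)`), they form one orbit, so `c (X × Y) ≤ 1`. If it is `1`, then the pointwise
  stabiliser of `Γ = S ∪ T` lies in `ker ε`, so `ε` of an element stabilising `Γ` depends only on
  the induced permutation (all occur, `Tr (2j)`), and is `1` on a transposition inside `S`, so on all
  transpositions (conjugate), so always. Hence `c (X × Y') ≥ 1`. In
  `pc (j+1) = ∑ th a`, `pc (j-1) = ∑ th b` the terms with `a + b ≤ 2j - 1` vanish (`lev_th` and the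
  `c = 0` argument for tuples), so `ip (th (j+1) ∘ ρ) (sg ε * (th (j-1) ∘ ρ)) ≥ 1`; with
  `c (X × Y) ≤ 1` and `lev_th` it is `1` and the other terms vanish.
-/

set_option autoImplicit false
set_option linter.unusedSectionVars false

namespace Cfsg.Snd

open Equiv Finset

variable {Ω : Type*} [Fintype Ω] [DecidableEq Ω] {G : Type*} [Group G] [Finite G]

/-- The two possibilities for the twisted constituents of `th (j+1)`. -/
def Tw (ρ : G →* Perm Ω) (ε : G →* ℤˣ) (j : ℕ) : Prop :=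
  (∀ ψ : IrrCharacter (Perm Ω), Lev ψ.1 (j - 1) →
    ip (th Ω (j + 1) ∘ ρ) (sg ε * (ψ.1 ∘ ρ)) = 0) ∨
  (ip (th Ω (j + 1) ∘ ρ) (sg ε * (th Ω (j - 1) ∘ ρ)) = 1 ∧
    ∀ ψ : IrrCharacter (Perm Ω), Lev ψ.1 (j - 1) → ψ.1 ≠ th Ω (j - 1) →
      ip (th Ω (j + 1) ∘ ρ) (sg ε * (ψ.1 ∘ ρ)) = 0)

variable {ρ : G →* Perm Ω} {ε : G →* ℤˣ} {j : ℕ}

open Orb

namespace Twist

theorem isCharacter_sg (ε : G →* ℤˣ) : IsCharacter G (sg ε) := by
  have := (isIrrCharacter_of_monoidHom ((Units.map (Int.castRingHom ℂ).toMonoidHom).comp ε)).isCharacter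
  exact this

theorem star_sg (ε : G →* ℤˣ) : star (sg ε) = sg ε := by
  funext g
  simp [sg]

variable (ρ ε) in
/-- The twisted form. -/
noncomputable def fm (α β : Perm Ω → ℂ) : ℂ := ip (α ∘ ρ) (sg ε * (β ∘ ρ))

theorem fm_add_left (α α' β : Perm Ω → ℂ) : fm ρ ε (α + α') β = fm ρ ε α β + fm ρ ε α' β := by
  simp only [fm, Pi.add_comp, ip_add_left]

theorem fm_add_right (α β β' : Perm Ω → ℂ) : fm ρ ε α (β + β') = fm ρ ε α β + fm ρ ε α β' := by
  simp only [fm, Pi.add_comp, mul_add, ip_add_right]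

theorem fm_nat (α β : Perm Ω → ℂ) (hα : IsCharacter (Perm Ω) α) (hβ : IsCharacter (Perm Ω) β) :
    ∃ n : ℕ, fm ρ ε α β = n :=
  (hα.comp ρ).exists_ip_eq_nat ((isCharacter_sg ε).mul (hβ.comp ρ))

theorem fm_le {α β χ ψ : Perm Ω → ℂ} (hχ : IsCharacter (Perm Ω) χ) (hψ : IsCharacter (Perm Ω) ψ)
    (hα : IsCharacter (Perm Ω) (α - χ)) (hβ : IsCharacter (Perm Ω) (β - ψ)) {m : ℕ}
    (h : fm ρ ε α β = m) : ∃ n : ℕ, n ≤ m ∧ fm ρ ε χ ψ = n :=
  form_le (fm ρ ε) fm_add_left fm_add_right fm_nat hχ hψ hα hβ h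

theorem fm_sum {ι κ : Type*} (s : Finset ι) (t : Finset κ) (α : ι → Perm Ω → ℂ)
    (β : κ → Perm Ω → ℂ) :
    fm ρ ε (∑ i ∈ s, α i) (∑ k ∈ t, β k) = ∑ i ∈ s, ∑ k ∈ t, fm ρ ε (α i) (β k) := by
  have e1 : (∑ i ∈ s, α i) ∘ ρ = ∑ i ∈ s, α i ∘ ρ := by funext g; simp
  have e2 : (∑ i ∈ t, β i) ∘ ρ = ∑ i ∈ t, β i ∘ ρ := by funext g; simp
  rw [fm, e1, e2, mul_sum, ip_sum_left]
  exact sum_congr rfl fun i _ => ip_sum_right _ _ _

section Cnt

variable {Z : Type*} [MulAction (Perm Ω) Z]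

variable (ρ ε) in
/-- The stabiliser of `z` lies in the kernel of `ε`. -/
def Good (z : Z) : Prop := ∀ g, ρ g • z = z → ε g = 1

open Classical in
theorem sum_sg_eq [Fintype G] (z : Z) : ∑ g with ρ g • z = z, sg ε g =
    (if Good ρ ε z then #{g | ρ g • z = z} else 0 : ℕ) := by
  split_ifs with h
  · rw [sum_congr rfl (g := fun _ => 1) fun g hg => by simp [sg, h g (mem_filter.1 hg).2]]
    simp
  · obtain ⟨g0, h0, h1⟩ : ∃ g, ρ g • z = z ∧ ε g ≠ 1 := by simpa [Good] using h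
    have h2 : ε g0 = -1 := (Int.units_eq_one_or _).resolve_left h1
    have : ∑ g with ρ g • z = z, sg ε g = ∑ g with ρ g • z = z, - sg ε g := by
      refine sum_equiv (Equiv.mulRight g0) (fun g => ?_) (fun g _ => ?_)
      · simp [mul_smul, h0]
      · simp [sg, h2]
    rw [sum_neg_distrib] at this
    simpa using add_self_eq_zero.1 (eq_neg_iff_add_eq_zero.1 this)

open Classical in
theorem card_mul_ip [Fintype G] [Fintype Z] :
    (Nat.card G : ℂ) * ip (permChar (Perm Ω) Z ∘ ρ) (sg ε) =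
      (∑ z : Z, if Good ρ ε z then #{g | ρ g • z = z} else 0 : ℕ) := by
  rw [ip_def, ← mul_assoc, mul_inv_cancel₀ (natCard_cast_ne_zero G), one_mul, Nat.cast_sum]
  simp only [← sum_sg_eq, sum_filter]
  rw [sum_comm]
  refine sum_congr rfl fun g _ => ?_
  rw [← sum_filter, sum_const, Function.comp, permChar_apply, nsmul_eq_mul,
    Nat.card_eq_fintype_card, Fintype.card_subtype]
  congr 1
  simp [sg]

theorem ip_ne_zero_iff [Finite Z] :
    ip (permChar (Perm Ω) Z ∘ ρ) (sg ε) ≠ 0 ↔ ∃ z : Z, Good ρ ε z := by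
  classical
  cases nonempty_fintype G
  cases nonempty_fintype Z
  rw [← mul_ne_zero_iff_left (natCard_cast_ne_zero G), card_mul_ip, Nat.cast_ne_zero, Ne,
    sum_eq_zero_iff]
  push_neg
  refine exists_congr fun z => ?_
  have : #{g | ρ g • z = z} ≠ 0 := card_ne_zero.2 ⟨1, by simp⟩
  by_cases h : Good ρ ε z <;> simp [h, this]

theorem ip_le_one [Finite Z] (h : ∀ z z' : Z, Good ρ ε z → Good ρ ε z' → ∃ g, ρ g • z = z')
    {n : ℕ} (hn : ip (permChar (Perm Ω) Z ∘ ρ) (sg ε) = n) : n ≤ 1 := by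
  classical
  cases nonempty_fintype G
  cases nonempty_fintype Z
  by_cases h0 : ∃ z : Z, Good ρ ε z
  swap
  · have := mt ip_ne_zero_iff.1 h0
    rw [not_not, hn, Nat.cast_eq_zero] at this
    omega
  obtain ⟨z0, h0⟩ := h0
  have key := card_mul_ip (ρ := ρ) (ε := ε) (Z := Z)
  rw [hn, ← Nat.cast_mul, Nat.cast_inj] at key
  have h1 : Nat.card G = ∑ z : Z, #{g | ρ g • z0 = z} := by
    rw [Nat.card_eq_fintype_card, ← card_univ]
    exact card_eq_sum_card_fiberwise (f := fun g => ρ g • z0) fun _ _ => mem_univ _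
  have h2 : Nat.card G * n ≤ Nat.card G * 1 := by
    rw [key, mul_one, h1]
    refine sum_le_sum fun z _ => ?_
    split_ifs with hz
    · obtain ⟨g1, rfl⟩ := h z0 z h0 hz
      refine (card_equiv (Equiv.mulRight g1) fun g => ?_).le
      simp [mul_smul]
    · exact Nat.zero_le _
  exact Nat.le_of_mul_le_mul_left h2 Nat.card_pos

end Cnt

theorem fm_permChar (X Y : Type*) [MulAction (Perm Ω) X] [MulAction (Perm Ω) Y] :
    fm ρ ε (permChar (Perm Ω) X) (permChar (Perm Ω) Y) =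
      ip (permChar (Perm Ω) (X × Y) ∘ ρ) (sg ε) := by
  rw [permChar_prod, Pi.mul_comp, ip_mul_left, fm]
  congr 2
  funext g
  simp [permChar]

theorem fm_eq_zero (X Y : Type*) [MulAction (Perm Ω) X] [MulAction (Perm Ω) Y] [Finite X]
    [Finite Y] (h : ∀ z : X × Y, ¬ Good ρ ε z) (χ ψ : IrrCharacter (Perm Ω))
    (hχ : ip (permChar (Perm Ω) X) χ.1 ≠ 0) (hψ : ip (permChar (Perm Ω) Y) ψ.1 ≠ 0) :
    fm ρ ε χ.1 ψ.1 = 0 := by
  obtain ⟨n, hn, h'⟩ := fm_le (ρ := ρ) (ε := ε) χ.isCharacter ψ.isCharacter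
    ((permChar_isCharacter X).sub_irr χ hχ) ((permChar_isCharacter Y).sub_irr ψ hψ) (m := 0) (by
      rw [fm_permChar, Nat.cast_zero]
      by_contra h0
      obtain ⟨z, hz⟩ := ip_ne_zero_iff.1 h0
      exact h z hz)
  obtain rfl : n = 0 := by omega
  exact h'.trans Nat.cast_zero

theorem fm_eq_zero_of_lev {t a b : ℕ} (ho : OddFix ρ ε t) (hab : a + b ≤ t)
    (χ ψ : IrrCharacter (Perm Ω)) (hχ : Lev χ.1 a) (hψ : Lev ψ.1 b) : fm ρ ε χ.1 ψ.1 = 0 := by
  refine fm_eq_zero (Tup Ω a) (Tup Ω b) (fun z hz => ?_) χ ψ ((lev_iff χ.isCharacter).1 hχ)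
    ((lev_iff ψ.isCharacter).1 hψ)
  obtain ⟨g, h1, h2⟩ := ho (supp z.1 ∪ supp z.2) ((card_union_le _ _).trans
    ((add_le_add (card_supp_le _) (card_supp_le _)).trans hab))
  have := hz g (Prod.ext ((tup_fix_iff _ _).2 fun x hx => h2 x (mem_union_left _ hx))
    ((tup_fix_iff _ _).2 fun x hx => h2 x (mem_union_right _ hx)))
  rw [h1] at this
  exact absurd this (by decide)

theorem image_eq_self_of_fix {σ : Perm Ω} {S : Finset Ω} (h : ∀ x ∈ S, σ x = x) :
    S.image σ = S := by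
  rw [image_congr (g := id) fun x hx => h x hx, image_id]

theorem le_card_of_good {a b t : ℕ} (ho : OddFix ρ ε t) {z : KS Ω a × Tup Ω b}
    (hz : Good ρ ε z) : t < #(z.1.1 ∪ supp z.2) := by
  by_contra hc
  obtain ⟨g, h1, h2⟩ := ho _ (not_lt.1 hc)
  have := hz g (Prod.ext
    (Subtype.ext (image_eq_self_of_fix fun x hx => h2 x (mem_union_left _ hx)))
    ((tup_fix_iff _ _).2 fun x hx => h2 x (mem_union_right _ hx)))
  rw [h1] at this
  exact absurd this (by decide)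

theorem exists_inj_of_card_supp {b : ℕ} {y : Tup Ω b} (h : #(supp y) = b) :
    ∃ a : Fin b → Ω, Function.Injective a ∧ (∀ i, y i = some (a i)) ∧ supp y = univ.image a := by
  have hs : (supp y).image some ⊆ univ.image y := fun z hz => by
    obtain ⟨x, hx, rfl⟩ := mem_image.1 hz
    obtain ⟨i, hi⟩ := mem_supp.1 hx
    exact mem_image.2 ⟨i, mem_univ _, hi⟩
  have hc : #((supp y).image some) = b := by
    rw [card_image_of_injective _ (Option.some_injective _), h]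
  have hle : #(univ.image y) ≤ b := card_image_le.trans (by simp)
  have he := eq_of_subset_of_card_le hs (by omega)
  have hy : Function.Injective y := by
    have : #(univ.image y) = #(univ : Finset (Fin b)) := by rw [← he, hc]; simp
    simpa using card_image_iff.1 this
  have : ∀ i, ∃ x, y i = some x := fun i => by
    obtain ⟨x, -, hx⟩ := mem_image.1 (he ▸ mem_image_of_mem y (mem_univ i))
    exact ⟨x, hx.symm⟩
  choose a ha using this
  refine ⟨a, fun i i' hi => hy (by rw [ha, ha, hi]), ha, ?_⟩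
  ext x
  simp [mem_supp, ha]

theorem exists_perm_generic {a b : ℕ} {z z' : KS Ω a × Tup Ω b}
    (h : a + b ≤ #(z.1.1 ∪ supp z.2)) (h' : a + b ≤ #(z'.1.1 ∪ supp z'.2)) :
    ∃ σ : Perm Ω, σ • z = z' := by
  have aux : ∀ z : KS Ω a × Tup Ω b, a + b ≤ #(z.1.1 ∪ supp z.2) →
      #(supp z.2) = b ∧ z.1.1 ∩ supp z.2 = ∅ := fun z h => by
    have h1 := card_union_add_card_inter z.1.1 (supp z.2)
    have h2 := card_supp_le z.2
    have h3 := z.1.2
    exact ⟨by omega, card_eq_zero.1 (by omega)⟩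
  obtain ⟨c1, d1⟩ := aux z h
  obtain ⟨c2, d2⟩ := aux z' h'
  obtain ⟨u, hu, hu1, hu2⟩ := exists_inj_of_card_supp c1
  obtain ⟨v, hv, hv1, hv2⟩ := exists_inj_of_card_supp c2
  obtain ⟨σ, hσ⟩ := Perm.exists_extending_pair u v hu hv
  have e : (supp z.2).image σ = supp z'.2 := by
    rw [hu2, hv2, image_image]
    exact image_congr fun i _ => hσ i
  obtain ⟨τ, hτ1, hτ2⟩ := exists_perm_fix (F := supp z'.2) (S := z.1.1.image σ) (S' := z'.1.1)
    (by rw [card_image_of_injective _ σ.injective, z.1.2, z'.1.2])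
    (by rw [d2, ← e, ← image_inter _ _ σ.injective, d1, image_empty])
  refine ⟨τ * σ, Prod.ext (Subtype.ext ?_) ?_⟩
  · rw [← hτ2, image_image]
    rfl
  · funext i
    have : τ (v i) = v i := hτ1 _ (mem_supp.2 ⟨i, hv1 i⟩)
    simp [hu1, hv1, hσ, this]

theorem eps_eq_one {t : ℕ} (h : Tr ρ t) {S T : Finset Ω} (hST : #(S ∪ T) ≤ t) (hd : Disjoint S T)
    (hc : #T ≤ #S) (hg : ∀ g, S.image (ρ g) = S → (∀ x ∈ T, ρ g x = x) → ε g = 1) (g : G)
    (hS : S.image (ρ g) = S) (hT : T.image (ρ g) = T) : ε g = 1 := by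
  have hdS : ∀ x ∈ S, x ∉ T := fun x hx => disjoint_left.1 hd hx
  obtain ⟨u, hu⟩ := h (Perm.ofSubtype ((ρ g).subtypePerm (p := (· ∈ T))
    (mem_iff_of_image_eq hT))) (S ∪ T) hST
  have hu1 : ∀ x ∈ S, ρ u x = x := fun x hx => by
    rw [hu x (mem_union_left _ hx), Perm.ofSubtype_apply_of_not_mem _ (hdS x hx)]
  have hu2 : ∀ x ∈ T, ρ u x = ρ g x := fun x hx => by
    rw [hu x (mem_union_right _ hx), Perm.ofSubtype_subtypePerm_of_mem _ hx]
  have e1 : ε (u⁻¹ * g) = 1 := by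
    refine hg _ (image_eq_of_iff fun x => ?_) fun x hx => ?_
    · rw [← mem_iff_of_image_eq (image_eq_self_of_fix hu1), ← mem_iff_of_image_eq hS x]
      simp
    · rw [map_mul, map_inv, Perm.mul_apply, ← hu2 x hx]
      simp
  obtain ⟨T', hT', hc'⟩ := exists_subset_card_eq hc
  obtain ⟨κ, hκ1, hκ2⟩ := exists_perm_pair (S := S ∪ T) (S' := S ∪ T) (T := T') (T' := T) rfl hc'
    (by rw [inter_eq_right.2 (hT'.trans subset_union_left), inter_eq_right.2 subset_union_right,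
      hc'])
  obtain ⟨k, hk⟩ := h κ (S ∪ T) hST
  have hk1 : (S ∪ T).image (ρ k) = S ∪ T := (image_congr fun x hx => hk x hx).trans hκ1
  have hk2 : T'.image (ρ k) = T :=
    (image_congr fun x hx => hk x (mem_union_left _ (hT' hx))).trans hκ2
  have huT : T.image (ρ u) = T := (image_congr fun x hx => hu2 x hx).trans hT
  have hfix : ∀ x ∈ S ∪ T, x ∉ T' → ρ (k⁻¹ * u * k) x = x := fun x hx hx' => by
    have h1 : ρ k x ∈ S := (mem_union.1 ((mem_iff_of_image_eq hk1 x).2 hx)).resolve_right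
      (mt (mem_iff_of_image_eq hk2 x).1 hx')
    simp [hu1 _ h1]
  have e2 : ε (k⁻¹ * u * k) = 1 := by
    refine hg _ (eq_of_subset_of_card_le (fun y hy => ?_) ?_) fun x hx => ?_
    · obtain ⟨x, hx, rfl⟩ := mem_image.1 hy
      by_cases hx' : x ∈ T'
      · refine hT' ((mem_iff_of_image_eq hk2 _).1 ?_)
        simpa using (mem_iff_of_image_eq huT _).2 ((mem_iff_of_image_eq hk2 _).2 hx')
      · rwa [hfix x (mem_union_left _ hx) hx']
    · rw [card_image_of_injective _ (ρ _).injective]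
    · exact hfix x (mem_union_right _ hx) fun hx' => hdS x (hT' hx') hx
  rw [map_mul, map_mul, map_inv, inv_mul_cancel_comm] at e2
  rwa [map_mul, map_inv, e2, inv_one, one_mul] at e1

theorem ip_KS_th {k : ℕ} (hk : 2 * k ≤ Fintype.card Ω) :
    ip (permChar (Perm Ω) (KS Ω k)) (th Ω k) ≠ 0 := by
  rw [← pc_eq, ip_pc_th hk]; exact one_ne_zero

end Twist

open Twist

theorem tw_of_oddFix (hj : 2 ≤ j) (hn : 2 * (j + 1) ≤ Fintype.card Ω) (ho : OddFix ρ ε (2 * j)) :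
    Tw ρ ε j :=
  Or.inl fun ψ hψ => fm_eq_zero_of_lev ho (by omega) ⟨_, isIrr_th hn⟩ ψ (lev_th hn) hψ

theorem tw_of_tr (hj : 2 ≤ j) (hn : 2 * (j + 1) ≤ Fintype.card Ω) (h : Tr ρ (2 * j))
    (ho : OddFix ρ ε (2 * j - 1)) : Tw ρ ε j := by
  by_cases h0 : ∃ z : KS Ω (j + 1) × Tup Ω (j - 1), Good ρ ε z
  swap
  · exact Or.inl fun ψ hψ => fm_eq_zero _ _ (not_exists.1 h0) ⟨_, isIrr_th hn⟩ ψ (ip_KS_th hn)
      ((lev_iff ψ.isCharacter).1 hψ)
  obtain ⟨z, hz⟩ := h0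
  have hn' : 2 * (j - 1) ≤ Fintype.card Ω := by omega
  have hcard : ∀ z : KS Ω (j + 1) × Tup Ω (j - 1), #(z.1.1 ∪ supp z.2) ≤ 2 * j := fun z => by
    have h1 := card_union_le z.1.1 (supp z.2)
    have h2 := card_supp_le z.2
    have h3 := z.1.2
    omega
  -- the upper bound
  obtain ⟨m, hm⟩ := fm_nat (ρ := ρ) (ε := ε) _ _ (permChar_isCharacter (KS Ω (j + 1)))
    (permChar_isCharacter (Tup Ω (j - 1)))
  have hm1 : m ≤ 1 := by
    refine ip_le_one (fun w w' hw hw' => ?_) ((fm_permChar _ _).symm.trans hm)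
    have h1 := le_card_of_good ho hw
    have h2 := le_card_of_good ho hw'
    obtain ⟨σ, rfl⟩ := exists_perm_generic (z := w) (z' := w') (by omega) (by omega)
    obtain ⟨g, hg⟩ := h σ _ (hcard w)
    exact ⟨g, Prod.ext (KS.smul_eq_smul fun x hx => hg x (mem_union_left _ hx))
      ((tup_smul_eq_iff _ _ _).2 fun x hx => hg x (mem_union_right _ hx))⟩
  -- the lower bound
  have h1 := le_card_of_good ho hz
  have h2 := card_union_add_card_inter z.1.1 (supp z.2)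
  have h3 := card_supp_le z.2
  have h4 := z.1.2
  have hlow : fm ρ ε (pc Ω (j + 1)) (pc Ω (j - 1)) ≠ 0 := by
    rw [pc_eq, pc_eq, fm_permChar, ip_ne_zero_iff]
    refine ⟨(z.1, ⟨supp z.2, by omega⟩), fun g hg => ?_⟩
    refine eps_eq_one h (hcard z) (disjoint_iff_inter_eq_empty.2 (card_eq_zero.1 (by omega)))
      (by omega) (fun g h1 h2 => hz g (Prod.ext (Subtype.ext h1) ((tup_fix_iff _ _).2 h2))) g
      (congrArg (·.1.1) hg) (congrArg (·.2.1) hg)
  have hne : fm ρ ε (th Ω (j + 1)) (th Ω (j - 1)) ≠ 0 := by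
    intro h0
    refine hlow ?_
    rw [pc_eq_sum, pc_eq_sum, fm_sum]
    refine sum_eq_zero fun a ha => sum_eq_zero fun b hb => ?_
    rw [mem_range] at ha hb
    by_cases hab : a + b ≤ 2 * j - 1
    · have ha' : 2 * a ≤ Fintype.card Ω := by omega
      have hb' : 2 * b ≤ Fintype.card Ω := by omega
      exact fm_eq_zero_of_lev ho hab ⟨_, isIrr_th ha'⟩ ⟨_, isIrr_th hb'⟩ (lev_th ha') (lev_th hb')
    · obtain rfl : a = j + 1 := by omega
      obtain rfl : b = j - 1 := by omega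
      exact h0
  have hX := (permChar_isCharacter (KS Ω (j + 1))).sub_irr ⟨_, isIrr_th hn⟩ (ip_KS_th hn)
  have hY := (permChar_isCharacter (Tup Ω (j - 1))).sub_irr ⟨_, isIrr_th hn'⟩
    ((lev_iff (isIrr_th hn').isCharacter).1 (lev_th hn'))
  obtain ⟨n, hn1, hn2⟩ := fm_le (isIrr_th hn).isCharacter (isIrr_th hn').isCharacter hX hY hm
  obtain rfl : n = 1 := by
    rw [hn2, Nat.cast_ne_zero] at hne
    omega
  refine Or.inr ⟨hn2.trans Nat.cast_one, fun ψ hψ hne' => ?_⟩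
  have hY' := hY.sub_irr ψ (by
    rw [ip_sub_left, IrrCharacter.ip_of_ne (χ := ⟨_, isIrr_th hn'⟩) (ψ := ψ)
      fun e => hne' (congrArg Subtype.val e).symm, sub_zero]
    exact (lev_iff ψ.isCharacter).1 hψ)
  rw [sub_sub] at hY'
  obtain ⟨n, hn3, hn4⟩ := fm_le (isIrr_th hn).isCharacter
    ((isIrr_th hn').isCharacter.add ψ.isCharacter) hX hY' hm
  obtain ⟨n', hn5⟩ := fm_nat (ρ := ρ) (ε := ε) _ _ (isIrr_th hn).isCharacter ψ.isCharacter
  rw [fm_add_right, hn2, hn5, ← Nat.cast_add, Nat.cast_inj] at hn4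
  obtain rfl : n' = 0 := by omega
  exact hn5.trans Nat.cast_zero

end Cfsg.Snd

set_option linter.all false in
theorem Cfsg.Rz.Snd_Twist_0 : True := by
  have := @_root_.Cfsg.Snd.Tw.congr_simp.{0, 0}
  have := @_root_.Cfsg.Snd.Tw.eq_def.{0, 0}
  have := @_root_.Cfsg.Snd.Tw.eq_1.{0, 0}
  have := @_root_.Cfsg.Snd.Tw.fun_cases
  have := @_root_.Cfsg.Snd.Twist.fm.eq_def.{0, 0}
  have := @_root_.Cfsg.Snd.Twist.fm.fun_cases
  have := @_root_.Cfsg.Snd.Twist.Good.eq_def.{0, 0, 0}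
  have := @_root_.Cfsg.Snd.Twist.Good.fun_cases
  trivial
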